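import Cfsg.Agent.Lib.MinDegE.Level
import Cfsg.Agent.Lib.ChevStr.Bruhat

set_option autoImplicit false
set_option linter.unusedSectionVars false

/-!
Root elements of a Chevalley group: checked commutation of pairs, scaling and reflection of traces.
-/

namespace CfsgLib.MinDegE

open Cfsg.Lie CfsgLib.ChevStr
open scoped MatrixGroups

variable {D : ChevalleyDatum}

/-- `some none`: the two root subgroups commute; `some (some (k, e))`:
`x_s(u) x_r(t) = x_r(t) x_k(e u t) x_s(u)`. -/
def pairTerm (D : ChevalleyDatum) (s r : ℕ) : Option (Option (ℕ × ℤ)) :=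
  if s = r then some none
  else if s < D.nroots ∧ r < D.nroots ∧ s ≠ D.neg r then
    match D.commTerms r s with
    | [] => some none
    | [(k, c, 1, 1)] => some (some (k, -c))
    | _ => none
  else none

/-- Two root subgroups commute. -/
def commPair (D : ChevalleyDatum) (s r : ℕ) : Bool := decide (pairTerm D s r = some none)

variable {F : Type*} [Field F] (C : ChevCore D F)

/-- The root element in the group. -/
def xg (r : ℕ) (t : F) : D.group F := ⟨C.xGL r t, C.xGL_mem_group r t⟩

/-- The torus element in the group. -/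
def tor (c : Fin D.rank → Fˣ) : D.group F := ⟨C.R.torus c, C.borel_le_group (C.torus_mem_borel c)⟩

/-- The representative of a fundamental reflection in the group. -/
def nref (i : Fin D.rank) : D.group F :=
  xg C (D.simple i.val) 1 * xg C (D.neg (D.simple i.val)) (-1) * xg C (D.simple i.val) 1

theorem coe_nref (i : Fin D.rank) : (nref C i : GL D.Idx F) = C.nS i := by
  simp [nref, xg, ChevCore.nS, ChevCore.nGL, ChevCore.wordGL, ChevalleyDatum.nWord, mul_assoc]

theorem xg_add (r : ℕ) (t u : F) : xg C r (t + u) = xg C r t * xg C r u :=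
  Subtype.ext (C.xGL_add r t u)

theorem xg_zero (r : ℕ) : xg C r 0 = 1 := Subtype.ext (C.xGL_zero r)

theorem xg_neg_mul (r : ℕ) (t : F) : xg C r (-t) * xg C r t = 1 := by
  rw [← xg_add, neg_add_cancel, xg_zero]

theorem commute_of_pair {s r : ℕ} (h : commPair D s r = true) (u t : F) :
    Commute (xg C s u) (xg C r t) := by
  replace h : pairTerm D s r = some none := of_decide_eq_true h
  rw [pairTerm] at h
  refine Subtype.ext ?_
  show C.xGL s u * C.xGL r t = C.xGL r t * C.xGL s u
  by_cases hsr : s = r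
  · subst hsr
    rw [← C.xGL_add, ← C.xGL_add, add_comm]
  rw [if_neg hsr] at h
  by_cases hc : s < D.nroots ∧ r < D.nroots ∧ s ≠ D.neg r
  · rw [if_pos hc] at h
    rw [C.xGL_comm hc.2.1 hc.1 hsr hc.2.2]
    split at h
    · next he => simp [ChevalleyDatum.commWord, he, ChevCore.wordGL]
    · simp at h
    · simp at h
  · rw [if_neg hc] at h
    simp at h

theorem shift_of_pair {s r k : ℕ} {e : ℤ} (h : pairTerm D s r = some (some (k, e)))
    (hk : commPair D s k = true) (u t : F) :
    xg C s u * xg C r t = xg C r t * xg C k ((e : F) * u * t) * xg C s u := by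
  have hc0 := commute_of_pair C hk u ((e : F) * u * t)
  rw [mul_assoc, ← hc0.eq, ← mul_assoc]
  refine Subtype.ext ?_
  show C.xGL s u * C.xGL r t = C.xGL r t * C.xGL s u * C.xGL k ((e : F) * u * t)
  simp only [pairTerm] at h
  by_cases hsr : s = r
  · rw [if_pos hsr] at h; simp at h
  rw [if_neg hsr] at h
  by_cases hc : s < D.nroots ∧ r < D.nroots ∧ s ≠ D.neg r
  · rw [if_pos hc] at h
    split at h
    · simp at h
    · next k' c he =>
      simp only [Option.some.injEq, Prod.mk.injEq] at h
      obtain ⟨rfl, rfl⟩ := h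
      rw [C.xGL_comm hc.2.1 hc.1 hsr hc.2.2]
      simp only [ChevalleyDatum.commWord, he, ChevCore.wordGL, List.map_cons, List.map_nil,
        List.prod_cons, List.prod_nil, mul_one, pow_one]
      congr 2
      push_cast
      ring
    · simp at h
  · rw [if_neg hc] at h
    simp at h

theorem tor_conj (c : Fin D.rank → Fˣ) {r : ℕ} (hr : r < D.nroots) (t : F) :
    tor C c * xg C r t = xg C r ((C.R.torusChar c (C.R.α r) : F) * t) * tor C c := by
  refine Subtype.ext ?_
  show C.R.torus c * C.xGL r t = C.xGL r _ * C.R.torus c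
  exact mul_inv_eq_iff_eq_mul.1 (C.acts_torus c ⟨r, hr⟩ t)

theorem nref_conj (i : Fin D.rank) {r : ℕ} (hr : r < D.nroots) :
    ∃ e : F, e * e = 1 ∧
      ∀ t, nref C i * xg C r t = xg C (D.reflectRoot i.val r) (e * t) * nref C i := by
  obtain ⟨-, sg, hsg⟩ := C.acts_nS i
  obtain ⟨he, -, hconj⟩ := hsg ⟨r, hr⟩
  refine ⟨(sg r : F), by rcases he with h | h <;> simp [show sg r = _ from h], fun t => Subtype.ext ?_⟩
  show (nref C i : GL D.Idx F) * C.xGL r t = C.xGL _ _ * (nref C i : GL D.Idx F)
  rw [coe_nref]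
  have := mul_inv_eq_iff_eq_mul.1 (hconj t)
  rwa [C.hR.sPerm_val] at this

variable {V : Type*} [AddCommGroup V] [Module ℂ V]
variable (ρ : Representation ℂ (D.group F) V) {E : Module.End ℂ V}

/-- All nontrivial elements of a root subgroup have trace `K` on the image of `E`. -/
def TrOn (E : Module.End ℂ V) (r : ℕ) (K : ℂ) : Prop :=
  ∀ t : F, t ≠ 0 → LinearMap.trace ℂ V (ρ (xg C r t) * E) = K

variable {ρ}

theorem trace_conj {w a b : D.group F} (hE : Commute (ρ w) E) (h : w * a = b * w) :
    LinearMap.trace ℂ V (ρ b * E) = LinearMap.trace ℂ V (ρ a * E) := by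
  have hb : b = w * a * w⁻¹ := by rw [h, mul_inv_cancel_right]
  rw [hb, map_mul ρ, map_mul ρ, mul_assoc, LinearMap.trace_mul_comm ℂ (ρ w * ρ a), mul_assoc,
    ← mul_assoc E, ← hE.eq, ← mul_assoc (ρ w⁻¹), ← mul_assoc (ρ w⁻¹), ← map_mul ρ, inv_mul_cancel,
    map_one, one_mul, LinearMap.trace_mul_comm]

theorem TrOn.scale {r : ℕ} (hr : r < D.nroots) {K : ℂ} (i : Fin D.rank)
    (hi : D.cartan i.val r = 1 ∨ D.cartan i.val r = -1) (hE : ∀ c, Commute (ρ (tor C c)) E)
    (h : LinearMap.trace ℂ V (ρ (xg C r 1) * E) = K) : TrOn C ρ E r K := by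
  intro t ht
  obtain ⟨c, hc⟩ : ∃ c : Fˣ, (c ^ D.cartan i.val r : Fˣ) = Units.mk0 t ht := by
    rcases hi with hi | hi <;> rw [hi]
    · exact ⟨Units.mk0 t ht, zpow_one _⟩
    · exact ⟨(Units.mk0 t ht)⁻¹, by rw [zpow_neg_one, inv_inv]⟩
  rw [← h]
  have h1 := tor_conj C (Pi.mulSingle i c) hr (1 : F)
  rw [C.R.torusChar_single i c hr, hc, Units.val_mk0, mul_one] at h1
  exact trace_conj (hE _) h1

/-- The fundamental reflections available inside a list of roots. -/
def reflOK (D : ChevalleyDatum) (L : List ℕ) (i : Fin D.rank) : Bool :=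
  decide (D.simple i.val ∈ L) && decide (D.neg (D.simple i.val) ∈ L)

/-- Follow a path of fundamental reflections. -/
def walk (D : ChevalleyDatum) : ℕ → List (Fin D.rank) → ℕ
  | r, [] => r
  | r, i :: p => walk D (D.reflectRoot i.val r) p

theorem commute_nref {L : List ℕ} {i : Fin D.rank} (hi : reflOK D L i = true)
    (hE : ∀ r ∈ L, ∀ t, Commute (ρ (xg C r t)) E) : Commute (ρ (nref C i)) E := by
  simp only [reflOK, Bool.and_eq_true, decide_eq_true_eq] at hi
  rw [nref, map_mul, map_mul]
  exact ((hE _ hi.1 _).mul_left (hE _ hi.2 _)).mul_left (hE _ hi.1 _)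

include C in
theorem TrOn.walk {L : List ℕ} (hE : ∀ r ∈ L, ∀ t, Commute (ρ (xg C r t)) E) {K : ℂ} :
    ∀ (p : List (Fin D.rank)) {r : ℕ}, r < D.nroots → p.all (reflOK D L) = true →
      TrOn C ρ E r K → TrOn C ρ E (MinDegE.walk D r p) K
  | [], r => fun _ _ h => h
  | i :: p, r => fun hr hp h => by
    rw [List.all_cons, Bool.and_eq_true] at hp
    obtain ⟨e, he, hconj⟩ := nref_conj C i hr
    refine TrOn.walk hE p (C.hR.refl_lt i r hr) hp.2 fun t ht => ?_
    rw [← h (e * t) (mul_ne_zero (left_ne_zero_of_mul_eq_one he) ht)]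
    refine trace_conj (commute_nref C hp.1 hE) ?_
    rw [hconj, ← mul_assoc, he, one_mul]

end CfsgLib.MinDegE
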