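import Cfsg.Agent.Lib.ChevStr.PoincareTables

set_option autoImplicit false

/-!
Degrees just below a polynomial bound excluded by a divisibility.
-/

namespace CfsgLib.MinDegE

open CfsgLib.ChevStr

/-- The sum of the absolute values of the coefficients. -/
def sumAbs (p : List ℤ) : ℤ := (p.map fun c => |c|).sum

theorem sumAbs_nonneg : ∀ p : List ℤ, 0 ≤ sumAbs p
  | [] => le_refl _
  | c :: p => by
    have h := sumAbs_nonneg p
    simp only [sumAbs, List.map_cons, List.sum_cons] at h ⊢
    linarith [abs_nonneg c]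

theorem polyEval_zeros : ∀ p : List ℤ, p.all (fun c => decide (c = 0)) = true → ∀ q : ℤ, polyEval p q = 0
  | [], _, _ => rfl
  | c :: p, h, q => by
    rw [List.all_cons, Bool.and_eq_true, decide_eq_true_eq] at h
    rw [polyEval_cons, h.1, polyEval_zeros p h.2 q]; ring

/-- Two coefficient lists define the same polynomial. -/
def samePoly (a b : List ℤ) : Bool := (polyAdd a (b.map ((-1) * ·))).all fun c => decide (c = 0)

theorem samePoly_eval {a b : List ℤ} (h : samePoly a b = true) (q : ℤ) : polyEval a q = polyEval b q := by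
  have := polyEval_zeros _ h q
  rw [polyEval_add, polyEval_smul] at this
  linarith

theorem abs_polyEval_mul_le {q : ℤ} (hq : 1 ≤ q) :
    ∀ p : List ℤ, |polyEval p q| * q ≤ sumAbs p * q ^ p.length
  | [] => by simp [polyEval_nil, sumAbs]
  | c :: p => by
    have h := abs_polyEval_mul_le hq p
    rw [polyEval_cons]
    have hs : sumAbs (c :: p) = |c| + sumAbs p := by simp [sumAbs]
    have h1 : |c + q * polyEval p q| ≤ |c| + q * |polyEval p q| := by
      refine (abs_add_le _ _).trans (le_of_eq ?_)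
      rw [abs_mul, abs_of_pos (by omega : 0 < q)]
    have hp : q ≤ q ^ (c :: p).length := by
      conv_lhs => rw [← pow_one q]
      exact pow_le_pow_right₀ hq (by simp)
    calc |c + q * polyEval p q| * q ≤ (|c| + q * |polyEval p q|) * q := by gcongr
      _ = |c| * q + q * (|polyEval p q| * q) := by ring
      _ ≤ |c| * q ^ (c :: p).length + q * (sumAbs p * q ^ p.length) := by gcongr
      _ = sumAbs (c :: p) * q ^ (c :: p).length := by rw [hs, List.length_cons, pow_succ]; ring

theorem polyEval_snoc (q c : ℤ) : ∀ p : List ℤ, polyEval (p ++ [c]) q = polyEval p q + c * q ^ p.length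
  | [] => by simp [polyEval_cons, polyEval_nil]
  | a :: p => by
    rw [List.cons_append, polyEval_cons, polyEval_cons, polyEval_snoc q c p, List.length_cons, pow_succ]
    ring

/-- A remainder with dominant leading coefficient is small and nonzero. -/
theorem rem_bound {low : List ℤ} {c q N : ℤ} (hc : c ≠ 0) (hq : sumAbs low + |c| < q)
    (hN : q ^ (low.length + 1) ≤ N) :
    |polyEval (low ++ [c]) q| < N ∧ polyEval (low ++ [c]) q ≠ 0 := by
  have hs := sumAbs_nonneg low
  have hc1 : 1 ≤ |c| := Int.one_le_abs hc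
  have hq1 : 1 ≤ q := by omega
  have hp : 0 < q ^ low.length := pow_pos (by omega) _
  have h := abs_polyEval_mul_le hq1 low
  rw [polyEval_snoc]
  constructor
  · have h1 : |polyEval low q + c * q ^ low.length| * q ≤ (sumAbs low + |c| * q) * q ^ low.length := by
      refine le_trans (mul_le_mul_of_nonneg_right (abs_add_le _ _) (by omega)) ?_
      rw [abs_mul, abs_of_pos hp]
      nlinarith
    rw [pow_succ] at hN
    have h2 : sumAbs low + |c| * q < q * q := by nlinarith
    have h3 : |polyEval low q + c * q ^ low.length| * q < q ^ low.length * q * q := by nlinarith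
    have h4 := lt_of_mul_lt_mul_right h3 (by omega : (0 : ℤ) ≤ q)
    linarith
  · intro h0
    have h1 : |polyEval low q| = |c| * q ^ low.length := by
      rw [eq_neg_of_add_eq_zero_left h0, abs_neg, abs_mul, abs_of_pos hp]
    rw [h1] at h
    have h2 : |c| * q ≤ sumAbs low := le_of_mul_le_mul_right (by linarith) hp
    nlinarith

/-- A divisor of `M q ^ e` congruent to `-j` modulo the prime power `q > j` divides `M j`. -/
theorem dvd_mul_of_congr {q n j X M e : ℕ} (hpp : IsPrimePow q) (hn : n + j = q * X) (hj : 0 < j)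
    (hjq : j < q) (hdvd : n ∣ M * q ^ e) : n ∣ M * j := by
  obtain ⟨p, a, hp, ha, rfl⟩ := (isPrimePow_nat_iff q).1 hpp
  set g := Nat.gcd n ((p ^ a) ^ e) with hg
  obtain ⟨i, -, hi⟩ := (Nat.dvd_prime_pow hp).1 (show g ∣ p ^ (a * e) by
    rw [pow_mul]; exact Nat.gcd_dvd_right _ _)
  have hgn : g ∣ n := Nat.gcd_dvd_left _ _
  have hia : i ≤ a := by
    by_contra h
    have h1 : p ^ a ∣ n := (pow_dvd_pow p (by omega : a ≤ i)).trans (hi ▸ hgn)
    have h2 : p ^ a ∣ j := (Nat.dvd_add_right h1).1 (hn ▸ dvd_mul_right _ _)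
    exact absurd (Nat.le_of_dvd hj h2) (by omega)
  have hgq : g ∣ p ^ a := hi ▸ pow_dvd_pow p hia
  have hgj : g ∣ j := (Nat.dvd_add_right hgn).1 (hn ▸ hgq.mul_right _)
  have h3 : n ∣ M * g := by
    rw [hg, ← Nat.gcd_mul_left]
    exact Nat.dvd_gcd (dvd_mul_left _ _) hdvd
  exact h3.trans (mul_dvd_mul_left M hgj)

/-- Certificate: quotient, lower coefficients and leading coefficient of a remainder. -/
structure RemCert where
  quo : List ℤ
  low : List ℤ
  lead : ℤ

/-- The remainders of `M j` modulo `T - j` are right and small beyond `th`. -/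
def remOK (Mp Tp : List ℤ) (d th : ℕ) (cs : List RemCert) : Bool :=
  (List.range cs.length).all fun i =>
    let c := cs.getD i ⟨[], [], 0⟩
    samePoly (polyMul Mp [(i : ℤ) + 1])
        (polyAdd (polyMul c.quo (polyAdd Tp [-((i : ℤ) + 1)])) (c.low ++ [c.lead])) &&
      decide (c.lead ≠ 0) && decide (sumAbs c.low + |c.lead| ≤ (th : ℤ)) && decide (c.low.length ≤ d)

/-- No degree just below the bound divides `M q ^ e`, for one small parameter. -/
def smallAt (Mp Tp : List ℤ) (e J q : ℕ) : Bool :=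
  (List.range J).all fun i =>
    decide ((polyEval Mp (q : ℤ) * (q : ℤ) ^ e) % (polyEval Tp (q : ℤ) - ((i : ℤ) + 1)) ≠ 0)

theorem small_spec {Mp Tp : List ℤ} {e J q : ℕ} (h : smallAt Mp Tp e J q = true) {n j : ℕ}
    (hj : 0 < j) (hjJ : j ≤ J) (hn : (n : ℤ) + j = polyEval Tp q)
    (hdvd : (n : ℤ) ∣ polyEval Mp q * (q : ℤ) ^ e) : False := by
  simp only [smallAt, List.all_eq_true, List.mem_range, decide_eq_true_eq] at h
  refine h (j - 1) (by omega) (Int.emod_eq_zero_of_dvd ?_)
  rwa [show polyEval Tp (q : ℤ) - (((j - 1 : ℕ) : ℤ) + 1) = (n : ℤ) by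
    rw [Nat.cast_sub (by omega : 1 ≤ j)]; push_cast; linarith]

theorem large_spec {Mp Tp : List ℤ} {d th e : ℕ} {cs : List RemCert} (h : remOK Mp Tp d th cs = true)
    {q n j M X : ℕ} (hpp : IsPrimePow q) (hth : th < q) (hj : 0 < j) (hjJ : j ≤ cs.length)
    (hJth : cs.length ≤ th) (hX : n + j = q * X) (hn : (n : ℤ) + j = polyEval Tp q)
    (hM : (M : ℤ) = polyEval Mp q) (hbig : q ^ (d + 1) ≤ n) (hdvd : n ∣ M * q ^ e) : False := by
  have h1 := dvd_mul_of_congr hpp hX hj (by omega) hdvd
  simp only [remOK, List.all_eq_true, List.mem_range, Bool.and_eq_true, decide_eq_true_eq] at h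
  obtain ⟨⟨⟨hsame, hlead⟩, hsum⟩, hlen⟩ := h (j - 1) (by omega)
  set c := cs.getD (j - 1) ⟨[], [], 0⟩
  have hj' : (((j - 1 : ℕ) : ℤ) + 1) = (j : ℤ) := by rw [Nat.cast_sub (by omega : 1 ≤ j)]; ring
  have he := samePoly_eval hsame q
  rw [polyEval_mul, polyEval_add, polyEval_mul, polyEval_add, hj'] at he
  simp only [polyEval_cons, polyEval_nil, mul_zero, add_zero] at he
  rw [← hM, ← hn] at he
  have hq : (1 : ℤ) ≤ q := by omega
  have hN : (q : ℤ) ^ (c.low.length + 1) ≤ (n : ℤ) := by
    calc (q : ℤ) ^ (c.low.length + 1) ≤ (q : ℤ) ^ (d + 1) := pow_le_pow_right₀ hq (by omega)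
      _ ≤ n := by exact_mod_cast hbig
  obtain ⟨hlt, hne⟩ := rem_bound hlead (by omega) hN
  refine hne (Int.eq_zero_of_abs_lt_dvd ?_ hlt)
  have h2 : (n : ℤ) ∣ (M : ℤ) * j := by exact_mod_cast Int.natCast_dvd_natCast.2 h1
  rw [he] at h2
  refine (Int.dvd_add_right (dvd_mul_of_dvd_right ?_ _)).1 h2
  rw [show (n : ℤ) + j + -(j : ℤ) = n by ring]

end CfsgLib.MinDegE
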