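import Cfsg.Agent.Lib.MinDegE.DataE6

set_option autoImplicit false

/-! The certificate of type E6 checked by evaluation in the kernel. -/

namespace CfsgLib.MinDegE

theorem rootsE6 : hE6.okRoots = true := by decide +kernel

theorem polE6 : hE6.okPol = true := by decide +kernel

theorem chainE6 : hE6.okChain = true := by decide +kernel

theorem rootsE6Two : hE6Two.okRoots = true := by decide +kernel

theorem polE6Two : hE6Two.okPol = true := by decide +kernel

theorem chainE6Two : hE6Two.okChain = true := by decide +kernel

theorem arithE6 : degE6.okArith = true := by decide +kernel

theorem twoE6 : degE6.okTwo = true := by decide +kernel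

theorem smallE6 : degE6.okSmall = true := by decide +kernel

theorem poincE6 : degE6.okPoinc = true := by decide +kernel

end CfsgLib.MinDegE
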