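import Cfsg.Agent.Lib.MinDegE.DataE8

set_option autoImplicit false

/-! Parts of the certificate of type E8 checked by evaluation in the kernel. -/

namespace CfsgLib.MinDegE

set_option maxHeartbeats 4000000 in
-- evaluation of the coordinate certificates in the kernel
theorem betaE8 : lvE8_0.betaOK = true := by decide +kernel

end CfsgLib.MinDegE
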