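import Cfsg.Agent.Lib.MinDegE.DataE8

set_option autoImplicit false

/-! Parts of the certificate of type E8 checked by evaluation in the kernel. -/

namespace CfsgLib.MinDegE

set_option maxHeartbeats 4000000 in
-- evaluation of the passage in the kernel
theorem passE8 : lvE8_0.passOK lvE8_1 true = true := by decide +kernel

set_option maxHeartbeats 4000000 in
-- evaluation of the commutation in the kernel
theorem commE8 : ((List.finRange lvE8_0.k).all fun i => (List.finRange lvE8_0.k).all fun j =>
    decide (j ≤ i) || commPair Cfsg.Lie.chevE8 (lvE8_0.root i) (lvE8_0.root j) ||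
      decide (pairTerm Cfsg.Lie.chevE8 (lvE8_0.root i) (lvE8_0.root j) = some (some (hE8.alpha, 1)) ∨
        pairTerm Cfsg.Lie.chevE8 (lvE8_0.root i) (lvE8_0.root j) = some (some (hE8.alpha, -1)))) = true := by
  decide +kernel

end CfsgLib.MinDegE
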