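import Cfsg.Agent.Lib.MinDegE.CertE8Tbl
import Cfsg.Agent.Lib.MinDegE.CertE8Beta
import Cfsg.Agent.Lib.MinDegE.CertE8Pass
import Cfsg.Agent.Lib.MinDegE.CertE8Rest

set_option autoImplicit false

/-! The certificate of type E8 checked by evaluation in the kernel. -/

namespace CfsgLib.MinDegE

theorem rootsE8 : hE8.okRoots = true := by decide +kernel

theorem polE8 : hE8.okPol = true := by decide +kernel

theorem chainE8 : hE8.okChain = true := by
  simp only [HData.okChain, Bool.and_eq_true]
  exact ⟨⟨⟨⟨⟨⟨⟨tblE8, commE8⟩, betaE8⟩, by decide +kernel⟩, by decide +kernel⟩, passE8⟩, restE8⟩,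
    by decide +kernel⟩

theorem rootsE8Two : hE8Two.okRoots = true := by decide +kernel

theorem polE8Two : hE8Two.okPol = true := by decide +kernel

theorem chainE8Two : hE8Two.okChain = true := by
  simp only [HData.okChain, Bool.and_eq_true]
  exact ⟨⟨⟨⟨⟨⟨⟨tblE8, commE8⟩, betaE8⟩, by decide +kernel⟩, by decide +kernel⟩, passE8⟩, restE8Two⟩,
    by decide +kernel⟩

theorem arithE8 : degE8.okArith = true := by decide +kernel

theorem twoE8 : degE8.okTwo = true := by decide +kernel

theorem smallE8 : degE8.okSmall = true := by decide +kernel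

theorem poincE8 : degE8.okPoinc = true := by decide +kernel

end CfsgLib.MinDegE
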