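import Cfsg.Agent.Lib.MinDegE.DataE8

set_option autoImplicit false

/-! The commutator table of the top level of type E8 checked by evaluation in the kernel, in slices. -/

namespace CfsgLib.MinDegE

open Cfsg.Lie

/-- The check of one acting root. -/
def rowE8 (δ : ℕ) : Bool :=
  (List.finRange lvE8_0.k).all fun i =>
    match lvE8_0.act δ i with
    | none => commPair chevE8 (lvE8_0.lroot δ) (lvE8_0.root i)
    | some (l, e) =>
        decide (pairTerm chevE8 (lvE8_0.lroot δ) (lvE8_0.root i) = some (some (lvE8_0.root l, e))) &&
        (lvE8_0.act δ l).isNone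

theorem rowsE8_0 : (List.range' 0 14).all rowE8 = true := by decide +kernel

theorem rowsE8_14 : (List.range' 14 14).all rowE8 = true := by decide +kernel

theorem rowsE8_28 : (List.range' 28 14).all rowE8 = true := by decide +kernel

theorem rowsE8_42 : (List.range' 42 14).all rowE8 = true := by decide +kernel

theorem rowsE8_56 : (List.range' 56 14).all rowE8 = true := by decide +kernel

theorem rowsE8_70 : (List.range' 70 14).all rowE8 = true := by decide +kernel

theorem rowsE8_84 : (List.range' 84 14).all rowE8 = true := by decide +kernel

theorem rowsE8_98 : (List.range' 98 14).all rowE8 = true := by decide +kernel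

theorem rowsE8_112 : (List.range' 112 14).all rowE8 = true := by decide +kernel

set_option maxRecDepth 20000 in
theorem tblE8 : lvE8_0.tblOK = true := by
  have hsplit : List.range lvE8_0.L.length = List.range' 0 14 ++ List.range' 14 14 ++ List.range' 28 14 ++ List.range' 42 14 ++ List.range' 56 14 ++ List.range' 70 14 ++ List.range' 84 14 ++ List.range' 98 14 ++ List.range' 112 14 := by decide +kernel
  have h1 : lvE8_0.R.all (fun r => decide (r < chevE8.nroots)) = true := by decide +kernel
  have h2 : lvE8_0.L.all (fun r => decide (r < chevE8.nroots)) = true := by decide +kernel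
  have h3 : decide (lvE8_0.R.length = lvE8_0.k) = true := by decide +kernel
  have h4 : (List.range lvE8_0.L.length).all rowE8 = true := by
    simp only [hsplit, List.all_append, rowsE8_0, rowsE8_14, rowsE8_28, rowsE8_42,
      rowsE8_56, rowsE8_70, rowsE8_84, rowsE8_98, rowsE8_112, Bool.and_true]
  simp only [Lvl.tblOK, Bool.and_eq_true]
  exact ⟨⟨⟨h1, h2⟩, h3⟩, h4⟩

end CfsgLib.MinDegE
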