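import Cfsg.Agent.Lib.MinDegE.Lvl

set_option autoImplicit false
set_option linter.unusedSectionVars false

/-!
The descent along a certified chain of parabolic subgroups.
-/

namespace CfsgLib.MinDegE

open Cfsg.Lie CfsgLib.ChevStr
open scoped MatrixGroups

variable {D : ChevalleyDatum}

namespace Lvl

/-- The `n`-th path leads from the top root to `target`. -/
def pathOK (lv : Lvl D) (n target : ℕ) : Bool :=
  (lv.paths.getD n []).all (reflOK D lv.L) &&
    decide (walk D (lv.lroot lv.g) (lv.paths.getD n []) = target)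

/-- The root data of the passage to the next level. -/
def passOK (lv lv' : Lvl D) (more : Bool) : Bool :=
  lv.phOK && (lv.scale.take 1).any (fun i => decide
      (D.cartan i.val (lv.lroot lv.g) = 1 ∨ D.cartan i.val (lv.lroot lv.g) = -1)) &&
    ((List.finRange lv'.k).all fun i => lv.pathOK i.val (lv'.root i)) &&
    (!more || lv.pathOK lv'.k (lv'.lroot lv'.g)) &&
    (lv'.R.all fun r => decide (r ∈ lv.L)) && (lv'.L.all fun r => decide (r ∈ lv.L))

/-- The passage to the next level. -/
def linkOK (lv lv' : Lvl D) (more : Bool) : Bool :=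
  lv.passOK lv' more &&
    decide (((lv.a + 1) :: lv.mups).isPerm ((lv'.a + 1) :: lv.mups.map (· + 1)) = true)

end Lvl

/-- A certified chain. -/
def chainOK : List (Lvl D) → Bool
  | [] => true
  | [lv] => lv.tblOK && lv.commOK && lv.betaOK
  | lv :: lv' :: rest => lv.tblOK && lv.commOK && lv.betaOK && lv.linkOK lv' (!rest.isEmpty) && chainOK (lv' :: rest)

/-- The exponents of all strata of a chain. -/
def allUps : List (Lvl D) → List ℕ
  | [] => []
  | lv :: rest => lv.ups ++ allUps rest

/-- A torus element is needed in one of the passages. -/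
def anyTor : List (Lvl D) → Bool
  | [] => false
  | [_] => false
  | lv :: lv' :: rest => lv.needTor || anyTor (lv' :: rest)

variable {F : Type*} [Field F] [Fintype F] [DecidableEq F] (C : ChevCore D F)
variable {V : Type*} [AddCommGroup V] [Module ℂ V] [FiniteDimensional ℂ V]
variable {ρ : Representation ℂ (D.group F) V}

/-- What is known on the fixed space when a level starts. -/
structure Start (ρ : Representation ℂ (D.group F) V) (E : Module.End ℂ V) (lv : Lvl D) (more : Bool) :
    Prop where
  idem : E * E = E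
  commR : ∀ r ∈ lv.R, ∀ t, Commute (ρ (xg C r t)) E
  commL : ∀ r ∈ lv.L, ∀ t, Commute (ρ (xg C r t)) E
  commT : ∀ c, Commute (ρ (tor C c)) E
  trR : ∀ i, TrOn C ρ E (lv.root i)
    (LinearMap.trace ℂ V E - (Fintype.card F : ℂ) ^ (lv.a + 1))
  trG : more = true → TrOn C ρ E (lv.lroot lv.g)
    (LinearMap.trace ℂ V E - (Fintype.card F : ℂ) ^ (lv.a + 1))

/-- The next level starts where the top root element has the right defect. -/
theorem Start.next {E' : Module.End ℂ V} {lv lv' : Lvl D} {more : Bool} (hlink : lv.passOK lv' more = true)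
    (hT : lv.tblOK = true) (hI : E' * E' = E') (hL : ∀ r ∈ lv.L, ∀ t, Commute (ρ (xg C r t)) E')
    (hc : ∀ c, Commute (ρ (tor C c)) E')
    (htr : LinearMap.trace ℂ V (ρ (xg C (lv.lroot lv.g) 1) * E') =
      LinearMap.trace ℂ V E' - (Fintype.card F : ℂ) ^ (lv'.a + 1)) :
    Start C ρ E' lv' more := by
  simp only [Lvl.passOK, Bool.and_eq_true, List.all_eq_true, decide_eq_true_eq, List.any_eq_true] at hlink
  obtain ⟨⟨⟨⟨⟨hph, i, -, hi⟩, hpR⟩, hpG⟩, hsR⟩, hsL⟩ := hlink
  simp only [Lvl.phOK, Bool.and_eq_true, decide_eq_true_eq] at hph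
  have hlt := lv.lroot_lt hT hph.1
  have hG := TrOn.scale C hlt i hi hc htr
  have hw : ∀ n tgt, lv.pathOK n tgt = true → TrOn C ρ E' tgt
      (LinearMap.trace ℂ V E' - (Fintype.card F : ℂ) ^ (lv'.a + 1)) := by
    intro n tgt h
    simp only [Lvl.pathOK, Bool.and_eq_true, decide_eq_true_eq] at h
    rw [← h.2]
    exact TrOn.walk C hL _ hlt h.1 hG
  exact ⟨hI, fun r hr => hL r (hsR r hr), fun r hr => hL r (hsL r hr), hc,
    fun j => hw _ _ (hpR j (List.mem_finRange j)), fun hm => hw _ _ (by simpa [hm] using hpG)⟩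

/-- The contribution of a chain to the dimension. -/
theorem chain_bound : ∀ (l : List (Lvl D)) (lv : Lvl D), chainOK (lv :: l) = true →
    (anyTor (lv :: l) = true → 3 ≤ Fintype.card F) → ∀ E : Module.End ℂ V,
    Start C ρ E lv (!l.isEmpty) → ∃ r : ℕ, LinearMap.trace ℂ V E =
      (r : ℂ) + ((Fintype.card F : ℂ) - 1) * (psum (Fintype.card F) (allUps (lv :: l)) : ℂ)
  | [], lv => fun hok _ E st => by
    simp only [chainOK, Bool.and_eq_true] at hok
    have hlen : lv.R.length = lv.k := by
      have := hok.1.1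
      simp only [Lvl.tblOK, Bool.and_eq_true, decide_eq_true_eq] at this
      exact this.1.2
    let Φ := lv.fam C st.idem st.commR
      (fun i j t u => by rw [← map_mul, (lv.comm_roots C hok.1.2 i j t u).eq, map_mul]) hlen
    obtain ⟨h1, -⟩ := lv.step C hok.1.1 hok.2 (Φ := Φ) rfl st.commL st.commT st.trR
    refine ⟨Φ.dimPr 0, ?_⟩
    rw [allUps, allUps, List.append_nil, ← Φ.trace_pr]
    exact h1
  | lv' :: rest, lv => fun hok htor E st => by
    simp only [chainOK, Bool.and_eq_true] at hok
    obtain ⟨⟨⟨⟨hT, hK⟩, hB⟩, hlink⟩, hrest⟩ := hok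
    have hlen : lv.R.length = lv.k := by
      have := hT
      simp only [Lvl.tblOK, Bool.and_eq_true, decide_eq_true_eq] at this
      exact this.1.2
    let Φ := lv.fam C st.idem st.commR
      (fun i j t u => by rw [← map_mul, (lv.comm_roots C hK i j t u).eq, map_mul]) hlen
    obtain ⟨h1, h2, h3, h4⟩ := lv.step C hT hB (Φ := Φ) rfl st.commL st.commT st.trR
    have hlink' := hlink
    simp only [Lvl.linkOK, Bool.and_eq_true, decide_eq_true_eq] at hlink'
    obtain ⟨hpass, hperm⟩ := hlink'
    have hph : lv.phOK = true := by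
      have := hpass
      simp only [Lvl.passOK, Bool.and_eq_true] at this
      exact this.1.1.1.1.1
    have hg := h4 hph (fun h => htor (by simp [anyTor, h])) _
      (st.trG (by simp) 1 one_ne_zero)
    have hD : ((Fintype.card F : ℂ) ^ (lv.a + 1)) -
        ((Fintype.card F : ℂ) - 1) * (psum (Fintype.card F) lv.mups : ℂ) =
        (Fintype.card F : ℂ) ^ (lv'.a + 1) := by
      have h := congrArg (fun n : ℕ => (n : ℂ)) (psum_perm (Fintype.card F) (List.isPerm_iff.1 hperm))
      simp only [psum_cons, psum_succ, Nat.cast_add, Nat.cast_pow, Nat.cast_mul] at h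
      linear_combination h
    rw [hD] at hg
    have st' : Start C ρ (Φ.pr 0) lv' (!rest.isEmpty) :=
      Start.next C hpass hT (by rw [Φ.pr_mul_pr, if_pos rfl]) h2 h3 hg
    obtain ⟨r, hr⟩ := chain_bound rest lv' hrest
      (fun h => htor (by simp [anyTor, h])) (Φ.pr 0) st'
    refine ⟨r, ?_⟩
    rw [show LinearMap.trace ℂ V E = LinearMap.trace ℂ V Φ.E from rfl, h1, hr,
      show allUps (lv :: lv' :: rest) = lv.ups ++ allUps (lv' :: rest) from rfl, psum_append,
      Nat.cast_add]
    ring

end CfsgLib.MinDegE
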