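import Cfsg.Agent.Lib.MinDegE.Conn
import Cfsg.Agent.Lib.LargeRee.StableParabolic
import Cfsg.Agent.Lib.Characters.Values

set_option autoImplicit false
set_option linter.unusedSectionVars false

/-!
The size of the class of a long root element divides `(q - 1)` times the index of its parabolic.
-/

namespace CfsgLib.MinDegE

open Cfsg.Lie CfsgLib.ChevStr CfsgLib.SteinbergChar
open scoped MatrixGroups

variable {D : ChevalleyDatum}

/-- The size of a class. -/
theorem card_isConj_eq_index {X : Type*} [Group X] [Finite X] (n : X) :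
    Nat.card {y : X // IsConj n y} = (Subgroup.centralizer ({n} : Set X)).index := by
  classical
  have e1 : (Subgroup.centralizer ({n} : Set X)) = MulAction.stabilizer (ConjAct X) n :=
    (ConjAct.stabilizer_eq_centralizer n).symm
  show _ = Nat.card _
  rw [e1]
  refine (Nat.card_congr (MulAction.orbitEquivQuotientStabilizer (ConjAct X) n)).symm.trans ?_ |>.symm
  refine Nat.card_congr (Equiv.setCongr ?_)
  ext y
  rw [ConjAct.mem_orbit_conjAct]
  exact isConj_comm

/-- The positive roots commute with `al` and the reflections of `A` fix it. -/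
def parCheck (D : ChevalleyDatum) (al : ℕ) (A : List ℕ) : Bool :=
  decide (al < D.nroots) &&
    ((List.range D.nroots).all fun r => !decide (D.IsPosRoot r) || commPair D r al) &&
    A.all fun j => decide (D.reflectRoot j al = al)

variable {F : Type*} [Field F] (C : ChevCore D F)

/-- The elements scaling the root subgroup of `al`. -/
def scaleSub (al : ℕ) : Subgroup (GL D.Idx F) where
  carrier := {g | ∃ a : Fˣ, ∀ t, g * C.xGL al t = C.xGL al ((a : F) * t) * g}
  one_mem' := ⟨1, fun t => by simp⟩
  mul_mem' := fun {g h} ⟨a, ha⟩ ⟨b, hb⟩ => ⟨a * b, fun t => by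
    rw [mul_assoc, hb, ← mul_assoc, ha, mul_assoc, Units.val_mul, mul_assoc (a : F)]⟩
  inv_mem' := fun {g} ⟨a, ha⟩ => ⟨a⁻¹, fun t => by
    have h := ha ((a⁻¹ : Fˣ) * t)
    rw [← mul_assoc, ← Units.val_mul, mul_inv_cancel, Units.val_one, one_mul] at h
    calc g⁻¹ * C.xGL al t = g⁻¹ * (C.xGL al t * g) * g⁻¹ := by group
      _ = C.xGL al ((a⁻¹ : Fˣ) * t) * g⁻¹ := by rw [← h]; group⟩

theorem parabolic_le_scaleSub {al : ℕ} {A : List ℕ} (hc : parCheck D al A = true) :
    P D F A.toFinset ≤ scaleSub C al := by
  simp only [parCheck, Bool.and_eq_true, decide_eq_true_eq, List.all_eq_true, Bool.or_eq_true,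
    Bool.not_eq_true', decide_eq_false_iff_not, List.mem_range] at hc
  obtain ⟨⟨hal, hpos⟩, hA⟩ := hc
  refine sup_le (sup_le (C.posUnipotent_le fun r u hr => ⟨1, fun t => ?_⟩) ?_) ((Subgroup.closure_le _).2 ?_)
  · have h := congrArg Subtype.val
      (commute_of_pair C ((hpos r hr.1).resolve_left fun h => h hr) u t).eq
    simpa [xg] using h
  · rw [C.diagonalSubgroup_eq]
    rintro _ ⟨c, rfl⟩
    refine ⟨C.R.torusChar c (C.R.α al), fun t => ?_⟩
    exact mul_inv_eq_iff_eq_mul.1 (C.acts_torus c ⟨al, hal⟩ t)
  · rintro g ⟨j, hj, hjl, hg⟩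
    rw [show g = C.nS ⟨j, hjl⟩ from Units.ext (by rw [hg, C.coe_nS])]
    obtain ⟨e, he, hconj⟩ := nref_conj C ⟨j, hjl⟩ hal
    rw [hA j (by simpa using hj)] at hconj
    refine ⟨⟨e, e, he, he⟩, fun t => ?_⟩
    have h := congrArg Subtype.val (hconj t)
    rw [← coe_nref]
    simpa [xg] using h

variable [Fintype F]

/-- The class of a root element, against the parabolic fixing its root subgroup. -/
theorem class_mul_dvd {al : ℕ} {A : List ℕ} (hc : parCheck D al A = true) :
    Nat.card {x : D.group F // IsConj (xg C al 1) x} * Nat.card (P D F A.toFinset) ∣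
      Nat.card (D.group F) * (Fintype.card F - 1) := by
  classical
  have hal : al < D.nroots := by
    simp only [parCheck, Bool.and_eq_true, decide_eq_true_eq] at hc
    exact hc.1.1
  have hle := parabolic_le_scaleSub C hc
  set Q := P D F A.toFinset with hQ
  have hQG : Q ≤ D.group F := by
    refine sup_le C.borel_le_group ((Subgroup.closure_le _).2 ?_)
    rintro g ⟨j, -, hjl, hg⟩
    rw [show g = C.nS ⟨j, hjl⟩ from Units.ext (by rw [hg, C.coe_nS])]
    exact C.nGL_mem_group _ _
  choose f hf using fun g : Q => (hle g.2 : ∃ a : Fˣ, ∀ t, (g : GL D.Idx F) * C.xGL al t =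
    C.xGL al ((a : F) * t) * g)
  have huniq : ∀ (g : Q) (a : F), (g : GL D.Idx F) * C.xGL al 1 = C.xGL al a * g → (f g : F) = a :=
    fun g a h => by
      have h1 := hf g 1
      rw [h, mul_one] at h1
      exact (C.xGL_injective hal (mul_right_cancel h1)).symm
  let φ : Q →* Fˣ :=
    { toFun := f
      map_one' := Units.ext (huniq 1 1 (by simp))
      map_mul' := fun g h => Units.ext (huniq (g * h) _ (by
        rw [Subgroup.coe_mul, mul_assoc, hf h 1, mul_one, ← mul_assoc, hf g, mul_assoc, Units.val_mul])) }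
  have hdiv : Nat.card Q ∣ Nat.card φ.ker * (Fintype.card F - 1) := by
    rw [← Subgroup.card_mul_index φ.ker, Subgroup.index_ker]
    refine mul_dvd_mul_left _ ?_
    rw [← Fintype.card_units, ← Nat.card_eq_fintype_card]
    exact Subgroup.card_subgroup_dvd_card _
  set z := xg C al 1 with hz
  let j : φ.ker →* Subgroup.centralizer ({z} : Set (D.group F)) :=
    { toFun := fun g => ⟨⟨(g : Q), hQG (g : Q).2⟩, Subgroup.mem_centralizer_singleton_iff.2 (Subtype.ext (by
        have h := hf g.1 1
        rw [show f g.1 = 1 from g.2, Units.val_one, one_mul] at h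
        exact h))⟩
      map_one' := rfl
      map_mul' := fun _ _ => rfl }
  have hj : Function.Injective j := fun a b h => by
    have h1 := congrArg (fun x : Subgroup.centralizer ({z} : Set (D.group F)) =>
      (x.1 : GL D.Idx F)) h
    exact Subtype.ext (Subtype.ext h1)
  have hker := Subgroup.card_dvd_of_injective j hj
  have hcls : Nat.card {x : D.group F // IsConj z x} *
      Nat.card (Subgroup.centralizer ({z} : Set (D.group F))) = Nat.card (D.group F) := by
    rw [card_isConj_eq_index, Subgroup.index_mul_card]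
  calc Nat.card {x : D.group F // IsConj z x} * Nat.card Q ∣
      Nat.card {x : D.group F // IsConj z x} *
        (Nat.card (Subgroup.centralizer ({z} : Set (D.group F))) * (Fintype.card F - 1)) :=
        mul_dvd_mul_left _ (hdiv.trans (mul_dvd_mul_right hker _))
    _ = _ := by rw [← mul_assoc, hcls]

/-- The class size divides `M` as soon as `M` is `(q - 1)` times the index of the parabolic. -/
theorem class_dvd {al : ℕ} {A : List ℕ} (hc : parCheck D al A = true) (M : ℕ)
    (hM : (M : ℤ) * C.hR.poincare (fs D A.toFinset) (Fintype.card F) =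
      ((Fintype.card F : ℤ) - 1) * C.hR.poincare Finset.univ (Fintype.card F)) :
    Nat.card {x : D.group F // IsConj (xg C al 1) x} ∣ M := by
  classical
  have h := Int.natCast_dvd_natCast.2 (class_mul_dvd C hc)
  have hG : (Nat.card (D.group F) : ℤ) =
      Nat.card (D.borelSubgroup F) * C.hR.poincare Finset.univ (Fintype.card F) := by
    rw [C.card_group, Nat.cast_mul, weylSet_eq, ReflData.poincare, Nat.cast_sum]
    simp only [Nat.cast_pow]
  push_cast [Nat.cast_sub (Fintype.card_pos : 0 < Fintype.card F)] at h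
  rw [hG, LargeRee.StableParabolic.card_parabolic C] at h
  have hP0 : (0 : ℤ) < C.hR.poincare (fs D A.toFinset) (Fintype.card F) := by
    refine Finset.sum_pos (fun w _ => pow_pos (Nat.cast_pos.2 Fintype.card_pos) _) ⟨1, ?_⟩
    rw [Set.Finite.mem_toFinset]
    exact one_mem _
  have hB0 : (0 : ℤ) < Nat.card (D.borelSubgroup F) := Nat.cast_pos.2 Nat.card_pos
  rw [show (Nat.card (D.borelSubgroup F) : ℤ) * C.hR.poincare Finset.univ (Fintype.card F) *
      ((Fintype.card F : ℤ) - 1) = (M : ℤ) *
      ((Nat.card (D.borelSubgroup F) : ℤ) * C.hR.poincare (fs D A.toFinset) (Fintype.card F)) by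
    linear_combination -(Nat.card (D.borelSubgroup F) : ℤ) * hM] at h
  exact Int.natCast_dvd_natCast.1 ((mul_dvd_mul_iff_right (mul_pos hB0 hP0).ne').1 h)

end CfsgLib.MinDegE
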