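import Cfsg.Agent.Lib.MinDegE.Main
import Cfsg.Prelude.Def_ChevE6

set_option autoImplicit false

/-! The certificate of the minimal degree of type E6. -/

namespace CfsgLib.MinDegE

open Cfsg.Lie

/-- A fundamental root by number. -/
def nodeE6 (i : ℕ) : Fin chevE6.rank :=
  if h : i < chevE6.rank then ⟨i, h⟩ else ⟨0, by decide +kernel⟩

/-- Part of a table. -/
def lvE6_0_tbl_0 : List (List ℕ) := [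
  [0, 0, 0, 0, 0, 0, 0, 0, 0, 0, 0, 0, 2, 0, 4, 6, 0, 10, 12, 16],
  [0, 0, 0, 0, 0, 0, 0, 0, 0, 0, 0, 2, 0, 4, 0, 7, 10, 0, 13, 17],
  [0, 0, 0, 0, 0, 0, 0, 0, 0, 0, 2, 0, 0, 5, 7, 0, 11, 13, 0, 20],
  [0, 0, 0, 0, 0, 0, 0, 0, 0, 0, 3, 5, 7, 0, 0, 0, 16, 18, 20, 0],
  [0, 0, 0, 0, 0, 0, 0, 0, 0, 0, 10, 12, 14, 16, 18, 20, 0, 0, 0, 0],
  [0, 0, 0, 0, 0, 0, 2, 0, 4, 6, 0, 0, 0, 0, 0, 0, 0, 21, 23, 27],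
  [0, 0, 0, 0, 0, 2, 0, 4, 0, 7, 0, 0, 0, 0, 0, 0, 21, 0, 26, 30],
  [0, 0, 0, 0, 2, 0, 0, 5, 7, 0, 0, 0, 0, 0, 0, 0, 24, 26, 0, 31],
  [0, 0, 0, 0, 3, 5, 7, 0, 0, 0, 0, 0, 0, 0, 0, 0, 27, 29, 31, 0],
  [0, 0, 0, 1, 0, 0, 0, 0, 10, 12, 0, 0, 0, 0, 22, 24, 0, 0, 0, 33],
  [0, 0, 1, 0, 0, 0, 0, 10, 0, 13, 0, 0, 0, 22, 0, 25, 0, 0, 0, 36],
  [0, 1, 0, 0, 0, 0, 0, 11, 13, 0, 0, 0, 0, 23, 25, 0, 0, 0, 0, 37],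
  [0, 0, 0, 3, 0, 0, 9, 0, 0, 16, 0, 0, 21, 0, 0, 28, 0, 0, 34, 0],
  [0, 0, 3, 0, 0, 9, 0, 0, 0, 17, 0, 21, 0, 0, 0, 29, 0, 0, 35, 0]]

/-- Part of a table. -/
def lvE6_0_tbl_1 : List (List ℕ) := [
  [0, 0, 0, 5, 0, 0, 11, 0, 15, 0, 0, 0, 23, 0, 27, 0, 0, 33, 0, 0],
  [0, 0, 7, 0, 0, 13, 0, 17, 0, 0, 0, 25, 0, 29, 0, 0, 35, 0, 0, 0],
  [0, 5, 0, 0, 11, 0, 0, 0, 19, 0, 23, 0, 0, 0, 31, 0, 0, 37, 0, 0],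
  [0, 7, 0, 0, 13, 0, 0, 20, 0, 0, 25, 0, 0, 32, 0, 0, 38, 0, 0, 0],
  [3, 0, 0, 0, 0, 15, 17, 0, 0, 0, 0, 27, 29, 0, 0, 0, 0, 0, 39, 0],
  [5, 0, 0, 0, 16, 0, 19, 0, 0, 0, 28, 0, 31, 0, 0, 0, 0, 40, 0, 0],
  [7, 0, 0, 0, 18, 20, 0, 0, 0, 0, 30, 32, 0, 0, 0, 0, 39, 0, 0, 0],
  [0, 9, 11, 13, 0, 0, 0, 0, 0, 0, 0, 0, 0, 33, 35, 37, 0, 0, 0, 0],
  [10, 0, 15, 17, 0, 0, 0, 0, 0, 0, 0, 34, 36, 0, 0, 39, 0, 0, 0, 0],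
  [12, 16, 0, 19, 0, 0, 0, 0, 0, 0, 33, 0, 38, 0, 40, 0, 0, 0, 0, 0],
  [14, 18, 20, 0, 0, 0, 0, 0, 0, 0, 35, 37, 0, 39, 0, 0, 0, 0, 0, 0],
  [0, 0, 0, 0, 22, 24, 26, 28, 30, 32, 0, 0, 0, 0, 0, 0, 0, 0, 0, 0],
  [0, 21, 23, 25, 0, 0, 0, 34, 36, 38, 0, 0, 0, 0, 0, 0, 0, 0, 0, 0],
  [22, 0, 27, 29, 0, 33, 35, 0, 0, 40, 0, 0, 0, 0, 0, 0, 0, 0, 0, 0]]

/-- Part of a table. -/
def lvE6_0_tbl_2 : List (List ℕ) := [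
  [24, 28, 0, 31, 34, 0, 37, 0, 39, 0, 0, 0, 0, 0, 0, 0, 0, 0, 0, 0],
  [26, 30, 32, 0, 36, 38, 0, 40, 0, 0, 0, 0, 0, 0, 0, 0, 0, 0, 0, 0]]

/-- Part of a table. -/
def lvE6_0_beta_0 : List BetaRaw := [
  ⟨[], [(0, 12), (1, 11), (2, 10), (5, 6), (6, 5), (7, 4), (9, 3), (10, 2), (11, 1)], [(3, 16),
    (3, 17), (3, 18), (8, 16), (8, 17), (8, 18), (12, 18), (13, 18), (16, 17), (18, 18)]⟩,
  ⟨[(18, 0)], [(0, 14), (1, 13), (3, 10), (5, 8), (6, 7), (8, 4), (12, 3), (13, 2)], [(2, 16), (2,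
    17), (2, 19), (7, 16), (7, 17), (7, 19), (9, 19), (10, 19), (11, 19), (19, 17)]⟩,
  ⟨[(16, 1), (19, 0)], [(0, 15), (2, 13), (3, 11), (5, 9), (7, 7), (8, 5), (14, 3)], [(1, 16), (1,
    18), (1, 19), (6, 16), (6, 18), (6, 19), (9, 19), (10, 19), (11, 19), (18, 18)]⟩,
  ⟨[(15, 2), (17, 1), (20, 0)], [(1, 15), (2, 14), (3, 12), (6, 9), (7, 8), (8, 6)], [(0, 17), (0,
    18), (0, 19), (5, 17), (5, 18), (5, 19), (9, 19), (10, 19), (11, 19), (18, 18)]⟩,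
  ⟨[(21, 1), (22, 0)], [(0, 17), (1, 16), (4, 10), (9, 8), (10, 7), (12, 6), (13, 5)], [(2, 13),
    (2, 14), (2, 19), (5, 18), (5, 19), (6, 18), (6, 19), (7, 19), (11, 19), (18, 18)]⟩,
  ⟨[(16, 4), (21, 2), (23, 0)], [(0, 18), (2, 16), (4, 11), (9, 9), (11, 7), (14, 6)], [(1, 13),
    (1, 15), (1, 19), (5, 17), (5, 19), (7, 17), (6, 19), (7, 19), (10, 19), (19, 17)]⟩,
  ⟨[(15, 5), (17, 4), (21, 3), (24, 0)], [(1, 18), (2, 17), (4, 12), (10, 9), (11, 8)], [(0, 14),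
    (0, 15), (0, 19), (6, 16), (6, 19), (7, 16), (5, 19), (7, 19), (9, 19), (20, 16)]⟩]

/-- Part of a table. -/
def lvE6_0_beta_1 : List BetaRaw := [
  ⟨[(18, 5), (19, 4), (22, 2), (23, 1)], [(0, 19), (3, 16), (4, 13), (12, 9), (14, 8)], [(1, 11),
    (1, 15), (1, 18), (5, 17), (5, 18), (8, 17), (6, 18), (8, 18), (13, 18), (16, 17)]⟩,
  ⟨[(15, 7), (18, 6), (20, 4), (22, 3), (24, 1)], [(1, 19), (3, 17), (4, 14), (13, 9)], [(0, 12),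
    (0, 15), (0, 18), (6, 16), (6, 18), (8, 16), (5, 18), (8, 18), (12, 18), (17, 16)]⟩,
  ⟨[(16, 8), (17, 7), (19, 6), (20, 5), (23, 3), (24, 2)], [(2, 19), (3, 18), (4, 15)], [(0, 12),
    (0, 14), (0, 17), (7, 16), (7, 17), (8, 16), (5, 17), (8, 17), (14, 17), (15, 16)]⟩,
  ⟨[(25, 4), (26, 1), (27, 0)], [(5, 17), (6, 16), (9, 14), (10, 13), (12, 12), (13, 11)], [(0,
    15), (0, 18), (0, 19), (1, 15), (1, 18), (1, 19), (2, 19), (7, 19), (11, 19), (18, 18)]⟩,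
  ⟨[(16, 10), (25, 5), (26, 2), (28, 0)], [(5, 18), (7, 16), (9, 15), (11, 13), (14, 12)], [(0,
    14), (0, 17), (0, 19), (2, 14), (2, 17), (1, 19), (2, 19), (6, 19), (10, 19), (19, 17)]⟩,
  ⟨[(15, 11), (17, 10), (25, 6), (26, 3), (29, 0)], [(6, 18), (7, 17), (10, 15), (11, 14)], [(1,
    13), (1, 16), (1, 19), (2, 13), (2, 16), (0, 19), (2, 19), (5, 19), (9, 19), (20, 16)]⟩,
  ⟨[(18, 11), (19, 10), (25, 7), (27, 2), (28, 1)], [(5, 19), (8, 16), (12, 15), (14, 14)], [(0,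
    12), (0, 17), (0, 18), (3, 12), (3, 17), (1, 18), (3, 18), (6, 18), (13, 18), (16, 17)]⟩]

/-- Part of a table. -/
def lvE6_0_beta_2 : List BetaRaw := [
  ⟨[(15, 13), (18, 12), (20, 10), (25, 8), (27, 3), (29, 1)], [(6, 19), (8, 17), (13, 15)], [(1,
    11), (1, 16), (1, 18), (3, 11), (3, 16), (0, 18), (3, 18), (5, 18), (12, 18), (17, 16)]⟩,
  ⟨[(16, 14), (17, 13), (19, 12), (20, 11), (25, 9), (28, 3), (29, 2)], [(7, 19), (8, 18)], [(2,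
    10), (2, 16), (2, 17), (3, 10), (3, 16), (0, 17), (3, 17), (5, 17), (14, 17), (15, 16)]⟩,
  ⟨[(21, 13), (22, 11), (23, 10), (26, 7), (27, 5), (28, 4)], [(9, 19), (12, 18), (14, 17)], [(0,
    12), (0, 14), (0, 15), (4, 12), (4, 14), (1, 15), (4, 15), (10, 15), (13, 15), (16, 14)]⟩,
  ⟨[(15, 16), (21, 14), (22, 12), (24, 10), (26, 8), (27, 6), (29, 4)], [(10, 19), (13, 18)], [(1,
    11), (1, 13), (1, 15), (4, 11), (4, 13), (0, 15), (4, 15), (9, 15), (12, 15), (17, 13)]⟩,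
  ⟨[(16, 17), (17, 16), (21, 15), (23, 12), (24, 11), (26, 9), (28, 6), (29, 5)], [(11, 19)], [(2,
    10), (2, 13), (2, 14), (4, 10), (4, 13), (0, 14), (4, 14), (9, 14), (14, 14), (15, 13)]⟩,
  ⟨[(18, 18), (19, 17), (20, 16), (22, 15), (23, 14), (24, 13), (27, 9), (28, 8), (29, 7)], [],
    [(3, 10), (3, 11), (3, 12), (4, 10), (4, 11), (0, 12), (4, 12), (12, 12), (14, 12), (15,
    11)]⟩]

/-- Part of a table. -/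
def lvE6_0_paths_0 : List (List (Fin chevE6.rank)) := [
  ([5, 4, 3, 2] : List ℕ).map nodeE6,
  ([5, 4, 3] : List ℕ).map nodeE6,
  ([5, 4] : List ℕ).map nodeE6,
  ([5] : List ℕ).map nodeE6,
  ([] : List ℕ).map nodeE6,
  ([0] : List ℕ).map nodeE6]

/-- A level of the descent. -/
def lvE6_0 : Lvl chevE6 where
  k := 20
  R := [46, 47, 48, 49, 50, 51, 52, 53, 54, 55, 61, 62, 63, 64, 65, 66, 67, 68, 69, 70]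
  L := [11, 12, 13, 14, 15, 26, 27, 28, 29, 30, 31, 32, 33, 34, 35, 36, 37, 38, 39, 40, 41, 42,
    43, 44, 45, 56, 57, 58, 59, 60]
  tbl := lvE6_0_tbl_0 ++ lvE6_0_tbl_1 ++ lvE6_0_tbl_2
  beta := lvE6_0_beta_0 ++ lvE6_0_beta_1 ++ lvE6_0_beta_2
  a := 9
  g := 29
  ph := [
    .dec 15 28,
    .dec 15 28,
    .dec 15 28,
    .dec 24 25,
    .dec 15 28,
    .dec 15 28,
    .dec 20 26,
    .dec 15 28,
    .dec 17 27,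
    .dec 15 28,
    .dec 15 28,
    .dec 17 27,
    .moved 0,
    .dec 20 26,
    .moved 1,
    .moved 2,
    .dec 24 25,
    .moved 4,
    .moved 5,
    .moved 7]
  scale := [nodeE6 0]
  paths := lvE6_0_paths_0

/-- Part of a table. -/
def lvE6_1_tbl_0 : List (List ℕ) := [
  [0, 0, 0, 0, 1],
  [0, 0, 0, 1, 0],
  [0, 0, 1, 0, 0],
  [0, 1, 0, 0, 0],
  [0, 0, 0, 0, 3],
  [0, 0, 0, 3, 0],
  [0, 0, 3, 0, 0],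
  [0, 0, 0, 0, 5],
  [0, 0, 0, 5, 0],
  [0, 0, 0, 0, 7],
  [0, 0, 0, 9, 0],
  [0, 0, 7, 0, 0],
  [0, 0, 9, 0, 0],
  [0, 5, 0, 0, 0]]

/-- Part of a table. -/
def lvE6_1_tbl_1 : List (List ℕ) := [
  [0, 7, 0, 0, 0],
  [0, 9, 0, 0, 0],
  [3, 0, 0, 0, 0],
  [5, 0, 0, 0, 0],
  [7, 0, 0, 0, 0],
  [9, 0, 0, 0, 0]]

/-- Part of a table. -/
def lvE6_1_beta_0 : List BetaRaw := [
  ⟨[], [(0, 4), (1, 3), (2, 2), (3, 1)], []⟩,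
  ⟨[(16, 0)], [(4, 4), (5, 3), (6, 2)], []⟩,
  ⟨[(13, 1), (17, 0)], [(7, 4), (8, 3)], []⟩,
  ⟨[(11, 2), (14, 1), (18, 0)], [(9, 4)], []⟩,
  ⟨[(10, 3), (12, 2), (15, 1), (19, 0)], [], []⟩]

/-- Part of a table. -/
def lvE6_1_paths_0 : List (List (Fin chevE6.rank)) := [
  ([5, 4, 3] : List ℕ).map nodeE6,
  ([5, 4] : List ℕ).map nodeE6,
  ([5] : List ℕ).map nodeE6,
  ([] : List ℕ).map nodeE6,
  ([2] : List ℕ).map nodeE6]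

/-- A level of the descent. -/
def lvE6_1 : Lvl chevE6 where
  k := 5
  R := [56, 57, 58, 59, 60]
  L := [26, 27, 28, 29, 30, 31, 32, 33, 34, 35, 36, 37, 38, 39, 40, 41, 42, 43, 44, 45]
  tbl := lvE6_1_tbl_0 ++ lvE6_1_tbl_1
  beta := lvE6_1_beta_0
  a := 4
  g := 19
  ph := [
    .dec 10 18,
    .dec 10 18,
    .dec 10 18,
    .dec 12 17,
    .moved 0]
  scale := [nodeE6 0]
  paths := lvE6_1_paths_0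

/-- Part of a table. -/
def lvE6_2_tbl_0 : List (List ℕ) := [
  [0, 0, 0, 1],
  [0, 0, 1, 0],
  [0, 1, 0, 0],
  [0, 0, 0, 3],
  [0, 0, 3, 0],
  [0, 0, 0, 5],
  [0, 0, 7, 0],
  [0, 5, 0, 0],
  [0, 7, 0, 0],
  [3, 0, 0, 0],
  [5, 0, 0, 0],
  [7, 0, 0, 0]]

/-- Part of a table. -/
def lvE6_2_beta_0 : List BetaRaw := [
  ⟨[], [(0, 3), (1, 2), (2, 1)], []⟩,
  ⟨[(9, 0)], [(3, 3), (4, 2)], []⟩,
  ⟨[(7, 1), (10, 0)], [(5, 3)], []⟩,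
  ⟨[(6, 2), (8, 1), (11, 0)], [], []⟩]

/-- Part of a table. -/
def lvE6_2_paths_0 : List (List (Fin chevE6.rank)) := [
  ([5, 4] : List ℕ).map nodeE6,
  ([5] : List ℕ).map nodeE6,
  ([] : List ℕ).map nodeE6,
  ([3] : List ℕ).map nodeE6]

/-- A level of the descent. -/
def lvE6_2 : Lvl chevE6 where
  k := 4
  R := [42, 43, 44, 45]
  L := [30, 31, 32, 33, 34, 35, 36, 37, 38, 39, 40, 41]
  tbl := lvE6_2_tbl_0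
  beta := lvE6_2_beta_0
  a := 3
  g := 11
  ph := [
    .dec 6 10,
    .dec 6 10,
    .dec 8 9,
    .moved 0]
  scale := [nodeE6 1]
  paths := lvE6_2_paths_0

/-- Part of a table. -/
def lvE6_3_tbl_0 : List (List ℕ) := [
  [0, 0, 1],
  [0, 1, 0],
  [0, 0, 3],
  [0, 5, 0],
  [3, 0, 0],
  [5, 0, 0]]

/-- Part of a table. -/
def lvE6_3_beta_0 : List BetaRaw := [
  ⟨[], [(0, 2), (1, 1)], []⟩,
  ⟨[(4, 0)], [(2, 2)], []⟩,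
  ⟨[(3, 1), (5, 0)], [], []⟩]

/-- Part of a table. -/
def lvE6_3_paths_0 : List (List (Fin chevE6.rank)) := [
  ([5] : List ℕ).map nodeE6,
  ([] : List ℕ).map nodeE6,
  ([4] : List ℕ).map nodeE6]

/-- A level of the descent. -/
def lvE6_3 : Lvl chevE6 where
  k := 3
  R := [39, 40, 41]
  L := [33, 34, 35, 36, 37, 38]
  tbl := lvE6_3_tbl_0
  beta := lvE6_3_beta_0
  a := 2
  g := 5
  ph := [
    .dec 3 4,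
    .tor ![0, -1, 0, -1, 0, 0],
    .moved 0]
  scale := [nodeE6 3]
  paths := lvE6_3_paths_0

/-- Part of a table. -/
def lvE6_4_tbl_0 : List (List ℕ) := [
  [0, 1],
  [3, 0]]

/-- Part of a table. -/
def lvE6_4_beta_0 : List BetaRaw := [
  ⟨[], [(0, 1)], []⟩,
  ⟨[(1, 0)], [], []⟩]

/-- Part of a table. -/
def lvE6_4_paths_0 : List (List (Fin chevE6.rank)) := [
  ([] : List ℕ).map nodeE6]

/-- A level of the descent. -/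
def lvE6_4 : Lvl chevE6 where
  k := 2
  R := [37, 38]
  L := [35, 36]
  tbl := lvE6_4_tbl_0
  beta := lvE6_4_beta_0
  a := 1
  g := 1
  ph := [
    .tor ![0, 0, 0, -2, -1, 0],
    .moved 0]
  scale := [nodeE6 4]
  paths := lvE6_4_paths_0

/-- Part of a table. -/
def lvE6_5_beta_0 : List BetaRaw := [
  ⟨[], [], []⟩]

/-- A level of the descent. -/
def lvE6_5 : Lvl chevE6 where
  k := 1
  R := [36]
  L := []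
  tbl := []
  beta := lvE6_5_beta_0
  a := 0
  g := 0
  ph := []
  scale := []
  paths := []

/-- Part of a table. -/
def polE6A_tbl_0 : List (List ℕ) := [
  [5, 0, 0, 12, 0, 0, 18, 0, 0, 0],
  [0, 13, 15, 0, 0, 20, 0, 0, 0, 0],
  [16, 18, 0, 20, 0, 0, 0, 0, 0, 0]]

/-- A level of the descent. -/
def polE6A : Lvl chevE6 where
  k := 10
  R := [47, 48, 49, 53, 54, 55, 64, 65, 66, 70]
  L := [38, 58, 60]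
  tbl := polE6A_tbl_0
  beta := []
  a := 0
  g := 0
  ph := []
  scale := []
  paths := []

/-- Part of a table. -/
def polE6B_tbl_0 : List (List ℕ) := [
  [0, 0, 0, 0, 0, 0, 0, 2, 4, 8]]

/-- A level of the descent. -/
def polE6B : Lvl chevE6 where
  k := 10
  R := [69, 68, 67, 63, 62, 61, 52, 51, 50, 46]
  L := [60]
  tbl := polE6B_tbl_0
  beta := []
  a := 0
  g := 0
  ph := []
  scale := []
  paths := []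

/-- Part of a table. -/
def rootPathsE6_0 : List (List (Fin chevE6.rank)) := [
  ([1, 3, 2, 0, 4, 3, 1, 2, 3, 4, 5, 4, 3, 1, 2, 0, 3, 2, 4, 3, 1] : List ℕ).map nodeE6,
  ([1, 3, 2, 0, 4, 3, 1, 2, 3, 4, 5, 4, 3, 1, 2, 0, 3, 2, 4, 3] : List ℕ).map nodeE6,
  ([1, 3, 2, 0, 4, 3, 1, 2, 3, 4, 5, 4, 3, 1, 2, 0, 3, 2, 4] : List ℕ).map nodeE6,
  ([1, 3, 2, 0, 4, 3, 1, 2, 3, 4, 5, 4, 3, 1, 2, 0, 3, 2] : List ℕ).map nodeE6,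
  ([1, 3, 2, 0, 4, 3, 1, 2, 3, 5, 4, 3, 1, 2, 0, 3, 2] : List ℕ).map nodeE6,
  ([1, 3, 2, 0, 4, 3, 1, 2, 3, 4, 5, 4, 3, 1, 2, 0, 3, 4] : List ℕ).map nodeE6,
  ([1, 3, 2, 0, 4, 3, 1, 2, 3, 4, 5, 4, 3, 1, 2, 0, 3] : List ℕ).map nodeE6,
  ([1, 3, 2, 0, 4, 3, 1, 2, 3, 5, 4, 3, 1, 2, 0, 3] : List ℕ).map nodeE6,
  ([1, 3, 2, 0, 4, 3, 1, 2, 3, 4, 5, 4, 3, 1, 2, 0] : List ℕ).map nodeE6,
  ([1, 3, 2, 0, 4, 3, 1, 2, 3, 5, 4, 3, 1, 2, 0] : List ℕ).map nodeE6,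
  ([1, 3, 2, 0, 4, 3, 1, 2, 5, 4, 3, 1, 2, 0] : List ℕ).map nodeE6,
  ([1, 3, 2, 0, 4, 3, 1, 2, 3, 4, 5, 4, 3, 2, 0] : List ℕ).map nodeE6,
  ([1, 3, 2, 0, 4, 3, 1, 2, 3, 5, 4, 3, 2, 0] : List ℕ).map nodeE6,
  ([1, 3, 2, 0, 4, 3, 1, 2, 5, 4, 3, 2, 0] : List ℕ).map nodeE6,
  ([1, 3, 2, 0, 4, 3, 1, 5, 4, 3, 2, 0] : List ℕ).map nodeE6,
  ([1, 3, 2, 4, 3, 1, 5, 4, 3, 2, 0] : List ℕ).map nodeE6,
  ([1, 3, 2, 0, 4, 3, 1, 2, 3, 4, 5, 4, 3, 1, 2, 3, 4] : List ℕ).map nodeE6,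
  ([1, 3, 2, 0, 4, 3, 1, 2, 3, 4, 5, 4, 3, 1, 2, 3] : List ℕ).map nodeE6,
  ([1, 3, 2, 0, 4, 3, 1, 2, 3, 5, 4, 3, 1, 2, 3] : List ℕ).map nodeE6,
  ([1, 3, 2, 0, 4, 3, 1, 2, 3, 4, 5, 4, 3, 1, 2] : List ℕ).map nodeE6]

/-- Part of a table. -/
def rootPathsE6_1 : List (List (Fin chevE6.rank)) := [
  ([1, 3, 2, 0, 4, 3, 1, 2, 3, 5, 4, 3, 1, 2] : List ℕ).map nodeE6,
  ([1, 3, 2, 0, 4, 3, 1, 2, 5, 4, 3, 1, 2] : List ℕ).map nodeE6,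
  ([1, 3, 2, 0, 4, 3, 1, 2, 3, 4, 5, 4, 3, 1] : List ℕ).map nodeE6,
  ([1, 3, 2, 0, 4, 3, 1, 2, 3, 5, 4, 3, 1] : List ℕ).map nodeE6,
  ([1, 3, 2, 0, 4, 3, 1, 2, 5, 4, 3, 1] : List ℕ).map nodeE6,
  ([1, 3, 2, 0, 4, 3, 2, 5, 4, 3, 1] : List ℕ).map nodeE6,
  ([1, 3, 2, 0, 4, 3, 1, 2, 3, 4, 5, 4, 3, 2] : List ℕ).map nodeE6,
  ([1, 3, 2, 0, 4, 3, 1, 2, 3, 5, 4, 3, 2] : List ℕ).map nodeE6,
  ([1, 3, 2, 0, 4, 3, 1, 2, 5, 4, 3, 2] : List ℕ).map nodeE6,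
  ([1, 3, 2, 0, 4, 3, 1, 5, 4, 3, 2] : List ℕ).map nodeE6,
  ([1, 3, 2, 0, 4, 3, 1, 2, 3, 4, 5, 4, 3] : List ℕ).map nodeE6,
  ([1, 3, 2, 0, 4, 3, 1, 2, 3, 5, 4, 3] : List ℕ).map nodeE6,
  ([1, 3, 2, 0, 4, 3, 1, 2, 5, 4, 3] : List ℕ).map nodeE6,
  ([1, 3, 2, 0, 4, 3, 1, 2, 3, 4, 5, 4] : List ℕ).map nodeE6,
  ([1, 3, 2, 0, 4, 3, 1, 2, 3, 5, 4] : List ℕ).map nodeE6,
  ([1, 3, 2, 0, 4, 3, 1, 2, 3, 4, 5] : List ℕ).map nodeE6,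
  ([1, 3, 2, 0, 4, 3, 1, 2, 3, 4] : List ℕ).map nodeE6,
  ([1, 3, 2, 0, 4, 3, 1, 2, 3, 5] : List ℕ).map nodeE6,
  ([1, 3, 2, 0, 4, 3, 1, 2, 3] : List ℕ).map nodeE6,
  ([1, 3, 2, 0, 4, 3, 1, 2, 5, 4] : List ℕ).map nodeE6]

/-- Part of a table. -/
def rootPathsE6_2 : List (List (Fin chevE6.rank)) := [
  ([1, 3, 2, 0, 4, 3, 1, 2, 5] : List ℕ).map nodeE6,
  ([1, 3, 2, 0, 4, 3, 1, 2] : List ℕ).map nodeE6,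
  ([1, 3, 2, 0, 4, 3, 1, 5, 4, 3] : List ℕ).map nodeE6,
  ([1, 3, 2, 0, 4, 3, 1, 5, 4] : List ℕ).map nodeE6,
  ([1, 3, 2, 0, 4, 3, 1, 5] : List ℕ).map nodeE6,
  ([1, 3, 2, 0, 4, 3, 1] : List ℕ).map nodeE6,
  ([1, 3, 2, 0, 4, 3, 2, 5, 4, 3] : List ℕ).map nodeE6,
  ([1, 3, 2, 0, 4, 3, 2, 5, 4] : List ℕ).map nodeE6,
  ([1, 3, 2, 0, 4, 3, 2, 5] : List ℕ).map nodeE6,
  ([1, 3, 2, 0, 4, 3, 2] : List ℕ).map nodeE6,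
  ([1, 3, 2, 0, 4, 3, 5, 4] : List ℕ).map nodeE6,
  ([1, 3, 2, 0, 4, 3, 5] : List ℕ).map nodeE6,
  ([1, 3, 2, 0, 4, 3] : List ℕ).map nodeE6,
  ([1, 3, 2, 0, 4, 5] : List ℕ).map nodeE6,
  ([1, 3, 2, 0, 4] : List ℕ).map nodeE6,
  ([1, 3, 2, 0] : List ℕ).map nodeE6,
  ([1, 3, 2, 4, 3, 1, 5, 4, 3, 2] : List ℕ).map nodeE6,
  ([1, 3, 2, 4, 3, 1, 5, 4, 3] : List ℕ).map nodeE6,
  ([1, 3, 2, 4, 3, 1, 5, 4] : List ℕ).map nodeE6,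
  ([1, 3, 2, 4, 3, 1, 5] : List ℕ).map nodeE6]

/-- Part of a table. -/
def rootPathsE6_3 : List (List (Fin chevE6.rank)) := [
  ([1, 3, 2, 4, 3, 1] : List ℕ).map nodeE6,
  ([1, 3, 2, 4, 3, 5, 4] : List ℕ).map nodeE6,
  ([1, 3, 2, 4, 3, 5] : List ℕ).map nodeE6,
  ([1, 3, 2, 4, 3] : List ℕ).map nodeE6,
  ([1, 3, 2, 4, 5] : List ℕ).map nodeE6,
  ([1, 3, 2, 4] : List ℕ).map nodeE6,
  ([1, 3, 2] : List ℕ).map nodeE6,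
  ([1, 3, 4, 5] : List ℕ).map nodeE6,
  ([1, 3, 4] : List ℕ).map nodeE6,
  ([1, 3] : List ℕ).map nodeE6,
  ([1] : List ℕ).map nodeE6,
  ([] : List ℕ).map nodeE6]

/-- The descent. -/
def hE6 : HData chevE6 where
  alpha := 71
  sc := nodeE6 1
  rootPaths := rootPathsE6_0 ++ rootPathsE6_1 ++ rootPathsE6_2 ++ rootPathsE6_3
  lv0 := lvE6_0
  ptn := [70, 69, 68, 67, 66, 65, 64, 63, 62, 61, 55, 54, 53, 52, 51, 50, 49, 48, 47, 46]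
  lvA := polE6A
  lvB := polE6B
  next := lvE6_1
  rest := [lvE6_2, lvE6_3, lvE6_4, lvE6_5]

/-- The descent for the field of two elements. -/
def hE6Two : HData chevE6 where
  alpha := 71
  sc := nodeE6 1
  rootPaths := rootPathsE6_0 ++ rootPathsE6_1 ++ rootPathsE6_2 ++ rootPathsE6_3
  lv0 := lvE6_0
  ptn := [70, 69, 68, 67, 66, 65, 64, 63, 62, 61, 55, 54, 53, 52, 51, 50, 49, 48, 47, 46]
  lvA := polE6A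
  lvB := polE6B
  next := lvE6_1
  rest := [lvE6_2, lvE6_3]

/-- The certificate of the minimal degree. -/
def degE6 : DegCert chevE6 where
  H := hE6
  H2 := hE6Two
  par := [0, 2, 3, 4, 5]
  stepsU := [(nodeE6 5, 17), (nodeE6 0, 9), (nodeE6 4, 7), (nodeE6 2, 4), (nodeE6 3, 3),
    (nodeE6 1, 2)]
  stepsJ := [(nodeE6 5, 6), (nodeE6 4, 5), (nodeE6 3, 4), (nodeE6 2, 3), (nodeE6 0, 2)]
  Mp := [-1, 0, 0, -1, -1, 0, -1, -1, 0, 0, -1, 0, 1, 0, 0, 1, 1, 0, 1, 1, 0, 0, 1]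
  Ttail := [1, 0, 0, 1, 1, 0, 1, 1, 0, 0, 1]
  J2 := 10
  th := 420
  rem := [
  ⟨[1, 0, 0, 0, 0, 0, 0, 0, 0, 0, 0, 1],
    [0, -1, 0, -1, -2, -1, -1, -2, -1, 0], -1⟩,
  ⟨[4, 0, 0, 0, 0, 0, 0, 0, 0, 0, 0, 2],
    [6, -4, 0, -2, -6, -4, -2, -6, -4, 0], -2⟩,
  ⟨[9, 0, 0, 0, 0, 0, 0, 0, 0, 0, 0, 3],
    [24, -9, 0, -3, -12, -9, -3, -12, -9, 0], -3⟩,
  ⟨[16, 0, 0, 0, 0, 0, 0, 0, 0, 0, 0, 4],
    [60, -16, 0, -4, -20, -16, -4, -20, -16, 0], -4⟩,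
  ⟨[25, 0, 0, 0, 0, 0, 0, 0, 0, 0, 0, 5],
    [120, -25, 0, -5, -30, -25, -5, -30, -25, 0], -5⟩,
  ⟨[36, 0, 0, 0, 0, 0, 0, 0, 0, 0, 0, 6],
    [210, -36, 0, -6, -42, -36, -6, -42, -36, 0], -6⟩]

end CfsgLib.MinDegE
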