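import Cfsg.Agent.Lib.MinDegE.Main
import Cfsg.Prelude.Def_ChevE8

set_option autoImplicit false

/-! The certificate of the minimal degree of type E8. -/

namespace CfsgLib.MinDegE

open Cfsg.Lie

/-- A fundamental root by number. -/
def nodeE8 (i : ℕ) : Fin chevE8.rank :=
  if h : i < chevE8.rank then ⟨i, h⟩ else ⟨0, by decide +kernel⟩

/-- Part of a table. -/
def lvE8_0_tbl_0 : List (List ℕ) := [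
  [0, 0, 0, 0, 0, 0, 0, 0, 0, 0, 0, 0, 0, 0, 0, 0, 0, 0, 0, 0, 0, 0, 0, 0, 0, 0, 0, 0, 0, 0, 0, 0,
    0, 0, 0, 0, 0, 0, 0, 0, 0, 0, 0, 0, 2, 3, 6, 7, 10, 11, 13, 15, 17, 19, 21, 23],
  [0, 0, 0, 0, 0, 0, 0, 0, 0, 0, 0, 0, 0, 0, 0, 0, 0, 0, 0, 0, 0, 0, 0, 0, 0, 0, 0, 0, 0, 0, 0, 0,
    0, 0, 0, 0, 0, 0, 2, 3, 6, 7, 10, 13, 0, 0, 0, 0, 0, 25, 0, 27, 29, 31, 33, 35],
  [0, 0, 0, 0, 0, 0, 0, 0, 0, 0, 0, 0, 0, 0, 0, 0, 0, 0, 0, 0, 0, 0, 0, 0, 0, 0, 0, 0, 0, 0, 0, 0,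
    0, 0, 2, 3, 6, 7, 0, 0, 0, 0, 12, 16, 0, 0, 0, 0, 25, 0, 27, 0, 38, 40, 42, 44],
  [0, 0, 0, 0, 0, 0, 0, 0, 0, 0, 0, 0, 0, 0, 0, 0, 0, 0, 0, 0, 0, 0, 0, 0, 0, 0, 0, 0, 0, 0, 0, 2,
    3, 6, 0, 0, 0, 9, 0, 0, 0, 12, 0, 17, 0, 0, 0, 25, 0, 0, 30, 38, 0, 45, 47, 49],
  [0, 0, 0, 0, 0, 0, 0, 0, 0, 0, 0, 0, 0, 0, 0, 0, 0, 0, 0, 0, 0, 0, 0, 0, 0, 0, 0, 0, 0, 2, 3, 0,
    0, 8, 0, 0, 9, 0, 0, 0, 12, 0, 0, 20, 0, 0, 25, 0, 0, 0, 31, 39, 45, 0, 52, 54],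
  [0, 0, 0, 0, 0, 0, 0, 0, 0, 0, 0, 0, 0, 0, 0, 0, 0, 0, 0, 0, 0, 0, 0, 0, 0, 0, 0, 0, 2, 0, 5, 0,
    8, 0, 0, 9, 0, 0, 0, 12, 0, 0, 0, 21, 0, 25, 0, 0, 0, 0, 34, 42, 48, 52, 0, 55],
  [0, 0, 0, 0, 0, 0, 0, 0, 0, 0, 0, 0, 0, 0, 0, 0, 0, 0, 0, 0, 0, 0, 0, 0, 0, 0, 0, 0, 4, 5, 0, 8,
    0, 0, 9, 0, 0, 0, 12, 0, 0, 0, 0, 24, 25, 0, 0, 0, 0, 0, 35, 43, 49, 53, 55, 0],
  [0, 0, 0, 0, 0, 0, 0, 0, 0, 0, 0, 0, 0, 0, 0, 0, 0, 0, 0, 0, 0, 0, 0, 0, 0, 2, 3, 6, 0, 0, 0, 0,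
    0, 0, 0, 0, 0, 13, 0, 0, 0, 15, 17, 0, 0, 0, 0, 28, 30, 38, 0, 0, 0, 58, 60, 62],
  [0, 0, 0, 0, 0, 0, 0, 0, 0, 0, 0, 0, 0, 0, 0, 0, 0, 0, 0, 0, 0, 0, 0, 2, 3, 0, 0, 8, 0, 0, 0, 0,
    0, 0, 0, 0, 13, 0, 0, 0, 15, 0, 20, 0, 0, 0, 28, 0, 31, 39, 0, 0, 58, 0, 63, 65],
  [0, 0, 0, 0, 0, 0, 0, 0, 0, 0, 0, 0, 0, 0, 0, 0, 0, 0, 0, 0, 0, 0, 2, 0, 5, 0, 8, 0, 0, 0, 0, 0,
    0, 0, 0, 13, 0, 0, 0, 15, 0, 0, 21, 0, 0, 28, 0, 0, 34, 42, 0, 0, 59, 63, 0, 68],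
  [0, 0, 0, 0, 0, 0, 0, 0, 0, 0, 0, 0, 0, 0, 0, 0, 0, 0, 0, 0, 0, 0, 4, 5, 0, 8, 0, 0, 0, 0, 0, 0,
    0, 0, 13, 0, 0, 0, 15, 0, 0, 0, 24, 0, 28, 0, 0, 0, 35, 43, 0, 0, 62, 66, 68, 0],
  [0, 0, 0, 0, 0, 0, 0, 0, 0, 0, 0, 0, 0, 0, 0, 0, 0, 0, 0, 0, 2, 3, 0, 0, 0, 0, 0, 10, 0, 0, 0,
    0, 0, 13, 0, 0, 0, 0, 0, 0, 18, 20, 0, 0, 0, 0, 29, 31, 0, 46, 0, 58, 0, 0, 70, 72],
  [0, 0, 0, 0, 0, 0, 0, 0, 0, 0, 0, 0, 0, 0, 0, 0, 0, 0, 0, 2, 0, 5, 0, 0, 0, 0, 10, 0, 0, 0, 0,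
    0, 13, 0, 0, 0, 0, 0, 0, 18, 0, 21, 0, 0, 0, 29, 0, 34, 0, 47, 0, 59, 0, 70, 0, 73],
  [0, 0, 0, 0, 0, 0, 0, 0, 0, 0, 0, 0, 0, 0, 0, 0, 0, 0, 0, 4, 5, 0, 0, 0, 0, 10, 0, 0, 0, 0, 0,
    13, 0, 0, 0, 0, 0, 0, 18, 0, 0, 24, 0, 0, 29, 0, 0, 35, 0, 50, 0, 62, 0, 71, 73, 0]]

/-- Part of a table. -/
def lvE8_0_tbl_1 : List (List ℕ) := [
  [0, 0, 0, 0, 0, 0, 0, 0, 0, 0, 0, 0, 0, 0, 0, 0, 0, 0, 2, 0, 0, 7, 0, 0, 10, 0, 0, 0, 0, 0, 13,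
    0, 0, 0, 0, 0, 0, 0, 0, 19, 21, 0, 0, 0, 0, 32, 34, 0, 0, 52, 0, 64, 70, 0, 0, 76],
  [0, 0, 0, 0, 0, 0, 0, 0, 0, 0, 0, 0, 0, 0, 0, 0, 0, 0, 4, 0, 7, 0, 0, 10, 0, 0, 0, 0, 0, 13, 0,
    0, 0, 0, 0, 0, 0, 0, 19, 0, 24, 0, 0, 0, 32, 0, 35, 0, 0, 53, 0, 65, 71, 0, 76, 0],
  [0, 0, 0, 0, 0, 0, 0, 0, 0, 0, 0, 0, 0, 0, 0, 0, 0, 0, 6, 7, 0, 0, 10, 0, 0, 0, 0, 0, 13, 0, 0,
    0, 0, 0, 0, 0, 0, 0, 22, 24, 0, 0, 0, 0, 33, 35, 0, 0, 0, 56, 0, 68, 74, 76, 0, 0],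
  [0, 0, 0, 0, 0, 0, 0, 0, 0, 0, 0, 0, 0, 0, 0, 0, 2, 3, 0, 0, 0, 0, 0, 0, 0, 0, 0, 12, 0, 0, 0,
    0, 0, 16, 0, 0, 18, 20, 0, 0, 0, 0, 0, 0, 0, 0, 38, 40, 46, 0, 58, 0, 0, 0, 77, 79],
  [0, 0, 0, 0, 0, 0, 0, 0, 0, 0, 0, 0, 0, 0, 0, 2, 0, 5, 0, 0, 0, 0, 0, 0, 0, 0, 12, 0, 0, 0, 0,
    0, 16, 0, 0, 18, 0, 21, 0, 0, 0, 0, 0, 0, 0, 38, 0, 41, 47, 0, 59, 0, 0, 77, 0, 82],
  [0, 0, 0, 0, 0, 0, 0, 0, 0, 0, 0, 0, 0, 0, 0, 4, 5, 0, 0, 0, 0, 0, 0, 0, 0, 12, 0, 0, 0, 0, 0,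
    16, 0, 0, 18, 0, 0, 24, 0, 0, 0, 0, 0, 0, 38, 0, 0, 44, 50, 0, 62, 0, 0, 80, 82, 0],
  [0, 0, 0, 0, 0, 0, 0, 0, 0, 0, 0, 0, 0, 0, 2, 0, 0, 7, 0, 0, 0, 0, 0, 0, 12, 0, 0, 0, 0, 0, 16,
    0, 0, 0, 0, 19, 21, 0, 0, 0, 0, 0, 0, 0, 0, 39, 41, 0, 52, 0, 64, 0, 77, 0, 0, 83],
  [0, 0, 0, 0, 0, 0, 0, 0, 0, 0, 0, 0, 0, 0, 4, 0, 7, 0, 0, 0, 0, 0, 0, 12, 0, 0, 0, 0, 0, 16, 0,
    0, 0, 0, 19, 0, 24, 0, 0, 0, 0, 0, 0, 0, 39, 0, 44, 0, 53, 0, 65, 0, 80, 0, 83, 0],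
  [0, 0, 0, 0, 0, 0, 0, 0, 0, 0, 0, 0, 0, 0, 6, 7, 0, 0, 0, 0, 0, 0, 12, 0, 0, 0, 0, 0, 16, 0, 0,
    0, 0, 0, 22, 24, 0, 0, 0, 0, 0, 0, 0, 0, 42, 44, 0, 0, 56, 0, 68, 0, 81, 83, 0, 0],
  [0, 0, 0, 0, 0, 0, 0, 0, 0, 0, 0, 0, 0, 2, 0, 0, 0, 9, 0, 0, 0, 12, 0, 0, 0, 0, 0, 0, 0, 0, 17,
    0, 19, 21, 0, 0, 0, 0, 0, 0, 0, 0, 0, 0, 0, 46, 48, 52, 0, 0, 69, 77, 0, 0, 0, 86],
  [0, 0, 0, 0, 0, 0, 0, 0, 0, 0, 0, 0, 0, 4, 0, 0, 9, 0, 0, 0, 12, 0, 0, 0, 0, 0, 0, 0, 0, 17, 0,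
    19, 0, 24, 0, 0, 0, 0, 0, 0, 0, 0, 0, 0, 46, 0, 49, 53, 0, 0, 72, 80, 0, 0, 86, 0],
  [0, 0, 0, 0, 0, 0, 0, 0, 0, 0, 0, 0, 0, 6, 0, 9, 0, 0, 0, 12, 0, 0, 0, 0, 0, 0, 0, 0, 17, 0, 0,
    22, 24, 0, 0, 0, 0, 0, 0, 0, 0, 0, 0, 0, 47, 49, 0, 56, 0, 0, 73, 81, 0, 86, 0, 0],
  [0, 0, 0, 0, 0, 0, 0, 0, 0, 0, 0, 0, 0, 8, 9, 0, 0, 0, 12, 0, 0, 0, 0, 0, 0, 0, 0, 0, 20, 22,
    24, 0, 0, 0, 0, 0, 0, 0, 0, 0, 0, 0, 0, 0, 52, 54, 56, 0, 0, 0, 76, 84, 86, 0, 0, 0],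
  [0, 0, 0, 0, 0, 0, 0, 0, 0, 0, 0, 0, 2, 0, 0, 0, 0, 13, 0, 0, 0, 15, 0, 0, 17, 0, 19, 21, 0, 0,
    0, 0, 0, 0, 0, 0, 0, 0, 0, 0, 0, 0, 0, 0, 0, 57, 59, 63, 69, 77, 0, 0, 0, 0, 0, 87]]

/-- Part of a table. -/
def lvE8_0_tbl_2 : List (List ℕ) := [
  [0, 0, 0, 0, 0, 0, 0, 0, 0, 0, 0, 0, 4, 0, 0, 0, 13, 0, 0, 0, 15, 0, 0, 17, 0, 19, 0, 24, 0, 0,
    0, 0, 0, 0, 0, 0, 0, 0, 0, 0, 0, 0, 0, 0, 57, 0, 62, 66, 72, 80, 0, 0, 0, 0, 87, 0],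
  [0, 0, 0, 0, 0, 0, 0, 0, 0, 0, 0, 0, 6, 0, 0, 13, 0, 0, 0, 15, 0, 0, 17, 0, 0, 22, 24, 0, 0, 0,
    0, 0, 0, 0, 0, 0, 0, 0, 0, 0, 0, 0, 0, 0, 60, 62, 0, 67, 73, 81, 0, 0, 0, 87, 0, 0],
  [0, 0, 0, 0, 0, 0, 0, 0, 0, 0, 0, 0, 8, 0, 13, 0, 0, 0, 15, 0, 0, 0, 20, 22, 24, 0, 0, 0, 0, 0,
    0, 0, 0, 0, 0, 0, 0, 0, 0, 0, 0, 0, 0, 0, 63, 65, 67, 0, 76, 84, 0, 0, 87, 0, 0, 0],
  [0, 0, 0, 0, 0, 0, 0, 0, 0, 0, 0, 0, 10, 13, 0, 0, 0, 0, 18, 20, 22, 24, 0, 0, 0, 0, 0, 0, 0, 0,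
    0, 0, 0, 0, 0, 0, 0, 0, 0, 0, 0, 0, 0, 0, 70, 72, 74, 76, 0, 85, 0, 87, 0, 0, 0, 0],
  [0, 0, 0, 0, 0, 0, 0, 0, 0, 0, 0, 0, 12, 16, 18, 20, 22, 24, 0, 0, 0, 0, 0, 0, 0, 0, 0, 0, 0, 0,
    0, 0, 0, 0, 0, 0, 0, 0, 0, 0, 0, 0, 0, 0, 77, 79, 81, 83, 85, 0, 87, 0, 0, 0, 0, 0],
  [0, 0, 0, 0, 0, 0, 0, 0, 0, 0, 2, 3, 0, 0, 0, 0, 0, 0, 0, 0, 0, 0, 0, 0, 0, 0, 0, 25, 0, 0, 0,
    0, 0, 27, 0, 0, 29, 31, 0, 0, 37, 39, 45, 57, 0, 0, 0, 0, 0, 0, 0, 0, 0, 0, 89, 91],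
  [0, 0, 0, 0, 0, 0, 0, 0, 0, 2, 0, 5, 0, 0, 0, 0, 0, 0, 0, 0, 0, 0, 0, 0, 0, 0, 25, 0, 0, 0, 0,
    0, 27, 0, 0, 29, 0, 34, 0, 37, 0, 42, 48, 60, 0, 0, 0, 0, 0, 0, 0, 0, 0, 89, 0, 94],
  [0, 0, 0, 0, 0, 0, 0, 0, 0, 4, 5, 0, 0, 0, 0, 0, 0, 0, 0, 0, 0, 0, 0, 0, 0, 25, 0, 0, 0, 0, 0,
    27, 0, 0, 29, 0, 0, 35, 37, 0, 0, 43, 49, 61, 0, 0, 0, 0, 0, 0, 0, 0, 0, 92, 94, 0],
  [0, 0, 0, 0, 0, 0, 0, 0, 2, 0, 0, 7, 0, 0, 0, 0, 0, 0, 0, 0, 0, 0, 0, 0, 25, 0, 0, 0, 0, 0, 27,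
    0, 0, 0, 0, 32, 34, 0, 0, 40, 42, 0, 51, 63, 0, 0, 0, 0, 0, 0, 0, 0, 89, 0, 0, 95],
  [0, 0, 0, 0, 0, 0, 0, 0, 4, 0, 7, 0, 0, 0, 0, 0, 0, 0, 0, 0, 0, 0, 0, 25, 0, 0, 0, 0, 0, 27, 0,
    0, 0, 0, 32, 0, 35, 0, 40, 0, 43, 0, 54, 66, 0, 0, 0, 0, 0, 0, 0, 0, 92, 0, 95, 0],
  [0, 0, 0, 0, 0, 0, 0, 0, 6, 7, 0, 0, 0, 0, 0, 0, 0, 0, 0, 0, 0, 0, 25, 0, 0, 0, 0, 0, 27, 0, 0,
    0, 0, 0, 33, 35, 0, 0, 41, 43, 0, 0, 55, 67, 0, 0, 0, 0, 0, 0, 0, 0, 93, 95, 0, 0],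
  [0, 0, 0, 0, 0, 0, 0, 2, 0, 0, 0, 9, 0, 0, 0, 0, 0, 0, 0, 0, 0, 25, 0, 0, 0, 0, 0, 0, 0, 0, 30,
    0, 32, 34, 0, 0, 0, 0, 0, 45, 47, 51, 0, 70, 0, 0, 0, 0, 0, 0, 0, 89, 0, 0, 0, 98],
  [0, 0, 0, 0, 0, 0, 0, 4, 0, 0, 9, 0, 0, 0, 0, 0, 0, 0, 0, 0, 25, 0, 0, 0, 0, 0, 0, 0, 0, 30, 0,
    32, 0, 35, 0, 0, 0, 0, 45, 0, 50, 54, 0, 71, 0, 0, 0, 0, 0, 0, 0, 92, 0, 0, 98, 0],
  [0, 0, 0, 0, 0, 0, 0, 6, 0, 9, 0, 0, 0, 0, 0, 0, 0, 0, 0, 25, 0, 0, 0, 0, 0, 0, 0, 0, 30, 0, 0,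
    33, 35, 0, 0, 0, 0, 0, 48, 50, 0, 55, 0, 74, 0, 0, 0, 0, 0, 0, 0, 93, 0, 98, 0, 0]]

/-- Part of a table. -/
def lvE8_0_tbl_3 : List (List ℕ) := [
  [0, 0, 0, 0, 0, 0, 0, 8, 9, 0, 0, 0, 0, 0, 0, 0, 0, 0, 25, 0, 0, 0, 0, 0, 0, 0, 0, 0, 31, 33,
    35, 0, 0, 0, 0, 0, 0, 0, 51, 53, 55, 0, 0, 75, 0, 0, 0, 0, 0, 0, 0, 96, 98, 0, 0, 0],
  [0, 0, 0, 0, 0, 0, 2, 0, 0, 0, 0, 11, 0, 0, 0, 0, 0, 25, 0, 0, 0, 0, 0, 0, 0, 0, 0, 0, 0, 0, 37,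
    0, 39, 41, 0, 45, 47, 51, 0, 0, 0, 0, 0, 77, 0, 0, 0, 0, 0, 0, 89, 0, 0, 0, 0, 99],
  [0, 0, 0, 0, 0, 0, 4, 0, 0, 0, 11, 0, 0, 0, 0, 0, 25, 0, 0, 0, 0, 0, 0, 0, 0, 0, 0, 0, 0, 37, 0,
    39, 0, 44, 45, 0, 50, 54, 0, 0, 0, 0, 0, 80, 0, 0, 0, 0, 0, 0, 92, 0, 0, 0, 99, 0],
  [0, 0, 0, 0, 0, 0, 6, 0, 0, 11, 0, 0, 0, 0, 0, 25, 0, 0, 0, 0, 0, 0, 0, 0, 0, 0, 0, 0, 37, 0, 0,
    42, 44, 0, 48, 50, 0, 55, 0, 0, 0, 0, 0, 81, 0, 0, 0, 0, 0, 0, 93, 0, 0, 99, 0, 0],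
  [0, 0, 0, 0, 0, 0, 8, 0, 11, 0, 0, 0, 0, 0, 25, 0, 0, 0, 0, 0, 0, 0, 0, 0, 0, 0, 0, 0, 40, 42,
    44, 0, 0, 0, 51, 53, 55, 0, 0, 0, 0, 0, 0, 84, 0, 0, 0, 0, 0, 0, 96, 0, 99, 0, 0, 0],
  [0, 0, 0, 0, 0, 0, 10, 11, 0, 0, 0, 0, 0, 25, 0, 0, 0, 0, 0, 0, 0, 0, 0, 0, 0, 0, 0, 0, 45, 47,
    49, 51, 53, 55, 0, 0, 0, 0, 0, 0, 0, 0, 0, 85, 0, 0, 0, 0, 0, 0, 97, 99, 0, 0, 0, 0],
  [0, 0, 0, 0, 0, 2, 0, 0, 0, 0, 0, 13, 0, 0, 0, 0, 0, 0, 0, 0, 0, 28, 0, 0, 30, 0, 32, 34, 0, 0,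
    0, 0, 0, 0, 0, 0, 0, 0, 0, 58, 60, 64, 70, 0, 0, 0, 0, 0, 0, 89, 0, 0, 0, 0, 0, 101],
  [0, 0, 0, 0, 0, 4, 0, 0, 0, 0, 13, 0, 0, 0, 0, 0, 0, 0, 0, 0, 28, 0, 0, 30, 0, 32, 0, 35, 0, 0,
    0, 0, 0, 0, 0, 0, 0, 0, 58, 0, 61, 65, 71, 0, 0, 0, 0, 0, 0, 92, 0, 0, 0, 0, 101, 0],
  [0, 0, 0, 0, 0, 6, 0, 0, 0, 13, 0, 0, 0, 0, 0, 0, 0, 0, 0, 28, 0, 0, 30, 0, 0, 33, 35, 0, 0, 0,
    0, 0, 0, 0, 0, 0, 0, 0, 59, 61, 0, 68, 74, 0, 0, 0, 0, 0, 0, 93, 0, 0, 0, 101, 0, 0],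
  [0, 0, 0, 0, 0, 8, 0, 0, 13, 0, 0, 0, 0, 0, 0, 0, 0, 0, 28, 0, 0, 0, 31, 33, 35, 0, 0, 0, 0, 0,
    0, 0, 0, 0, 0, 0, 0, 0, 64, 66, 68, 0, 75, 0, 0, 0, 0, 0, 0, 96, 0, 0, 101, 0, 0, 0],
  [0, 0, 0, 0, 0, 10, 0, 13, 0, 0, 0, 0, 0, 0, 0, 0, 0, 0, 29, 31, 33, 35, 0, 0, 0, 0, 0, 0, 0, 0,
    0, 0, 0, 0, 0, 0, 0, 0, 69, 71, 73, 75, 0, 0, 0, 0, 0, 0, 0, 97, 0, 101, 0, 0, 0, 0],
  [0, 0, 0, 0, 2, 0, 0, 0, 0, 0, 0, 15, 0, 0, 0, 0, 0, 27, 0, 0, 0, 0, 0, 0, 38, 0, 40, 42, 0, 0,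
    0, 0, 0, 0, 0, 57, 59, 63, 0, 0, 0, 0, 78, 0, 0, 0, 0, 0, 90, 0, 0, 0, 0, 0, 0, 103],
  [0, 0, 0, 0, 4, 0, 0, 0, 0, 0, 15, 0, 0, 0, 0, 0, 27, 0, 0, 0, 0, 0, 0, 38, 0, 40, 0, 43, 0, 0,
    0, 0, 0, 0, 57, 0, 62, 66, 0, 0, 0, 0, 79, 0, 0, 0, 0, 0, 91, 0, 0, 0, 0, 0, 103, 0],
  [0, 0, 0, 0, 6, 0, 0, 0, 0, 15, 0, 0, 0, 0, 0, 27, 0, 0, 0, 0, 0, 0, 38, 0, 0, 41, 43, 0, 0, 0,
    0, 0, 0, 0, 60, 62, 0, 67, 0, 0, 0, 0, 82, 0, 0, 0, 0, 0, 94, 0, 0, 0, 0, 103, 0, 0]]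

/-- Part of a table. -/
def lvE8_0_tbl_4 : List (List ℕ) := [
  [0, 0, 0, 0, 8, 0, 0, 0, 15, 0, 0, 0, 0, 0, 27, 0, 0, 0, 0, 0, 0, 0, 39, 41, 43, 0, 0, 0, 0, 0,
    0, 0, 0, 0, 63, 65, 67, 0, 0, 0, 0, 0, 83, 0, 0, 0, 0, 0, 95, 0, 0, 0, 103, 0, 0, 0],
  [0, 0, 0, 2, 0, 0, 0, 0, 0, 0, 0, 17, 0, 0, 0, 0, 0, 29, 0, 0, 0, 37, 0, 0, 0, 0, 46, 48, 0, 0,
    0, 0, 58, 60, 0, 0, 0, 69, 0, 0, 0, 77, 0, 0, 0, 0, 0, 89, 0, 0, 0, 0, 0, 0, 0, 105],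
  [0, 0, 0, 4, 0, 0, 0, 0, 0, 0, 17, 0, 0, 0, 0, 0, 29, 0, 0, 0, 37, 0, 0, 0, 0, 46, 0, 49, 0, 0,
    0, 58, 0, 61, 0, 0, 0, 72, 0, 0, 0, 80, 0, 0, 0, 0, 0, 92, 0, 0, 0, 0, 0, 0, 105, 0],
  [0, 0, 0, 6, 0, 0, 0, 0, 0, 17, 0, 0, 0, 0, 0, 29, 0, 0, 0, 37, 0, 0, 0, 0, 0, 47, 49, 0, 0, 0,
    0, 59, 61, 0, 0, 0, 0, 73, 0, 0, 0, 81, 0, 0, 0, 0, 0, 93, 0, 0, 0, 0, 0, 105, 0, 0],
  [0, 0, 2, 0, 0, 0, 0, 0, 0, 0, 0, 19, 0, 0, 0, 0, 0, 31, 0, 0, 0, 39, 0, 0, 45, 0, 0, 52, 0, 0,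
    57, 0, 0, 64, 0, 0, 70, 0, 0, 0, 78, 0, 0, 0, 0, 0, 90, 0, 0, 0, 0, 0, 0, 0, 0, 107],
  [0, 0, 4, 0, 0, 0, 0, 0, 0, 0, 19, 0, 0, 0, 0, 0, 31, 0, 0, 0, 39, 0, 0, 45, 0, 0, 0, 53, 0, 57,
    0, 0, 0, 65, 0, 0, 71, 0, 0, 0, 79, 0, 0, 0, 0, 0, 91, 0, 0, 0, 0, 0, 0, 0, 107, 0],
  [0, 2, 0, 0, 0, 0, 0, 0, 0, 0, 0, 21, 0, 0, 0, 0, 0, 33, 0, 0, 0, 41, 0, 0, 47, 0, 51, 0, 0, 0,
    59, 0, 63, 0, 0, 69, 0, 0, 0, 77, 0, 0, 0, 0, 0, 89, 0, 0, 0, 0, 0, 0, 0, 0, 0, 109],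
  [4, 0, 0, 0, 0, 0, 0, 0, 0, 0, 23, 0, 0, 0, 0, 0, 35, 0, 0, 0, 43, 0, 0, 49, 0, 53, 0, 0, 0, 61,
    0, 65, 0, 0, 71, 0, 0, 0, 79, 0, 0, 0, 0, 0, 91, 0, 0, 0, 0, 0, 0, 0, 0, 0, 111, 0],
  [0, 6, 0, 0, 0, 0, 0, 0, 0, 21, 0, 0, 0, 0, 0, 33, 0, 0, 0, 41, 0, 0, 47, 0, 0, 0, 55, 0, 59, 0,
    0, 0, 67, 0, 0, 73, 0, 0, 0, 81, 0, 0, 0, 0, 0, 93, 0, 0, 0, 0, 0, 0, 0, 109, 0, 0],
  [6, 0, 0, 0, 0, 0, 0, 0, 0, 23, 0, 0, 0, 0, 0, 35, 0, 0, 0, 43, 0, 0, 49, 0, 0, 56, 0, 0, 61, 0,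
    0, 68, 0, 0, 74, 0, 0, 0, 82, 0, 0, 0, 0, 0, 94, 0, 0, 0, 0, 0, 0, 0, 0, 111, 0, 0],
  [0, 0, 8, 0, 0, 0, 0, 0, 19, 0, 0, 0, 0, 0, 31, 0, 0, 0, 39, 0, 0, 0, 0, 51, 53, 0, 0, 0, 0, 63,
    65, 0, 0, 0, 0, 0, 75, 0, 0, 0, 83, 0, 0, 0, 0, 0, 95, 0, 0, 0, 0, 0, 107, 0, 0, 0],
  [0, 8, 0, 0, 0, 0, 0, 0, 21, 0, 0, 0, 0, 0, 33, 0, 0, 0, 41, 0, 0, 0, 52, 0, 55, 0, 0, 0, 64, 0,
    67, 0, 0, 0, 0, 76, 0, 0, 0, 84, 0, 0, 0, 0, 0, 96, 0, 0, 0, 0, 0, 0, 109, 0, 0, 0],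
  [8, 0, 0, 0, 0, 0, 0, 0, 23, 0, 0, 0, 0, 0, 35, 0, 0, 0, 43, 0, 0, 0, 54, 56, 0, 0, 0, 0, 66,
    68, 0, 0, 0, 0, 75, 0, 0, 0, 83, 0, 0, 0, 0, 0, 95, 0, 0, 0, 0, 0, 0, 0, 111, 0, 0, 0],
  [0, 0, 0, 10, 0, 0, 0, 17, 0, 0, 0, 0, 0, 29, 0, 0, 0, 0, 0, 45, 47, 49, 0, 0, 0, 0, 0, 0, 0, 0,
    0, 69, 71, 73, 0, 0, 0, 0, 0, 0, 0, 85, 0, 0, 0, 0, 0, 97, 0, 0, 0, 105, 0, 0, 0, 0]]

/-- Part of a table. -/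
def lvE8_0_tbl_5 : List (List ℕ) := [
  [0, 0, 10, 0, 0, 0, 0, 19, 0, 0, 0, 0, 0, 31, 0, 0, 0, 0, 46, 0, 51, 53, 0, 0, 0, 0, 0, 0, 0,
    70, 72, 0, 0, 75, 0, 0, 0, 0, 0, 0, 86, 0, 0, 0, 0, 0, 98, 0, 0, 0, 0, 107, 0, 0, 0, 0],
  [0, 10, 0, 0, 0, 0, 0, 21, 0, 0, 0, 0, 0, 33, 0, 0, 0, 0, 48, 52, 0, 55, 0, 0, 0, 0, 0, 0, 69,
    0, 74, 0, 76, 0, 0, 0, 0, 0, 0, 85, 0, 0, 0, 0, 0, 97, 0, 0, 0, 0, 0, 109, 0, 0, 0, 0],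
  [10, 0, 0, 0, 0, 0, 0, 23, 0, 0, 0, 0, 0, 35, 0, 0, 0, 0, 50, 54, 56, 0, 0, 0, 0, 0, 0, 0, 71,
    73, 0, 75, 0, 0, 0, 0, 0, 0, 86, 0, 0, 0, 0, 0, 98, 0, 0, 0, 0, 0, 0, 111, 0, 0, 0, 0],
  [0, 0, 0, 0, 12, 0, 15, 0, 0, 0, 0, 0, 0, 0, 37, 39, 41, 43, 0, 0, 0, 0, 0, 0, 0, 0, 0, 0, 0, 0,
    0, 0, 0, 0, 77, 79, 81, 83, 0, 0, 0, 0, 0, 0, 0, 0, 0, 0, 99, 0, 103, 0, 0, 0, 0, 0],
  [0, 0, 0, 12, 0, 0, 17, 0, 0, 0, 0, 0, 0, 38, 0, 45, 47, 49, 0, 0, 0, 0, 0, 0, 0, 0, 0, 0, 0, 0,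
    0, 78, 80, 82, 0, 0, 0, 85, 0, 0, 0, 0, 0, 0, 0, 0, 0, 100, 0, 0, 105, 0, 0, 0, 0, 0],
  [0, 0, 12, 0, 0, 0, 19, 0, 0, 0, 0, 0, 0, 40, 46, 0, 51, 53, 0, 0, 0, 0, 0, 0, 0, 0, 0, 0, 0,
    77, 79, 0, 0, 84, 0, 0, 86, 0, 0, 0, 0, 0, 0, 0, 0, 0, 99, 0, 0, 0, 107, 0, 0, 0, 0, 0],
  [0, 12, 0, 0, 0, 0, 21, 0, 0, 0, 0, 0, 0, 42, 48, 52, 0, 55, 0, 0, 0, 0, 0, 0, 0, 0, 0, 0, 78,
    0, 81, 0, 83, 0, 0, 85, 0, 0, 0, 0, 0, 0, 0, 0, 0, 100, 0, 0, 0, 0, 109, 0, 0, 0, 0, 0],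
  [12, 0, 0, 0, 0, 0, 23, 0, 0, 0, 0, 0, 0, 44, 50, 54, 56, 0, 0, 0, 0, 0, 0, 0, 0, 0, 0, 0, 80,
    82, 0, 84, 0, 0, 86, 0, 0, 0, 0, 0, 0, 0, 0, 0, 99, 0, 0, 0, 0, 0, 111, 0, 0, 0, 0, 0],
  [0, 0, 0, 0, 14, 15, 0, 0, 0, 0, 0, 0, 27, 0, 0, 0, 0, 0, 0, 0, 0, 0, 57, 59, 61, 63, 65, 67, 0,
    0, 0, 0, 0, 0, 0, 0, 0, 0, 0, 0, 0, 0, 87, 0, 0, 0, 0, 0, 101, 103, 0, 0, 0, 0, 0, 0],
  [0, 0, 0, 14, 0, 17, 0, 0, 0, 0, 0, 0, 29, 0, 0, 0, 0, 0, 0, 58, 60, 62, 0, 0, 0, 69, 71, 73, 0,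
    0, 0, 0, 0, 0, 0, 0, 0, 0, 0, 0, 0, 88, 0, 0, 0, 0, 0, 102, 0, 105, 0, 0, 0, 0, 0, 0],
  [0, 0, 14, 0, 0, 19, 0, 0, 0, 0, 0, 0, 31, 0, 0, 0, 0, 0, 57, 0, 64, 66, 0, 70, 72, 0, 0, 75, 0,
    0, 0, 0, 0, 0, 0, 0, 0, 0, 0, 0, 87, 0, 0, 0, 0, 0, 101, 0, 0, 107, 0, 0, 0, 0, 0, 0],
  [0, 14, 0, 0, 0, 21, 0, 0, 0, 0, 0, 0, 33, 0, 0, 0, 0, 0, 59, 63, 0, 68, 69, 0, 74, 0, 76, 0, 0,
    0, 0, 0, 0, 0, 0, 0, 0, 0, 0, 88, 0, 0, 0, 0, 0, 102, 0, 0, 0, 109, 0, 0, 0, 0, 0, 0],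
  [14, 0, 0, 0, 0, 23, 0, 0, 0, 0, 0, 0, 35, 0, 0, 0, 0, 0, 61, 65, 67, 0, 71, 73, 0, 75, 0, 0, 0,
    0, 0, 0, 0, 0, 0, 0, 0, 0, 87, 0, 0, 0, 0, 0, 101, 0, 0, 0, 0, 111, 0, 0, 0, 0, 0, 0],
  [0, 0, 0, 16, 17, 0, 0, 0, 0, 0, 0, 0, 37, 0, 0, 57, 59, 61, 0, 0, 0, 0, 0, 0, 0, 77, 79, 81, 0,
    0, 0, 0, 0, 0, 0, 0, 0, 87, 0, 0, 0, 0, 0, 0, 0, 0, 0, 104, 106, 0, 0, 0, 0, 0, 0, 0]]

/-- Part of a table. -/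
def lvE8_0_tbl_6 : List (List ℕ) := [
  [0, 0, 16, 0, 19, 0, 0, 0, 0, 0, 0, 0, 39, 0, 58, 0, 63, 65, 0, 0, 0, 0, 0, 78, 80, 0, 0, 83, 0,
    0, 0, 0, 0, 0, 0, 0, 88, 0, 0, 0, 0, 0, 0, 0, 0, 0, 103, 0, 108, 0, 0, 0, 0, 0, 0, 0],
  [0, 16, 0, 0, 21, 0, 0, 0, 0, 0, 0, 0, 41, 0, 60, 64, 0, 67, 0, 0, 0, 0, 77, 0, 82, 0, 84, 0, 0,
    0, 0, 0, 0, 0, 0, 87, 0, 0, 0, 0, 0, 0, 0, 0, 0, 104, 0, 0, 110, 0, 0, 0, 0, 0, 0, 0],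
  [16, 0, 0, 0, 23, 0, 0, 0, 0, 0, 0, 0, 43, 0, 62, 66, 68, 0, 0, 0, 0, 0, 79, 81, 0, 83, 0, 0, 0,
    0, 0, 0, 0, 0, 88, 0, 0, 0, 0, 0, 0, 0, 0, 0, 103, 0, 0, 0, 112, 0, 0, 0, 0, 0, 0, 0],
  [0, 0, 18, 19, 0, 0, 0, 0, 0, 0, 0, 0, 45, 57, 0, 0, 69, 71, 0, 0, 77, 79, 0, 0, 0, 0, 0, 85, 0,
    0, 0, 0, 0, 87, 0, 0, 0, 0, 0, 0, 0, 0, 0, 0, 0, 0, 105, 107, 0, 0, 0, 0, 0, 0, 0, 0],
  [0, 18, 0, 21, 0, 0, 0, 0, 0, 0, 0, 0, 47, 59, 0, 70, 0, 73, 0, 78, 0, 81, 0, 0, 0, 0, 86, 0, 0,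
    0, 0, 0, 88, 0, 0, 0, 0, 0, 0, 0, 0, 0, 0, 0, 0, 106, 0, 109, 0, 0, 0, 0, 0, 0, 0, 0],
  [18, 0, 0, 23, 0, 0, 0, 0, 0, 0, 0, 0, 49, 61, 0, 72, 74, 0, 0, 80, 82, 0, 0, 0, 0, 85, 0, 0, 0,
    0, 0, 87, 0, 0, 0, 0, 0, 0, 0, 0, 0, 0, 0, 0, 105, 0, 0, 111, 0, 0, 0, 0, 0, 0, 0, 0],
  [0, 20, 21, 0, 0, 0, 0, 0, 0, 0, 0, 0, 51, 63, 69, 0, 0, 75, 77, 0, 0, 83, 0, 0, 85, 0, 0, 0, 0,
    0, 87, 0, 0, 0, 0, 0, 0, 0, 0, 0, 0, 0, 0, 0, 0, 108, 110, 0, 0, 0, 0, 0, 0, 0, 0, 0],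
  [20, 0, 23, 0, 0, 0, 0, 0, 0, 0, 0, 0, 53, 65, 71, 0, 76, 0, 79, 0, 84, 0, 0, 86, 0, 0, 0, 0, 0,
    88, 0, 0, 0, 0, 0, 0, 0, 0, 0, 0, 0, 0, 0, 0, 107, 0, 112, 0, 0, 0, 0, 0, 0, 0, 0, 0],
  [22, 23, 0, 0, 0, 0, 0, 0, 0, 0, 0, 0, 55, 67, 73, 75, 0, 0, 81, 83, 0, 0, 85, 0, 0, 0, 0, 0,
    87, 0, 0, 0, 0, 0, 0, 0, 0, 0, 0, 0, 0, 0, 0, 0, 109, 111, 0, 0, 0, 0, 0, 0, 0, 0, 0, 0],
  [0, 0, 0, 0, 0, 26, 0, 28, 30, 32, 34, 36, 0, 0, 0, 0, 0, 0, 0, 0, 0, 0, 0, 0, 0, 0, 0, 0, 0, 0,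
    0, 0, 0, 0, 0, 0, 0, 0, 89, 91, 93, 95, 97, 101, 0, 0, 0, 0, 0, 0, 0, 0, 0, 0, 0, 0],
  [0, 0, 0, 0, 26, 0, 27, 0, 38, 40, 42, 44, 0, 0, 0, 0, 0, 0, 0, 0, 0, 0, 0, 0, 0, 0, 0, 0, 0, 0,
    0, 0, 0, 0, 90, 92, 94, 96, 0, 0, 0, 0, 99, 103, 0, 0, 0, 0, 0, 0, 0, 0, 0, 0, 0, 0],
  [0, 0, 0, 26, 0, 0, 29, 37, 0, 46, 48, 50, 0, 0, 0, 0, 0, 0, 0, 0, 0, 0, 0, 0, 0, 0, 0, 0, 0, 0,
    0, 89, 91, 93, 0, 0, 0, 98, 0, 0, 0, 100, 0, 105, 0, 0, 0, 0, 0, 0, 0, 0, 0, 0, 0, 0],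
  [0, 0, 26, 0, 0, 0, 31, 39, 45, 0, 52, 54, 0, 0, 0, 0, 0, 0, 0, 0, 0, 0, 0, 0, 0, 0, 0, 0, 0,
    90, 92, 0, 0, 95, 0, 0, 97, 0, 0, 0, 99, 0, 0, 107, 0, 0, 0, 0, 0, 0, 0, 0, 0, 0, 0, 0],
  [0, 26, 0, 0, 0, 0, 33, 41, 47, 51, 0, 56, 0, 0, 0, 0, 0, 0, 0, 0, 0, 0, 0, 0, 0, 0, 0, 0, 89,
    0, 94, 0, 96, 0, 0, 98, 0, 0, 0, 100, 0, 0, 0, 109, 0, 0, 0, 0, 0, 0, 0, 0, 0, 0, 0, 0]]

/-- Part of a table. -/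
def lvE8_0_tbl_7 : List (List ℕ) := [
  [26, 0, 0, 0, 0, 0, 35, 43, 49, 53, 55, 0, 0, 0, 0, 0, 0, 0, 0, 0, 0, 0, 0, 0, 0, 0, 0, 0, 91,
    93, 0, 95, 0, 0, 97, 0, 0, 0, 99, 0, 0, 0, 0, 111, 0, 0, 0, 0, 0, 0, 0, 0, 0, 0, 0, 0],
  [0, 0, 0, 28, 29, 38, 0, 0, 0, 58, 60, 62, 0, 0, 0, 0, 0, 0, 0, 0, 0, 0, 0, 0, 0, 90, 92, 94, 0,
    0, 0, 0, 0, 0, 0, 0, 0, 102, 0, 0, 0, 104, 106, 0, 0, 0, 0, 0, 0, 0, 0, 0, 0, 0, 0, 0],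
  [0, 0, 28, 0, 31, 40, 0, 0, 57, 0, 64, 66, 0, 0, 0, 0, 0, 0, 0, 0, 0, 0, 0, 89, 91, 0, 0, 96, 0,
    0, 0, 0, 0, 0, 0, 0, 101, 0, 0, 0, 103, 0, 108, 0, 0, 0, 0, 0, 0, 0, 0, 0, 0, 0, 0, 0],
  [0, 28, 0, 0, 33, 42, 0, 0, 59, 63, 0, 68, 0, 0, 0, 0, 0, 0, 0, 0, 0, 0, 90, 0, 93, 0, 95, 0, 0,
    0, 0, 0, 0, 0, 0, 102, 0, 0, 0, 104, 0, 0, 110, 0, 0, 0, 0, 0, 0, 0, 0, 0, 0, 0, 0, 0],
  [28, 0, 0, 0, 35, 44, 0, 0, 61, 65, 67, 0, 0, 0, 0, 0, 0, 0, 0, 0, 0, 0, 92, 94, 0, 96, 0, 0, 0,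
    0, 0, 0, 0, 0, 101, 0, 0, 0, 103, 0, 0, 0, 112, 0, 0, 0, 0, 0, 0, 0, 0, 0, 0, 0, 0, 0],
  [0, 0, 30, 31, 0, 46, 0, 58, 0, 0, 70, 72, 0, 0, 0, 0, 0, 0, 0, 0, 90, 92, 0, 0, 0, 0, 0, 98, 0,
    0, 0, 0, 0, 102, 0, 0, 0, 0, 0, 0, 105, 107, 0, 0, 0, 0, 0, 0, 0, 0, 0, 0, 0, 0, 0, 0],
  [0, 30, 0, 33, 0, 48, 0, 60, 0, 69, 0, 74, 0, 0, 0, 0, 0, 0, 0, 89, 0, 94, 0, 0, 0, 0, 97, 0, 0,
    0, 0, 0, 101, 0, 0, 0, 0, 0, 0, 106, 0, 109, 0, 0, 0, 0, 0, 0, 0, 0, 0, 0, 0, 0, 0, 0],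
  [30, 0, 0, 35, 0, 50, 0, 62, 0, 71, 73, 0, 0, 0, 0, 0, 0, 0, 0, 91, 93, 0, 0, 0, 0, 98, 0, 0, 0,
    0, 0, 102, 0, 0, 0, 0, 0, 0, 105, 0, 0, 111, 0, 0, 0, 0, 0, 0, 0, 0, 0, 0, 0, 0, 0, 0],
  [0, 32, 33, 0, 0, 52, 0, 64, 70, 0, 0, 76, 0, 0, 0, 0, 0, 0, 90, 0, 0, 96, 0, 0, 98, 0, 0, 0, 0,
    0, 102, 0, 0, 0, 0, 0, 0, 0, 0, 108, 110, 0, 0, 0, 0, 0, 0, 0, 0, 0, 0, 0, 0, 0, 0, 0],
  [32, 0, 35, 0, 0, 54, 0, 66, 72, 0, 75, 0, 0, 0, 0, 0, 0, 0, 92, 0, 95, 0, 0, 97, 0, 0, 0, 0, 0,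
    101, 0, 0, 0, 0, 0, 0, 0, 0, 107, 0, 112, 0, 0, 0, 0, 0, 0, 0, 0, 0, 0, 0, 0, 0, 0, 0],
  [34, 35, 0, 0, 0, 56, 0, 68, 74, 76, 0, 0, 0, 0, 0, 0, 0, 0, 94, 96, 0, 0, 98, 0, 0, 0, 0, 0,
    102, 0, 0, 0, 0, 0, 0, 0, 0, 0, 109, 111, 0, 0, 0, 0, 0, 0, 0, 0, 0, 0, 0, 0, 0, 0, 0, 0],
  [0, 0, 38, 39, 46, 0, 57, 0, 0, 0, 78, 80, 0, 0, 0, 0, 89, 91, 0, 0, 0, 0, 0, 0, 0, 0, 0, 100,
    0, 0, 0, 0, 0, 104, 0, 0, 106, 108, 0, 0, 0, 0, 0, 0, 0, 0, 0, 0, 0, 0, 0, 0, 0, 0, 0, 0],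
  [0, 38, 0, 41, 48, 0, 59, 0, 0, 77, 0, 82, 0, 0, 0, 90, 0, 93, 0, 0, 0, 0, 0, 0, 0, 0, 99, 0, 0,
    0, 0, 0, 103, 0, 0, 105, 0, 110, 0, 0, 0, 0, 0, 0, 0, 0, 0, 0, 0, 0, 0, 0, 0, 0, 0, 0],
  [38, 0, 0, 43, 50, 0, 61, 0, 0, 79, 81, 0, 0, 0, 0, 92, 94, 0, 0, 0, 0, 0, 0, 0, 0, 100, 0, 0,
    0, 0, 0, 104, 0, 0, 106, 0, 0, 112, 0, 0, 0, 0, 0, 0, 0, 0, 0, 0, 0, 0, 0, 0, 0, 0, 0, 0]]

/-- Part of a table. -/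
def lvE8_0_tbl_8 : List (List ℕ) := [
  [0, 40, 41, 0, 52, 0, 63, 0, 78, 0, 0, 84, 0, 0, 89, 0, 0, 95, 0, 0, 0, 0, 0, 0, 100, 0, 0, 0,
    0, 0, 104, 0, 0, 0, 0, 107, 109, 0, 0, 0, 0, 0, 0, 0, 0, 0, 0, 0, 0, 0, 0, 0, 0, 0, 0, 0],
  [40, 0, 43, 0, 54, 0, 65, 0, 80, 0, 83, 0, 0, 0, 91, 0, 96, 0, 0, 0, 0, 0, 0, 99, 0, 0, 0, 0, 0,
    103, 0, 0, 0, 0, 108, 0, 111, 0, 0, 0, 0, 0, 0, 0, 0, 0, 0, 0, 0, 0, 0, 0, 0, 0, 0, 0],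
  [42, 43, 0, 0, 56, 0, 67, 0, 82, 84, 0, 0, 0, 0, 93, 95, 0, 0, 0, 0, 0, 0, 100, 0, 0, 0, 0, 0,
    104, 0, 0, 0, 0, 0, 110, 112, 0, 0, 0, 0, 0, 0, 0, 0, 0, 0, 0, 0, 0, 0, 0, 0, 0, 0, 0, 0],
  [0, 46, 47, 52, 0, 0, 69, 77, 0, 0, 0, 86, 0, 90, 0, 0, 0, 97, 0, 0, 0, 99, 0, 0, 0, 0, 0, 0, 0,
    0, 106, 0, 108, 110, 0, 0, 0, 0, 0, 0, 0, 0, 0, 0, 0, 0, 0, 0, 0, 0, 0, 0, 0, 0, 0, 0],
  [46, 0, 49, 54, 0, 0, 71, 79, 0, 0, 85, 0, 0, 92, 0, 0, 98, 0, 0, 0, 100, 0, 0, 0, 0, 0, 0, 0,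
    0, 105, 0, 107, 0, 112, 0, 0, 0, 0, 0, 0, 0, 0, 0, 0, 0, 0, 0, 0, 0, 0, 0, 0, 0, 0, 0, 0],
  [48, 49, 0, 56, 0, 0, 73, 81, 0, 86, 0, 0, 0, 94, 0, 97, 0, 0, 0, 99, 0, 0, 0, 0, 0, 0, 0, 0,
    106, 0, 0, 109, 111, 0, 0, 0, 0, 0, 0, 0, 0, 0, 0, 0, 0, 0, 0, 0, 0, 0, 0, 0, 0, 0, 0, 0],
  [52, 53, 56, 0, 0, 0, 75, 83, 85, 0, 0, 0, 0, 96, 98, 0, 0, 0, 100, 0, 0, 0, 0, 0, 0, 0, 0, 0,
    108, 110, 112, 0, 0, 0, 0, 0, 0, 0, 0, 0, 0, 0, 0, 0, 0, 0, 0, 0, 0, 0, 0, 0, 0, 0, 0, 0],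
  [0, 58, 59, 64, 69, 78, 0, 0, 0, 0, 0, 88, 89, 0, 0, 0, 0, 101, 0, 0, 0, 103, 0, 0, 105, 0, 107,
    109, 0, 0, 0, 0, 0, 0, 0, 0, 0, 0, 0, 0, 0, 0, 0, 0, 0, 0, 0, 0, 0, 0, 0, 0, 0, 0, 0, 0],
  [58, 0, 61, 66, 71, 80, 0, 0, 0, 0, 87, 0, 91, 0, 0, 0, 102, 0, 0, 0, 104, 0, 0, 106, 0, 108, 0,
    111, 0, 0, 0, 0, 0, 0, 0, 0, 0, 0, 0, 0, 0, 0, 0, 0, 0, 0, 0, 0, 0, 0, 0, 0, 0, 0, 0, 0],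
  [60, 61, 0, 68, 73, 82, 0, 0, 0, 88, 0, 0, 93, 0, 0, 101, 0, 0, 0, 103, 0, 0, 105, 0, 0, 110,
    112, 0, 0, 0, 0, 0, 0, 0, 0, 0, 0, 0, 0, 0, 0, 0, 0, 0, 0, 0, 0, 0, 0, 0, 0, 0, 0, 0, 0, 0],
  [64, 65, 68, 0, 75, 84, 0, 0, 87, 0, 0, 0, 95, 0, 102, 0, 0, 0, 104, 0, 0, 0, 107, 109, 111, 0,
    0, 0, 0, 0, 0, 0, 0, 0, 0, 0, 0, 0, 0, 0, 0, 0, 0, 0, 0, 0, 0, 0, 0, 0, 0, 0, 0, 0, 0, 0],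
  [70, 71, 74, 75, 0, 86, 0, 88, 0, 0, 0, 0, 97, 101, 0, 0, 0, 0, 106, 108, 110, 112, 0, 0, 0, 0,
    0, 0, 0, 0, 0, 0, 0, 0, 0, 0, 0, 0, 0, 0, 0, 0, 0, 0, 0, 0, 0, 0, 0, 0, 0, 0, 0, 0, 0, 0],
  [78, 79, 82, 83, 86, 0, 87, 0, 0, 0, 0, 0, 99, 103, 105, 107, 109, 111, 0, 0, 0, 0, 0, 0, 0, 0,
    0, 0, 0, 0, 0, 0, 0, 0, 0, 0, 0, 0, 0, 0, 0, 0, 0, 0, 0, 0, 0, 0, 0, 0, 0, 0, 0, 0, 0, 0],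
  [90, 91, 94, 95, 98, 99, 101, 103, 105, 107, 109, 111, 0, 0, 0, 0, 0, 0, 0, 0, 0, 0, 0, 0, 0, 0,
    0, 0, 0, 0, 0, 0, 0, 0, 0, 0, 0, 0, 0, 0, 0, 0, 0, 0, 0, 0, 0, 0, 0, 0, 0, 0, 0, 0, 0, 0]]

/-- Part of a table. -/
def lvE8_0_beta_0 : List BetaRaw := [
  ⟨[], [(0, 44), (1, 38), (2, 34), (3, 31), (4, 29), (5, 28), (7, 25), (8, 23), (9, 22), (11, 20),
    (12, 19), (14, 18), (17, 16), (18, 15), (20, 14), (23, 13), (27, 12), (33, 10), (34, 9),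
    (36, 8), (39, 7), (43, 6), (48, 5), (53, 4), (57, 3), (60, 2), (62, 1)], [(6, 43), (6, 50),
    (6, 51), (6, 52), (6, 53), (6, 54), (10, 52), (10, 53), (10, 54), (13, 53), (13, 54), (15,
    54), (19, 53), (19, 54), (21, 54), (24, 54), (28, 54), (35, 53), (35, 54), (37, 54), (40,
    54), (44, 54), (49, 54), (54, 54), (58, 54), (61, 54), (63, 54), (64, 53)]⟩,
  ⟨[(63, 0)], [(0, 45), (1, 39), (2, 35), (3, 32), (4, 30), (6, 28), (7, 26), (8, 24), (10, 22),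
    (11, 21), (13, 19), (15, 18), (17, 17), (19, 15), (21, 14), (24, 13), (28, 12), (33, 11),
    (35, 9), (37, 8), (40, 7), (44, 6), (49, 5), (54, 4), (58, 3), (61, 2)], [(5, 43), (5, 50),
    (5, 51), (5, 52), (5, 53), (5, 55), (9, 52), (9, 53), (9, 55), (12, 53), (12, 55), (14, 55),
    (18, 53), (18, 55), (20, 55), (23, 55), (27, 55), (34, 53), (34, 55), (36, 55), (39, 55),
    (43, 55), (48, 55), (53, 55), (57, 55), (60, 55), (62, 55), (65, 53)]⟩,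
  ⟨[(64, 1), (65, 0)], [(0, 46), (1, 40), (2, 36), (3, 33), (5, 30), (6, 29), (7, 27), (9, 24),
    (10, 23), (12, 21), (13, 20), (16, 18), (18, 17), (19, 16), (22, 14), (25, 13), (29, 12),
    (34, 11), (35, 10), (38, 8), (41, 7), (45, 6), (50, 5), (55, 4), (59, 3)], [(4, 43), (4,
    50), (4, 51), (4, 52), (4, 54), (4, 55), (8, 52), (8, 54), (8, 55), (11, 54), (11, 55), (14,
    55), (17, 54), (17, 55), (20, 55), (23, 55), (27, 55), (33, 54), (33, 55), (36, 55), (39,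
    55), (43, 55), (48, 55), (53, 55), (57, 55), (60, 55), (62, 55), (63, 54)]⟩,
  ⟨[(66, 2), (67, 1), (68, 0)], [(0, 47), (1, 41), (2, 37), (4, 33), (5, 32), (6, 31), (8, 27),
    (9, 26), (10, 25), (14, 21), (15, 20), (16, 19), (20, 17), (21, 16), (22, 15), (26, 13),
    (30, 12), (36, 11), (37, 10), (38, 9), (42, 7), (46, 6), (51, 5), (56, 4)], [(3, 43), (3,
    50), (3, 51), (3, 53), (3, 54), (3, 55), (7, 53), (7, 54), (7, 55), (11, 54), (11, 55), (12,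
    55), (17, 54), (17, 55), (18, 55), (23, 55), (27, 55), (33, 54), (33, 55), (34, 55), (39,
    55), (43, 55), (48, 55), (53, 55), (57, 55), (60, 55), (62, 55), (63, 54)]⟩,
  ⟨[(69, 3), (70, 2), (71, 1), (72, 0)], [(0, 48), (1, 42), (3, 37), (4, 36), (5, 35), (6, 34),
    (11, 27), (12, 26), (13, 25), (14, 24), (15, 23), (16, 22), (23, 17), (24, 16), (25, 15),
    (26, 14), (31, 12), (39, 11), (40, 10), (41, 9), (42, 8), (47, 6), (52, 5)], [(2, 43), (2,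
    50), (2, 52), (2, 53), (2, 54), (2, 55), (7, 53), (7, 54), (7, 55), (8, 54), (8, 55), (9,
    55), (17, 54), (17, 55), (18, 55), (20, 55), (27, 55), (33, 54), (33, 55), (34, 55), (36,
    55), (43, 55), (48, 55), (53, 55), (57, 55), (60, 55), (62, 55), (63, 54)]⟩,
  ⟨[(73, 4), (74, 3), (75, 2), (76, 1), (77, 0)], [(0, 49), (2, 42), (3, 41), (4, 40), (5, 39),
    (6, 38), (17, 27), (18, 26), (19, 25), (20, 24), (21, 23), (22, 22), (23, 21), (24, 20),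
    (25, 19), (26, 18), (32, 12), (43, 11), (44, 10), (45, 9), (46, 8), (47, 7)], [(1, 43), (1,
    51), (1, 52), (1, 53), (1, 54), (1, 55), (7, 53), (7, 54), (7, 55), (8, 54), (8, 55), (9,
    55), (11, 54), (11, 55), (12, 55), (14, 55), (27, 55), (33, 54), (33, 55), (34, 55), (36,
    55), (39, 55), (48, 55), (53, 55), (57, 55), (60, 55), (62, 55), (63, 54)]⟩,
  ⟨[(78, 4), (79, 3), (80, 2), (81, 1), (82, 0)], [(0, 50), (1, 43), (7, 37), (8, 36), (9, 35),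
    (10, 34), (11, 33), (12, 32), (13, 31), (14, 30), (15, 29), (16, 28), (27, 17), (28, 16),
    (29, 15), (30, 14), (31, 13), (48, 11), (49, 10), (50, 9), (51, 8), (52, 7)], [(2, 42), (2,
    48), (2, 52), (2, 53), (2, 54), (2, 55), (3, 53), (3, 54), (3, 55), (4, 54), (4, 55), (5,
    55), (17, 54), (17, 55), (18, 55), (20, 55), (23, 55), (33, 54), (33, 55), (34, 55), (36,
    55), (39, 55), (43, 55), (53, 55), (57, 55), (60, 55), (62, 55), (63, 54)]⟩]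

/-- Part of a table. -/
def lvE8_0_beta_1 : List BetaRaw := [
  ⟨[(73, 6), (78, 5), (83, 3), (84, 2), (85, 1), (86, 0)], [(0, 51), (2, 43), (7, 41), (8, 40),
    (9, 39), (10, 38), (17, 33), (18, 32), (19, 31), (20, 30), (21, 29), (22, 28), (27, 21),
    (28, 20), (29, 19), (30, 18), (32, 13), (53, 11), (54, 10), (55, 9), (56, 8)], [(1, 42), (1,
    49), (1, 52), (1, 53), (1, 54), (1, 55), (3, 53), (3, 54), (3, 55), (4, 54), (4, 55), (5,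
    55), (11, 54), (11, 55), (12, 55), (14, 55), (23, 55), (33, 54), (33, 55), (34, 55), (36,
    55), (39, 55), (43, 55), (48, 55), (57, 55), (60, 55), (62, 55), (63, 54)]⟩,
  ⟨[(69, 7), (74, 6), (79, 5), (83, 4), (87, 2), (88, 1), (89, 0)], [(0, 52), (3, 43), (7, 42),
    (11, 40), (12, 39), (13, 38), (17, 36), (18, 35), (19, 34), (23, 30), (24, 29), (25, 28),
    (27, 24), (28, 23), (29, 22), (31, 18), (32, 14), (57, 11), (58, 10), (59, 9)], [(1, 41),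
    (1, 49), (1, 51), (1, 53), (1, 54), (1, 55), (2, 53), (2, 54), (2, 55), (4, 54), (4, 55),
    (5, 55), (8, 54), (8, 55), (9, 55), (14, 55), (20, 55), (33, 54), (33, 55), (34, 55), (36,
    55), (39, 55), (43, 55), (48, 55), (53, 55), (60, 55), (62, 55), (63, 54)]⟩,
  ⟨[(66, 8), (70, 7), (75, 6), (80, 5), (84, 4), (87, 3), (90, 1), (91, 0)], [(0, 53), (4, 43),
    (8, 42), (11, 41), (14, 39), (15, 38), (17, 37), (20, 35), (21, 34), (23, 32), (24, 31),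
    (26, 28), (27, 26), (28, 25), (30, 22), (31, 19), (32, 15), (60, 11), (61, 10)], [(1, 40),
    (1, 49), (1, 51), (1, 52), (1, 54), (1, 55), (2, 52), (2, 54), (2, 55), (3, 54), (3, 55),
    (5, 55), (7, 54), (7, 55), (9, 55), (12, 55), (18, 55), (33, 54), (33, 55), (34, 55), (36,
    55), (39, 55), (43, 55), (48, 55), (53, 55), (57, 55), (62, 55), (63, 54)]⟩,
  ⟨[(64, 9), (67, 8), (71, 7), (76, 6), (81, 5), (85, 4), (88, 3), (90, 2), (92, 0)], [(0, 54),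
    (5, 43), (9, 42), (12, 41), (14, 40), (16, 38), (18, 37), (20, 36), (22, 34), (23, 33), (25,
    31), (26, 29), (27, 27), (29, 25), (30, 23), (31, 20), (32, 16), (62, 11)], [(1, 39), (1,
    49), (1, 51), (1, 52), (1, 53), (1, 55), (2, 52), (2, 53), (2, 55), (3, 53), (3, 55), (4,
    55), (7, 53), (7, 55), (8, 55), (11, 55), (17, 55), (34, 53), (33, 55), (34, 55), (36, 55),
    (39, 55), (43, 55), (48, 55), (53, 55), (57, 55), (60, 55), (65, 53)]⟩,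
  ⟨[(63, 10), (65, 9), (68, 8), (72, 7), (77, 6), (82, 5), (86, 4), (89, 3), (91, 2), (92, 1)],
    [(0, 55), (6, 43), (10, 42), (13, 41), (15, 40), (16, 39), (19, 37), (21, 36), (22, 35),
    (24, 33), (25, 32), (26, 30), (28, 27), (29, 26), (30, 24), (31, 21), (32, 17)], [(1, 38),
    (1, 49), (1, 51), (1, 52), (1, 53), (1, 54), (2, 52), (2, 53), (2, 54), (3, 53), (3, 54),
    (4, 54), (7, 53), (7, 54), (8, 54), (11, 54), (17, 54), (35, 53), (33, 54), (35, 54), (37,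
    54), (40, 54), (44, 54), (49, 54), (54, 54), (58, 54), (61, 54), (64, 53)]⟩,
  ⟨[(93, 5), (94, 4), (95, 3), (96, 2), (97, 1), (98, 0)], [(1, 49), (2, 48), (3, 47), (4, 46),
    (5, 45), (6, 44), (33, 27), (34, 26), (35, 25), (36, 24), (37, 23), (38, 22), (39, 21), (40,
    20), (41, 19), (42, 18), (43, 17), (44, 16), (45, 15), (46, 14), (47, 13)], [(0, 50), (0,
    51), (0, 52), (0, 53), (0, 54), (0, 55), (7, 53), (7, 54), (7, 55), (8, 54), (8, 55), (9,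
    55), (11, 54), (11, 55), (12, 55), (14, 55), (17, 54), (17, 55), (18, 55), (20, 55), (23,
    55), (27, 55), (48, 55), (53, 55), (57, 55), (60, 55), (62, 55), (63, 54)]⟩,
  ⟨[(78, 12), (93, 7), (94, 6), (99, 3), (100, 2), (101, 1), (102, 0)], [(1, 51), (2, 50), (7,
    47), (8, 46), (9, 45), (10, 44), (33, 33), (34, 32), (35, 31), (36, 30), (37, 29), (38, 28),
    (48, 21), (49, 20), (50, 19), (51, 18), (53, 17), (54, 16), (55, 15), (56, 14)], [(0, 48),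
    (0, 49), (0, 52), (0, 53), (0, 54), (0, 55), (3, 53), (3, 54), (3, 55), (4, 54), (4, 55),
    (5, 55), (11, 54), (11, 55), (12, 55), (14, 55), (17, 54), (17, 55), (18, 55), (20, 55),
    (23, 55), (27, 55), (39, 55), (43, 55), (57, 55), (60, 55), (62, 55), (63, 54)]⟩]

/-- Part of a table. -/
def lvE8_0_beta_2 : List BetaRaw := [
  ⟨[(69, 13), (79, 12), (93, 8), (95, 6), (99, 4), (103, 2), (104, 1), (105, 0)], [(1, 52), (3,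
    50), (7, 48), (11, 46), (12, 45), (13, 44), (33, 36), (34, 35), (35, 34), (39, 30), (40,
    29), (41, 28), (48, 24), (49, 23), (50, 22), (52, 18), (57, 17), (58, 16), (59, 15)], [(0,
    47), (0, 49), (0, 51), (0, 53), (0, 54), (0, 55), (2, 53), (2, 54), (2, 55), (4, 54), (4,
    55), (5, 55), (8, 54), (8, 55), (9, 55), (14, 55), (17, 54), (17, 55), (18, 55), (20, 55),
    (23, 55), (27, 55), (36, 55), (43, 55), (53, 55), (60, 55), (62, 55), (63, 54)]⟩,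
  ⟨[(66, 14), (70, 13), (80, 12), (93, 9), (96, 6), (100, 4), (103, 3), (106, 1), (107, 0)], [(1,
    53), (4, 50), (8, 48), (11, 47), (14, 45), (15, 44), (33, 37), (36, 35), (37, 34), (39, 32),
    (40, 31), (42, 28), (48, 26), (49, 25), (51, 22), (52, 19), (60, 17), (61, 16)], [(0, 46),
    (0, 49), (0, 51), (0, 52), (0, 54), (0, 55), (2, 52), (2, 54), (2, 55), (3, 54), (3, 55),
    (5, 55), (7, 54), (7, 55), (9, 55), (12, 55), (17, 54), (17, 55), (18, 55), (20, 55), (23,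
    55), (27, 55), (34, 55), (43, 55), (53, 55), (57, 55), (62, 55), (63, 54)]⟩,
  ⟨[(64, 15), (67, 14), (71, 13), (81, 12), (93, 10), (97, 6), (101, 4), (104, 3), (106, 2), (108,
    0)], [(1, 54), (5, 50), (9, 48), (12, 47), (14, 46), (16, 44), (34, 37), (36, 36), (38, 34),
    (39, 33), (41, 31), (42, 29), (48, 27), (50, 25), (51, 23), (52, 20), (62, 17)], [(0, 45),
    (0, 49), (0, 51), (0, 52), (0, 53), (0, 55), (2, 52), (2, 53), (2, 55), (3, 53), (3, 55),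
    (4, 55), (7, 53), (7, 55), (8, 55), (11, 55), (18, 53), (17, 55), (18, 55), (20, 55), (23,
    55), (27, 55), (33, 55), (43, 55), (53, 55), (57, 55), (60, 55), (65, 53)]⟩,
  ⟨[(63, 16), (65, 15), (68, 14), (72, 13), (82, 12), (93, 11), (98, 6), (102, 4), (105, 3), (107,
    2), (108, 1)], [(1, 55), (6, 50), (10, 48), (13, 47), (15, 46), (16, 45), (35, 37), (37,
    36), (38, 35), (40, 33), (41, 32), (42, 30), (49, 27), (50, 26), (51, 24), (52, 21)], [(0,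
    44), (0, 49), (0, 51), (0, 52), (0, 53), (0, 54), (2, 52), (2, 53), (2, 54), (3, 53), (3,
    54), (4, 54), (7, 53), (7, 54), (8, 54), (11, 54), (19, 53), (17, 54), (19, 54), (21, 54),
    (24, 54), (28, 54), (33, 54), (44, 54), (54, 54), (58, 54), (61, 54), (64, 53)]⟩,
  ⟨[(73, 14), (74, 13), (83, 12), (94, 8), (95, 7), (99, 5), (109, 2), (110, 1), (111, 0)], [(2,
    52), (3, 51), (7, 49), (17, 46), (18, 45), (19, 44), (33, 40), (34, 39), (35, 38), (43, 30),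
    (44, 29), (45, 28), (53, 24), (54, 23), (55, 22), (57, 21), (58, 20), (59, 19)], [(0, 47),
    (0, 48), (0, 50), (0, 53), (0, 54), (0, 55), (1, 53), (1, 54), (1, 55), (4, 54), (4, 55),
    (5, 55), (8, 54), (8, 55), (9, 55), (11, 54), (11, 55), (12, 55), (14, 55), (20, 55), (23,
    55), (27, 55), (36, 55), (39, 55), (48, 55), (60, 55), (62, 55), (63, 54)]⟩,
  ⟨[(66, 18), (73, 15), (75, 13), (84, 12), (94, 9), (96, 7), (100, 5), (109, 3), (112, 1), (113,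
    0)], [(2, 53), (4, 51), (8, 49), (17, 47), (20, 45), (21, 44), (33, 41), (36, 39), (37, 38),
    (43, 32), (44, 31), (46, 28), (53, 26), (54, 25), (56, 22), (60, 21), (61, 20)], [(0, 46),
    (0, 48), (0, 50), (0, 52), (0, 54), (0, 55), (1, 52), (1, 54), (1, 55), (3, 54), (3, 55),
    (5, 55), (7, 54), (7, 55), (9, 55), (11, 54), (11, 55), (12, 55), (14, 55), (18, 55), (23,
    55), (27, 55), (34, 55), (39, 55), (48, 55), (57, 55), (62, 55), (63, 54)]⟩,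
  ⟨[(64, 19), (67, 18), (73, 16), (76, 13), (85, 12), (94, 10), (97, 7), (101, 5), (110, 3), (112,
    2), (114, 0)], [(2, 54), (5, 51), (9, 49), (18, 47), (20, 46), (22, 44), (34, 41), (36, 40),
    (38, 38), (43, 33), (45, 31), (46, 29), (53, 27), (55, 25), (56, 23), (62, 21)], [(0, 45),
    (0, 48), (0, 50), (0, 52), (0, 53), (0, 55), (1, 52), (1, 53), (1, 55), (3, 53), (3, 55),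
    (4, 55), (7, 53), (7, 55), (8, 55), (12, 53), (11, 55), (12, 55), (14, 55), (17, 55), (23,
    55), (27, 55), (33, 55), (39, 55), (48, 55), (57, 55), (60, 55), (65, 53)]⟩]

/-- Part of a table. -/
def lvE8_0_beta_3 : List BetaRaw := [
  ⟨[(63, 20), (65, 19), (68, 18), (73, 17), (77, 13), (86, 12), (94, 11), (98, 7), (102, 5), (111,
    3), (113, 2), (114, 1)], [(2, 55), (6, 51), (10, 49), (19, 47), (21, 46), (22, 45), (35,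
    41), (37, 40), (38, 39), (44, 33), (45, 32), (46, 30), (54, 27), (55, 26), (56, 24)], [(0,
    44), (0, 48), (0, 50), (0, 52), (0, 53), (0, 54), (1, 52), (1, 53), (1, 54), (3, 53), (3,
    54), (4, 54), (7, 53), (7, 54), (8, 54), (13, 53), (11, 54), (13, 54), (15, 54), (17, 54),
    (24, 54), (28, 54), (33, 54), (40, 54), (49, 54), (58, 54), (61, 54), (64, 53)]⟩,
  ⟨[(69, 19), (70, 18), (74, 15), (75, 14), (87, 12), (95, 9), (96, 8), (103, 5), (109, 4), (115,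
    1), (116, 0)], [(3, 53), (4, 52), (11, 49), (17, 48), (23, 45), (24, 44), (33, 42), (39,
    39), (40, 38), (43, 35), (44, 34), (47, 28), (57, 26), (58, 25), (60, 24), (61, 23)], [(0,
    46), (0, 47), (0, 50), (0, 51), (0, 54), (0, 55), (1, 51), (1, 54), (1, 55), (2, 54), (2,
    55), (5, 55), (7, 54), (7, 55), (8, 54), (8, 55), (9, 55), (12, 55), (14, 55), (18, 55),
    (20, 55), (27, 55), (34, 55), (36, 55), (48, 55), (53, 55), (62, 55), (63, 54)]⟩,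
  ⟨[(64, 22), (69, 20), (71, 18), (74, 16), (76, 14), (88, 12), (95, 10), (97, 8), (104, 5), (110,
    4), (115, 2), (117, 0)], [(3, 54), (5, 52), (12, 49), (18, 48), (23, 46), (25, 44), (34,
    42), (39, 40), (41, 38), (43, 36), (45, 34), (47, 29), (57, 27), (59, 25), (62, 24)], [(0,
    45), (0, 47), (0, 50), (0, 51), (0, 53), (0, 55), (1, 51), (1, 53), (1, 55), (2, 53), (2,
    55), (4, 55), (7, 53), (7, 55), (9, 53), (8, 55), (9, 55), (11, 55), (14, 55), (17, 55),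
    (20, 55), (27, 55), (33, 55), (36, 55), (48, 55), (53, 55), (60, 55), (65, 53)]⟩,
  ⟨[(63, 23), (65, 22), (69, 21), (72, 18), (74, 17), (77, 14), (89, 12), (95, 11), (98, 8), (105,
    5), (111, 4), (116, 2), (117, 1)], [(3, 55), (6, 52), (13, 49), (19, 48), (24, 46), (25,
    45), (35, 42), (40, 40), (41, 39), (44, 36), (45, 35), (47, 30), (58, 27), (59, 26)], [(0,
    44), (0, 47), (0, 50), (0, 51), (0, 53), (0, 54), (1, 51), (1, 53), (1, 54), (2, 53), (2,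
    54), (4, 54), (7, 53), (7, 54), (10, 53), (8, 54), (10, 54), (11, 54), (15, 54), (17, 54),
    (21, 54), (28, 54), (33, 54), (37, 54), (49, 54), (54, 54), (61, 54), (64, 53)]⟩,
  ⟨[(66, 23), (67, 22), (70, 20), (71, 19), (75, 16), (76, 15), (90, 12), (96, 10), (97, 9), (106,
    5), (112, 4), (115, 3), (118, 0)], [(4, 54), (5, 53), (14, 49), (20, 48), (23, 47), (26,
    44), (36, 42), (39, 41), (42, 38), (43, 37), (46, 34), (47, 31), (60, 27), (62, 26)], [(0,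
    45), (0, 46), (0, 50), (0, 51), (0, 52), (0, 55), (1, 51), (1, 52), (1, 55), (2, 52), (2,
    55), (3, 55), (8, 52), (8, 55), (9, 52), (7, 55), (9, 55), (11, 55), (12, 55), (17, 55),
    (18, 55), (27, 55), (33, 55), (34, 55), (48, 55), (53, 55), (57, 55), (68, 52)]⟩,
  ⟨[(63, 25), (66, 24), (68, 22), (70, 21), (72, 19), (75, 17), (77, 15), (91, 12), (96, 11), (98,
    9), (107, 5), (113, 4), (116, 3), (118, 1)], [(4, 55), (6, 53), (15, 49), (21, 48), (24,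
    47), (26, 45), (37, 42), (40, 41), (42, 39), (44, 37), (46, 35), (47, 32), (61, 27)], [(0,
    44), (0, 46), (0, 50), (0, 51), (0, 52), (0, 54), (1, 51), (1, 52), (1, 54), (2, 52), (2,
    54), (3, 54), (8, 52), (8, 54), (10, 52), (7, 54), (10, 54), (11, 54), (13, 54), (17, 54),
    (19, 54), (28, 54), (33, 54), (35, 54), (49, 54), (54, 54), (58, 54), (67, 52)]⟩,
  ⟨[(64, 26), (65, 25), (67, 24), (68, 23), (71, 21), (72, 20), (76, 17), (77, 16), (92, 12), (97,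
    11), (98, 10), (108, 5), (114, 4), (117, 3), (118, 2)], [(5, 55), (6, 54), (16, 49), (22,
    48), (25, 47), (26, 46), (38, 42), (41, 41), (42, 40), (45, 37), (46, 36), (47, 33)], [(0,
    44), (0, 45), (0, 50), (0, 51), (0, 52), (0, 53), (1, 51), (1, 52), (1, 53), (2, 52), (2,
    53), (3, 53), (9, 52), (9, 53), (10, 52), (7, 53), (10, 53), (12, 53), (13, 53), (18, 53),
    (19, 53), (29, 53), (34, 53), (35, 53), (50, 53), (55, 53), (59, 53), (66, 52)]⟩]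

/-- Part of a table. -/
def lvE8_0_beta_4 : List BetaRaw := [
  ⟨[(78, 22), (79, 19), (80, 18), (83, 15), (84, 14), (87, 13), (99, 9), (100, 8), (103, 7), (109,
    6), (119, 1), (120, 0)], [(7, 53), (8, 52), (11, 51), (17, 50), (27, 45), (28, 44), (33,
    43), (48, 39), (49, 38), (53, 35), (54, 34), (57, 32), (58, 31), (60, 30), (61, 29)], [(0,
    46), (0, 47), (0, 48), (0, 49), (0, 54), (0, 55), (1, 49), (1, 54), (1, 55), (2, 54), (2,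
    55), (3, 54), (3, 55), (4, 54), (4, 55), (5, 55), (9, 55), (12, 55), (14, 55), (18, 55),
    (20, 55), (23, 55), (34, 55), (36, 55), (39, 55), (43, 55), (62, 55), (63, 54)]⟩,
  ⟨[(64, 28), (78, 23), (79, 20), (81, 18), (83, 16), (85, 14), (88, 13), (99, 10), (101, 8),
    (104, 7), (110, 6), (119, 2), (121, 0)], [(7, 54), (9, 52), (12, 51), (18, 50), (27, 46),
    (29, 44), (34, 43), (48, 40), (50, 38), (53, 36), (55, 34), (57, 33), (59, 31), (62, 30)],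
    [(0, 45), (0, 47), (0, 48), (0, 49), (0, 53), (0, 55), (1, 49), (1, 53), (1, 55), (2, 53),
    (2, 55), (3, 53), (3, 55), (5, 53), (4, 55), (5, 55), (8, 55), (11, 55), (14, 55), (17, 55),
    (20, 55), (23, 55), (33, 55), (36, 55), (39, 55), (43, 55), (60, 55), (65, 53)]⟩,
  ⟨[(63, 29), (65, 28), (78, 24), (79, 21), (82, 18), (83, 17), (86, 14), (89, 13), (99, 11),
    (102, 8), (105, 7), (111, 6), (120, 2), (121, 1)], [(7, 55), (10, 52), (13, 51), (19, 50),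
    (28, 46), (29, 45), (35, 43), (49, 40), (50, 39), (54, 36), (55, 35), (58, 33), (59, 32)],
    [(0, 44), (0, 47), (0, 48), (0, 49), (0, 53), (0, 54), (1, 49), (1, 53), (1, 54), (2, 53),
    (2, 54), (3, 53), (3, 54), (6, 53), (4, 54), (6, 54), (8, 54), (11, 54), (15, 54), (17, 54),
    (21, 54), (24, 54), (33, 54), (37, 54), (40, 54), (44, 54), (61, 54), (64, 53)]⟩,
  ⟨[(66, 29), (67, 28), (78, 25), (80, 20), (81, 19), (84, 16), (85, 15), (90, 13), (100, 10),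
    (101, 9), (106, 7), (112, 6), (119, 3), (122, 0)], [(8, 54), (9, 53), (14, 51), (20, 50),
    (27, 47), (30, 44), (36, 43), (48, 41), (51, 38), (53, 37), (56, 34), (60, 33), (62, 32)],
    [(0, 45), (0, 46), (0, 48), (0, 49), (0, 52), (0, 55), (1, 49), (1, 52), (1, 55), (2, 52),
    (2, 55), (4, 52), (4, 55), (5, 52), (3, 55), (5, 55), (7, 55), (11, 55), (12, 55), (17, 55),
    (18, 55), (23, 55), (33, 55), (34, 55), (39, 55), (43, 55), (57, 55), (68, 52)]⟩,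
  ⟨[(63, 31), (66, 30), (68, 28), (78, 26), (80, 21), (82, 19), (84, 17), (86, 15), (91, 13),
    (100, 11), (102, 9), (107, 7), (113, 6), (120, 3), (122, 1)], [(8, 55), (10, 53), (15, 51),
    (21, 50), (28, 47), (30, 45), (37, 43), (49, 41), (51, 39), (54, 37), (56, 35), (61, 33)],
    [(0, 44), (0, 46), (0, 48), (0, 49), (0, 52), (0, 54), (1, 49), (1, 52), (1, 54), (2, 52),
    (2, 54), (4, 52), (4, 54), (6, 52), (3, 54), (6, 54), (7, 54), (11, 54), (13, 54), (17, 54),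
    (19, 54), (24, 54), (33, 54), (35, 54), (40, 54), (44, 54), (58, 54), (67, 52)]⟩,
  ⟨[(64, 32), (65, 31), (67, 30), (68, 29), (78, 27), (81, 21), (82, 20), (85, 17), (86, 16), (92,
    13), (101, 11), (102, 10), (108, 7), (114, 6), (121, 3), (122, 2)], [(9, 55), (10, 54), (16,
    51), (22, 50), (29, 47), (30, 46), (38, 43), (50, 41), (51, 40), (55, 37), (56, 36)], [(0,
    44), (0, 45), (0, 48), (0, 49), (0, 52), (0, 53), (1, 49), (1, 52), (1, 53), (2, 52), (2,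
    53), (5, 52), (5, 53), (6, 52), (3, 53), (6, 53), (7, 53), (12, 53), (13, 53), (18, 53),
    (19, 53), (25, 53), (34, 53), (35, 53), (41, 53), (45, 53), (59, 53), (66, 52)]⟩,
  ⟨[(69, 31), (70, 29), (71, 28), (79, 25), (80, 23), (81, 22), (87, 16), (88, 15), (90, 14),
    (103, 10), (104, 9), (106, 8), (115, 6), (119, 4), (123, 0)], [(11, 54), (12, 53), (14, 52),
    (23, 50), (27, 48), (31, 44), (39, 43), (48, 42), (52, 38), (57, 37), (60, 36), (62, 35)],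
    [(0, 45), (0, 46), (0, 47), (0, 49), (0, 51), (0, 55), (1, 49), (1, 51), (1, 55), (3, 51),
    (3, 55), (4, 51), (4, 55), (5, 51), (2, 55), (5, 55), (7, 55), (8, 55), (9, 55), (17, 55),
    (18, 55), (20, 55), (33, 55), (34, 55), (36, 55), (43, 55), (53, 55), (72, 51)]⟩]

/-- Part of a table. -/
def lvE8_0_beta_5 : List BetaRaw := [
  ⟨[(63, 34), (69, 32), (70, 30), (72, 28), (79, 26), (80, 24), (82, 22), (87, 17), (89, 15), (91,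
    14), (103, 11), (105, 9), (107, 8), (116, 6), (120, 4), (123, 1)], [(11, 55), (13, 53), (15,
    52), (24, 50), (28, 48), (31, 45), (40, 43), (49, 42), (52, 39), (58, 37), (61, 36)], [(0,
    44), (0, 46), (0, 47), (0, 49), (0, 51), (0, 54), (1, 49), (1, 51), (1, 54), (3, 51), (3,
    54), (4, 51), (4, 54), (6, 51), (2, 54), (6, 54), (7, 54), (8, 54), (10, 54), (17, 54), (19,
    54), (21, 54), (33, 54), (35, 54), (37, 54), (44, 54), (54, 54), (71, 51)]⟩,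
  ⟨[(64, 35), (65, 34), (69, 33), (71, 30), (72, 29), (79, 27), (81, 24), (82, 23), (88, 17), (89,
    16), (92, 14), (104, 11), (105, 10), (108, 8), (117, 6), (121, 4), (123, 2)], [(12, 55),
    (13, 54), (16, 52), (25, 50), (29, 48), (31, 46), (41, 43), (50, 42), (52, 40), (59, 37)],
    [(0, 44), (0, 45), (0, 47), (0, 49), (0, 51), (0, 53), (1, 49), (1, 51), (1, 53), (3, 51),
    (3, 53), (5, 51), (5, 53), (6, 51), (2, 53), (6, 53), (7, 53), (9, 53), (10, 53), (18, 53),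
    (19, 53), (22, 53), (34, 53), (35, 53), (38, 53), (45, 53), (55, 53), (70, 51)]⟩,
  ⟨[(66, 36), (67, 35), (68, 34), (70, 33), (71, 32), (72, 31), (80, 27), (81, 26), (82, 25), (90,
    17), (91, 16), (92, 15), (106, 11), (107, 10), (108, 9), (118, 6), (122, 4), (123, 3)],
    [(14, 55), (15, 54), (16, 53), (26, 50), (30, 48), (31, 47), (42, 43), (51, 42), (52, 41)],
    [(0, 44), (0, 45), (0, 46), (0, 49), (0, 51), (0, 52), (1, 49), (1, 51), (1, 52), (4, 51),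
    (4, 52), (5, 51), (5, 52), (6, 51), (2, 52), (6, 52), (8, 52), (9, 52), (10, 52), (20, 52),
    (21, 52), (22, 52), (36, 52), (37, 52), (38, 52), (46, 52), (56, 52), (69, 51)]⟩,
  ⟨[(73, 34), (74, 31), (75, 29), (76, 28), (83, 25), (84, 23), (85, 22), (87, 20), (88, 19), (90,
    18), (109, 10), (110, 9), (112, 8), (115, 7), (119, 5), (124, 0)], [(17, 54), (18, 53), (20,
    52), (23, 51), (27, 49), (32, 44), (43, 43), (53, 42), (57, 41), (60, 40), (62, 39)], [(0,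
    45), (0, 46), (0, 47), (0, 48), (0, 50), (0, 55), (2, 48), (2, 50), (2, 55), (3, 50), (3,
    55), (4, 50), (4, 55), (5, 50), (1, 55), (5, 55), (7, 55), (8, 55), (9, 55), (11, 55), (12,
    55), (14, 55), (33, 55), (34, 55), (36, 55), (39, 55), (48, 55), (77, 50)]⟩,
  ⟨[(63, 38), (73, 35), (74, 32), (75, 30), (77, 28), (83, 26), (84, 24), (86, 22), (87, 21), (89,
    19), (91, 18), (109, 11), (111, 9), (113, 8), (116, 7), (120, 5), (124, 1)], [(17, 55), (19,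
    53), (21, 52), (24, 51), (28, 49), (32, 45), (44, 43), (54, 42), (58, 41), (61, 40)], [(0,
    44), (0, 46), (0, 47), (0, 48), (0, 50), (0, 54), (2, 48), (2, 50), (2, 54), (3, 50), (3,
    54), (4, 50), (4, 54), (6, 50), (1, 54), (6, 54), (7, 54), (8, 54), (10, 54), (11, 54), (13,
    54), (15, 54), (33, 54), (35, 54), (37, 54), (40, 54), (49, 54), (76, 50)]⟩,
  ⟨[(64, 39), (65, 38), (73, 36), (74, 33), (76, 30), (77, 29), (83, 27), (85, 24), (86, 23), (88,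
    21), (89, 20), (92, 18), (110, 11), (111, 10), (114, 8), (117, 7), (121, 5), (124, 2)],
    [(18, 55), (19, 54), (22, 52), (25, 51), (29, 49), (32, 46), (45, 43), (55, 42), (59, 41)],
    [(0, 44), (0, 45), (0, 47), (0, 48), (0, 50), (0, 53), (2, 48), (2, 50), (2, 53), (3, 50),
    (3, 53), (5, 50), (5, 53), (6, 50), (1, 53), (6, 53), (7, 53), (9, 53), (10, 53), (12, 53),
    (13, 53), (16, 53), (34, 53), (35, 53), (38, 53), (41, 53), (50, 53), (75, 50)]⟩,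
  ⟨[(66, 40), (67, 39), (68, 38), (73, 37), (75, 33), (76, 32), (77, 31), (84, 27), (85, 26), (86,
    25), (90, 21), (91, 20), (92, 19), (112, 11), (113, 10), (114, 9), (118, 7), (122, 5), (124,
    3)], [(20, 55), (21, 54), (22, 53), (26, 51), (30, 49), (32, 47), (46, 43), (56, 42)], [(0,
    44), (0, 45), (0, 46), (0, 48), (0, 50), (0, 52), (2, 48), (2, 50), (2, 52), (4, 50), (4,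
    52), (5, 50), (5, 52), (6, 50), (1, 52), (6, 52), (8, 52), (9, 52), (10, 52), (14, 52), (15,
    52), (16, 52), (36, 52), (37, 52), (38, 52), (42, 52), (51, 52), (74, 50)]⟩]

/-- Part of a table. -/
def lvE8_0_beta_6 : List BetaRaw := [
  ⟨[(69, 41), (70, 40), (71, 39), (72, 38), (74, 37), (75, 36), (76, 35), (77, 34), (87, 27), (88,
    26), (89, 25), (90, 24), (91, 23), (92, 22), (115, 11), (116, 10), (117, 9), (118, 8), (123,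
    5), (124, 4)], [(23, 55), (24, 54), (25, 53), (26, 52), (31, 49), (32, 48), (47, 43)], [(0,
    44), (0, 45), (0, 46), (0, 47), (0, 50), (0, 51), (3, 47), (3, 50), (3, 51), (4, 50), (4,
    51), (5, 50), (5, 51), (6, 50), (1, 51), (6, 51), (11, 51), (12, 51), (13, 51), (14, 51),
    (15, 51), (16, 51), (39, 51), (40, 51), (41, 51), (42, 51), (52, 51), (73, 50)]⟩,
  ⟨[(78, 42), (79, 41), (80, 40), (81, 39), (82, 38), (83, 37), (84, 36), (85, 35), (86, 34), (87,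
    33), (88, 32), (89, 31), (90, 30), (91, 29), (92, 28), (119, 11), (120, 10), (121, 9), (122,
    8), (123, 7), (124, 6)], [(27, 55), (28, 54), (29, 53), (30, 52), (31, 51), (32, 50)], [(0,
    44), (0, 45), (0, 46), (0, 47), (0, 48), (0, 49), (7, 47), (7, 48), (7, 49), (8, 48), (8,
    49), (9, 48), (9, 49), (10, 48), (1, 49), (10, 49), (11, 49), (12, 49), (13, 49), (14, 49),
    (15, 49), (16, 49), (48, 49), (49, 49), (50, 49), (51, 49), (52, 49), (73, 48)]⟩,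
  ⟨[(93, 38), (94, 34), (95, 31), (96, 29), (97, 28), (99, 25), (100, 23), (101, 22), (103, 20),
    (104, 19), (106, 18), (109, 16), (110, 15), (112, 14), (115, 13), (119, 12), (125, 0)],
    [(33, 54), (34, 53), (36, 52), (39, 51), (43, 50), (48, 49), (53, 48), (57, 47), (60, 46),
    (62, 45)], [(1, 39), (1, 40), (1, 41), (1, 42), (1, 43), (1, 55), (2, 42), (2, 43), (2, 55),
    (3, 43), (3, 55), (4, 43), (4, 55), (5, 43), (0, 55), (5, 55), (7, 55), (8, 55), (9, 55),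
    (11, 55), (12, 55), (14, 55), (17, 55), (18, 55), (20, 55), (23, 55), (27, 55), (98, 43)]⟩,
  ⟨[(63, 44), (93, 39), (94, 35), (95, 32), (96, 30), (98, 28), (99, 26), (100, 24), (102, 22),
    (103, 21), (105, 19), (107, 18), (109, 17), (111, 15), (113, 14), (116, 13), (120, 12),
    (125, 1)], [(33, 55), (35, 53), (37, 52), (40, 51), (44, 50), (49, 49), (54, 48), (58, 47),
    (61, 46)], [(1, 38), (1, 40), (1, 41), (1, 42), (1, 43), (1, 54), (2, 42), (2, 43), (2, 54),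
    (3, 43), (3, 54), (4, 43), (4, 54), (6, 43), (0, 54), (6, 54), (7, 54), (8, 54), (10, 54),
    (11, 54), (13, 54), (15, 54), (17, 54), (19, 54), (21, 54), (24, 54), (28, 54), (97, 43)]⟩,
  ⟨[(64, 45), (65, 44), (93, 40), (94, 36), (95, 33), (97, 30), (98, 29), (99, 27), (101, 24),
    (102, 23), (104, 21), (105, 20), (108, 18), (110, 17), (111, 16), (114, 14), (117, 13),
    (121, 12), (125, 2)], [(34, 55), (35, 54), (38, 52), (41, 51), (45, 50), (50, 49), (55, 48),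
    (59, 47)], [(1, 38), (1, 39), (1, 41), (1, 42), (1, 43), (1, 53), (2, 42), (2, 43), (2, 53),
    (3, 43), (3, 53), (5, 43), (5, 53), (6, 43), (0, 53), (6, 53), (7, 53), (9, 53), (10, 53),
    (12, 53), (13, 53), (16, 53), (18, 53), (19, 53), (22, 53), (25, 53), (29, 53), (96, 43)]⟩,
  ⟨[(66, 46), (67, 45), (68, 44), (93, 41), (94, 37), (96, 33), (97, 32), (98, 31), (100, 27),
    (101, 26), (102, 25), (106, 21), (107, 20), (108, 19), (112, 17), (113, 16), (114, 15),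
    (118, 13), (122, 12), (125, 3)], [(36, 55), (37, 54), (38, 53), (42, 51), (46, 50), (51,
    49), (56, 48)], [(1, 38), (1, 39), (1, 40), (1, 42), (1, 43), (1, 52), (2, 42), (2, 43), (2,
    52), (4, 43), (4, 52), (5, 43), (5, 52), (6, 43), (0, 52), (6, 52), (8, 52), (9, 52), (10,
    52), (14, 52), (15, 52), (16, 52), (20, 52), (21, 52), (22, 52), (26, 52), (30, 52), (95,
    43)]⟩,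
  ⟨[(69, 47), (70, 46), (71, 45), (72, 44), (93, 42), (95, 37), (96, 36), (97, 35), (98, 34),
    (103, 27), (104, 26), (105, 25), (106, 24), (107, 23), (108, 22), (115, 17), (116, 16),
    (117, 15), (118, 14), (123, 12), (125, 4)], [(39, 55), (40, 54), (41, 53), (42, 52), (47,
    50), (52, 49)], [(1, 38), (1, 39), (1, 40), (1, 41), (1, 43), (1, 51), (3, 41), (3, 43), (3,
    51), (4, 43), (4, 51), (5, 43), (5, 51), (6, 43), (0, 51), (6, 51), (11, 51), (12, 51), (13,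
    51), (14, 51), (15, 51), (16, 51), (23, 51), (24, 51), (25, 51), (26, 51), (31, 51), (94,
    43)]⟩]

/-- Part of a table. -/
def lvE8_0_beta_7 : List BetaRaw := [
  ⟨[(73, 48), (74, 47), (75, 46), (76, 45), (77, 44), (94, 42), (95, 41), (96, 40), (97, 39), (98,
    38), (109, 27), (110, 26), (111, 25), (112, 24), (113, 23), (114, 22), (115, 21), (116, 20),
    (117, 19), (118, 18), (124, 12), (125, 5)], [(43, 55), (44, 54), (45, 53), (46, 52), (47,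
    51)], [(2, 34), (2, 35), (2, 36), (2, 37), (2, 43), (2, 50), (3, 37), (3, 43), (3, 50), (4,
    43), (4, 50), (5, 43), (5, 50), (6, 43), (0, 50), (6, 50), (17, 50), (18, 50), (19, 50),
    (20, 50), (21, 50), (22, 50), (23, 50), (24, 50), (25, 50), (26, 50), (32, 50), (93, 43)]⟩,
  ⟨[(78, 48), (79, 47), (80, 46), (81, 45), (82, 44), (93, 43), (99, 37), (100, 36), (101, 35),
    (102, 34), (103, 33), (104, 32), (105, 31), (106, 30), (107, 29), (108, 28), (119, 17),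
    (120, 16), (121, 15), (122, 14), (123, 13), (125, 6)], [(48, 55), (49, 54), (50, 53), (51,
    52), (52, 51)], [(1, 38), (1, 39), (1, 40), (1, 41), (1, 42), (1, 49), (7, 41), (7, 42), (7,
    49), (8, 42), (8, 49), (9, 42), (9, 49), (10, 42), (0, 49), (10, 49), (11, 49), (12, 49),
    (13, 49), (14, 49), (15, 49), (16, 49), (27, 49), (28, 49), (29, 49), (30, 49), (31, 49),
    (94, 42)]⟩,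
  ⟨[(73, 50), (78, 49), (83, 47), (84, 46), (85, 45), (86, 44), (94, 43), (99, 41), (100, 40),
    (101, 39), (102, 38), (109, 33), (110, 32), (111, 31), (112, 30), (113, 29), (114, 28),
    (119, 21), (120, 20), (121, 19), (122, 18), (124, 13), (125, 7)], [(53, 55), (54, 54), (55,
    53), (56, 52)], [(2, 34), (2, 35), (2, 36), (2, 37), (2, 42), (2, 48), (7, 37), (7, 42), (7,
    48), (8, 42), (8, 48), (9, 42), (9, 48), (10, 42), (0, 48), (10, 48), (17, 48), (18, 48),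
    (19, 48), (20, 48), (21, 48), (22, 48), (27, 48), (28, 48), (29, 48), (30, 48), (32, 48),
    (93, 42)]⟩,
  ⟨[(69, 51), (74, 50), (79, 49), (83, 48), (87, 46), (88, 45), (89, 44), (95, 43), (99, 42),
    (103, 40), (104, 39), (105, 38), (109, 36), (110, 35), (111, 34), (115, 30), (116, 29),
    (117, 28), (119, 24), (120, 23), (121, 22), (123, 18), (124, 14), (125, 8)], [(57, 55), (58,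
    54), (59, 53)], [(3, 31), (3, 32), (3, 33), (3, 37), (3, 41), (3, 47), (7, 37), (7, 41), (7,
    47), (11, 41), (11, 47), (12, 41), (12, 47), (13, 41), (0, 47), (13, 47), (17, 47), (18,
    47), (19, 47), (23, 47), (24, 47), (25, 47), (27, 47), (28, 47), (29, 47), (31, 47), (32,
    47), (93, 41)]⟩,
  ⟨[(66, 52), (70, 51), (75, 50), (80, 49), (84, 48), (87, 47), (90, 45), (91, 44), (96, 43),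
    (100, 42), (103, 41), (106, 39), (107, 38), (109, 37), (112, 35), (113, 34), (115, 32),
    (116, 31), (118, 28), (119, 26), (120, 25), (122, 22), (123, 19), (124, 15), (125, 9)],
    [(60, 55), (61, 54)], [(4, 29), (4, 30), (4, 33), (4, 36), (4, 40), (4, 46), (8, 36), (8,
    40), (8, 46), (11, 40), (11, 46), (14, 40), (14, 46), (15, 40), (0, 46), (15, 46), (17, 46),
    (20, 46), (21, 46), (23, 46), (24, 46), (26, 46), (27, 46), (28, 46), (30, 46), (31, 46),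
    (32, 46), (93, 40)]⟩,
  ⟨[(64, 53), (67, 52), (71, 51), (76, 50), (81, 49), (85, 48), (88, 47), (90, 46), (92, 44), (97,
    43), (101, 42), (104, 41), (106, 40), (108, 38), (110, 37), (112, 36), (114, 34), (115, 33),
    (117, 31), (118, 29), (119, 27), (121, 25), (122, 23), (123, 20), (124, 16), (125, 10)],
    [(62, 55)], [(5, 28), (5, 30), (5, 32), (5, 35), (5, 39), (5, 45), (9, 35), (9, 39), (9,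
    45), (12, 39), (12, 45), (14, 39), (14, 45), (16, 39), (0, 45), (16, 45), (18, 45), (20,
    45), (22, 45), (23, 45), (25, 45), (26, 45), (27, 45), (29, 45), (30, 45), (31, 45), (32,
    45), (93, 39)]⟩,
  ⟨[(63, 54), (65, 53), (68, 52), (72, 51), (77, 50), (82, 49), (86, 48), (89, 47), (91, 46), (92,
    45), (98, 43), (102, 42), (105, 41), (107, 40), (108, 39), (111, 37), (113, 36), (114, 35),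
    (116, 33), (117, 32), (118, 30), (120, 27), (121, 26), (122, 24), (123, 21), (124, 17),
    (125, 11)], [], [(6, 28), (6, 29), (6, 31), (6, 34), (6, 38), (6, 44), (10, 34), (10, 38),
    (10, 44), (13, 38), (13, 44), (15, 38), (15, 44), (16, 38), (0, 44), (16, 44), (19, 44),
    (21, 44), (22, 44), (24, 44), (25, 44), (26, 44), (28, 44), (29, 44), (30, 44), (31, 44),
    (32, 44), (93, 38)]⟩]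

/-- Part of a table. -/
def lvE8_0_paths_0 : List (List (Fin chevE8.rank)) := [
  ([0, 2, 3, 1, 4, 3, 2, 0, 5, 4, 3, 1, 2, 3, 4, 5] : List ℕ).map nodeE8,
  ([0, 2, 3, 1, 4, 3, 2, 0, 5, 4, 3, 1, 2, 3, 4] : List ℕ).map nodeE8,
  ([0, 2, 3, 1, 4, 3, 2, 0, 5, 4, 3, 1, 2, 3] : List ℕ).map nodeE8,
  ([0, 2, 3, 1, 4, 3, 2, 0, 5, 4, 3, 1, 2] : List ℕ).map nodeE8,
  ([0, 2, 3, 1, 4, 3, 2, 0, 5, 4, 3, 1] : List ℕ).map nodeE8,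
  ([0, 2, 3, 1, 4, 3, 2, 0, 5, 4, 3, 2] : List ℕ).map nodeE8,
  ([0, 2, 3, 1, 4, 3, 2, 0, 5, 4, 3] : List ℕ).map nodeE8,
  ([0, 2, 3, 1, 4, 3, 2, 0, 5, 4] : List ℕ).map nodeE8,
  ([0, 2, 3, 1, 4, 3, 2, 0, 5] : List ℕ).map nodeE8,
  ([0, 2, 3, 1, 4, 3, 2, 0] : List ℕ).map nodeE8,
  ([0, 2, 3, 1, 4, 3, 2, 5, 4, 3, 1] : List ℕ).map nodeE8,
  ([0, 2, 3, 1, 4, 3, 2, 5, 4, 3] : List ℕ).map nodeE8,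
  ([0, 2, 3, 1, 4, 3, 2, 5, 4] : List ℕ).map nodeE8,
  ([0, 2, 3, 1, 4, 3, 2, 5] : List ℕ).map nodeE8,
  ([0, 2, 3, 1, 4, 3, 2] : List ℕ).map nodeE8,
  ([0, 2, 3, 1, 4, 3, 5, 4] : List ℕ).map nodeE8,
  ([0, 2, 3, 1, 4, 3, 5] : List ℕ).map nodeE8,
  ([0, 2, 3, 1, 4, 3] : List ℕ).map nodeE8,
  ([0, 2, 3, 1, 4, 5] : List ℕ).map nodeE8,
  ([0, 2, 3, 1, 4] : List ℕ).map nodeE8]

/-- Part of a table. -/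
def lvE8_0_paths_1 : List (List (Fin chevE8.rank)) := [
  ([0, 2, 3, 1] : List ℕ).map nodeE8,
  ([0, 2, 3, 4, 5] : List ℕ).map nodeE8,
  ([0, 2, 3, 4] : List ℕ).map nodeE8,
  ([0, 2, 3] : List ℕ).map nodeE8,
  ([0, 2] : List ℕ).map nodeE8,
  ([0] : List ℕ).map nodeE8,
  ([] : List ℕ).map nodeE8,
  ([0, 2, 3, 4, 5, 6] : List ℕ).map nodeE8]

/-- A level of the descent. -/
def lvE8_0 : Lvl chevE8 where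
  k := 56
  R := [120, 122, 125, 129, 134, 140, 146, 151, 155, 158, 160, 161, 168, 173, 177, 180, 182, 183,
    187, 190, 192, 193, 196, 198, 199, 201, 202, 203, 206, 208, 209, 211, 212, 213, 215, 216, 217,
    218, 220, 221, 222, 223, 224, 225, 227, 228, 229, 230, 231, 232, 233, 234, 235, 236, 237, 238]
  L := [13, 20, 25, 29, 32, 34, 35, 39, 42, 44, 45, 48, 50, 51, 53, 54, 55, 58, 60, 61, 63, 64,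
    65, 67, 68, 69, 70, 72, 73, 74, 75, 76, 77, 80, 82, 83, 85, 86, 87, 89, 90, 91, 92, 94, 95,
    96, 97, 98, 100, 101, 102, 103, 104, 106, 107, 108, 109, 111, 112, 113, 115, 116, 118, 121,
    123, 124, 126, 127, 128, 130, 131, 132, 133, 135, 136, 137, 138, 139, 141, 142, 143, 144, 145,
    147, 148, 149, 150, 152, 153, 154, 156, 157, 159, 162, 163, 164, 165, 166, 167, 169, 170, 171,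
    172, 174, 175, 176, 178, 179, 181, 184, 185, 186, 188, 189, 191, 194, 195, 197, 200, 204, 205,
    207, 210, 214, 219, 226]
  tbl := lvE8_0_tbl_0 ++ lvE8_0_tbl_1 ++ lvE8_0_tbl_2 ++ lvE8_0_tbl_3 ++ lvE8_0_tbl_4 ++ lvE8_0_tbl_5 ++ lvE8_0_tbl_6 ++ lvE8_0_tbl_7 ++ lvE8_0_tbl_8
  beta := lvE8_0_beta_0 ++ lvE8_0_beta_1 ++ lvE8_0_beta_2 ++ lvE8_0_beta_3 ++ lvE8_0_beta_4 ++ lvE8_0_beta_5 ++ lvE8_0_beta_6 ++ lvE8_0_beta_7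
  a := 27
  g := 125
  ph := [
    .dec 93 124,
    .dec 93 124,
    .dec 93 124,
    .dec 93 124,
    .dec 93 124,
    .dec 93 124,
    .dec 93 124,
    .dec 93 124,
    .dec 93 124,
    .dec 93 124,
    .dec 93 124,
    .dec 93 124,
    .dec 99 118,
    .dec 95 122,
    .dec 94 123,
    .dec 94 123,
    .dec 94 123,
    .dec 94 123,
    .dec 93 124,
    .dec 93 124,
    .dec 93 124,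
    .dec 93 124,
    .dec 93 124,
    .dec 93 124,
    .dec 93 124,
    .dec 93 124,
    .dec 93 124,
    .dec 93 124,
    .dec 93 124,
    .dec 93 124,
    .dec 93 124,
    .dec 93 124,
    .dec 93 124,
    .dec 93 124,
    .dec 93 124,
    .dec 93 124,
    .dec 93 124,
    .dec 93 124,
    .dec 94 123,
    .dec 94 123,
    .dec 94 123,
    .dec 94 123,
    .dec 95 122,
    .dec 99 118,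
    .moved 0,
    .moved 1,
    .moved 2,
    .moved 3,
    .moved 4,
    .moved 5,
    .moved 6,
    .moved 7,
    .moved 8,
    .moved 9,
    .moved 10,
    .moved 11]
  scale := [nodeE8 0]
  paths := lvE8_0_paths_0 ++ lvE8_0_paths_1

/-- Part of a table. -/
def lvE8_1_tbl_0 : List (List ℕ) := [
  [0, 0, 0, 0, 0, 0, 0, 0, 0, 0, 0, 0, 0, 0, 0, 0, 0, 0, 0, 0, 0, 2, 3, 6, 7, 10, 21],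
  [0, 0, 0, 0, 0, 0, 0, 0, 0, 0, 0, 0, 0, 0, 0, 0, 0, 0, 2, 3, 6, 0, 0, 0, 11, 13, 24],
  [0, 0, 0, 0, 0, 0, 0, 0, 0, 0, 0, 0, 0, 0, 0, 0, 2, 3, 0, 0, 8, 0, 0, 11, 0, 16, 25],
  [0, 0, 0, 0, 0, 0, 0, 0, 0, 0, 0, 0, 0, 0, 0, 2, 0, 5, 0, 8, 0, 0, 11, 0, 0, 17, 28],
  [0, 0, 0, 0, 0, 0, 0, 0, 0, 0, 0, 0, 0, 0, 0, 4, 5, 0, 8, 0, 0, 11, 0, 0, 0, 20, 29],
  [0, 0, 0, 0, 0, 0, 0, 0, 0, 0, 0, 0, 0, 2, 3, 0, 0, 0, 0, 0, 10, 0, 0, 14, 16, 0, 32],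
  [0, 0, 0, 0, 0, 0, 0, 0, 0, 0, 0, 0, 2, 0, 5, 0, 0, 0, 0, 10, 0, 0, 14, 0, 17, 0, 33],
  [0, 0, 0, 0, 0, 0, 0, 0, 0, 0, 0, 0, 4, 5, 0, 0, 0, 0, 10, 0, 0, 14, 0, 0, 20, 0, 36],
  [0, 0, 0, 0, 0, 0, 0, 0, 0, 0, 0, 2, 0, 0, 7, 0, 0, 10, 0, 0, 0, 0, 15, 17, 0, 0, 38],
  [0, 0, 0, 0, 0, 0, 0, 0, 0, 0, 0, 4, 0, 7, 0, 0, 10, 0, 0, 0, 0, 15, 0, 20, 0, 0, 39],
  [0, 0, 0, 0, 0, 0, 0, 0, 0, 0, 0, 6, 7, 0, 0, 10, 0, 0, 0, 0, 0, 18, 20, 0, 0, 0, 42],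
  [0, 0, 0, 0, 0, 0, 0, 0, 0, 0, 2, 0, 0, 0, 11, 0, 0, 13, 0, 15, 17, 0, 0, 0, 0, 0, 43],
  [0, 0, 0, 0, 0, 0, 0, 0, 0, 0, 4, 0, 0, 11, 0, 0, 13, 0, 15, 0, 20, 0, 0, 0, 0, 0, 46],
  [0, 0, 0, 0, 0, 0, 0, 0, 0, 0, 6, 0, 11, 0, 0, 13, 0, 0, 18, 20, 0, 0, 0, 0, 0, 0, 47]]

/-- Part of a table. -/
def lvE8_1_tbl_1 : List (List ℕ) := [
  [0, 0, 0, 0, 0, 0, 0, 0, 0, 0, 8, 11, 0, 0, 0, 16, 18, 20, 0, 0, 0, 0, 0, 0, 0, 0, 50],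
  [0, 0, 0, 0, 0, 0, 0, 0, 0, 0, 10, 14, 16, 18, 20, 0, 0, 0, 0, 0, 0, 0, 0, 0, 0, 0, 51],
  [0, 0, 0, 0, 0, 0, 0, 0, 2, 3, 0, 0, 0, 0, 0, 0, 0, 0, 0, 0, 21, 0, 0, 23, 25, 31, 0],
  [0, 0, 0, 0, 0, 0, 0, 2, 0, 5, 0, 0, 0, 0, 0, 0, 0, 0, 0, 21, 0, 0, 23, 0, 28, 34, 0],
  [0, 0, 0, 0, 0, 0, 0, 4, 5, 0, 0, 0, 0, 0, 0, 0, 0, 0, 21, 0, 0, 23, 0, 0, 29, 35, 0],
  [0, 0, 0, 0, 0, 0, 2, 0, 0, 7, 0, 0, 0, 0, 0, 0, 0, 21, 0, 0, 0, 0, 26, 28, 0, 37, 0],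
  [0, 0, 0, 0, 0, 0, 4, 0, 7, 0, 0, 0, 0, 0, 0, 0, 21, 0, 0, 0, 0, 26, 0, 29, 0, 40, 0],
  [0, 0, 0, 0, 0, 0, 6, 7, 0, 0, 0, 0, 0, 0, 0, 21, 0, 0, 0, 0, 0, 27, 29, 0, 0, 41, 0],
  [0, 0, 0, 0, 0, 2, 0, 0, 0, 9, 0, 0, 0, 0, 21, 0, 0, 0, 0, 0, 0, 0, 31, 33, 37, 0, 0],
  [0, 0, 0, 0, 0, 4, 0, 0, 9, 0, 0, 0, 0, 21, 0, 0, 0, 0, 0, 0, 0, 31, 0, 36, 40, 0, 0],
  [0, 0, 0, 0, 0, 6, 0, 9, 0, 0, 0, 0, 21, 0, 0, 0, 0, 0, 0, 0, 0, 34, 36, 0, 41, 0, 0],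
  [0, 0, 0, 0, 0, 8, 9, 0, 0, 0, 0, 21, 0, 0, 0, 0, 0, 0, 0, 0, 0, 37, 39, 41, 0, 0, 0],
  [0, 0, 0, 0, 2, 0, 0, 0, 0, 11, 0, 0, 0, 0, 0, 0, 0, 24, 0, 26, 28, 0, 0, 0, 0, 44, 0],
  [0, 0, 0, 0, 4, 0, 0, 0, 11, 0, 0, 0, 0, 0, 0, 0, 24, 0, 26, 0, 29, 0, 0, 0, 0, 45, 0]]

/-- Part of a table. -/
def lvE8_1_tbl_2 : List (List ℕ) := [
  [0, 0, 0, 0, 6, 0, 0, 11, 0, 0, 0, 0, 0, 0, 0, 24, 0, 0, 27, 29, 0, 0, 0, 0, 0, 48, 0],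
  [0, 0, 0, 0, 8, 0, 11, 0, 0, 0, 0, 0, 0, 0, 0, 25, 27, 29, 0, 0, 0, 0, 0, 0, 0, 49, 0],
  [0, 0, 0, 2, 0, 0, 0, 0, 0, 13, 0, 0, 0, 0, 23, 0, 0, 0, 0, 32, 34, 0, 0, 0, 43, 0, 0],
  [0, 0, 0, 4, 0, 0, 0, 0, 13, 0, 0, 0, 0, 23, 0, 0, 0, 0, 32, 0, 35, 0, 0, 0, 46, 0, 0],
  [0, 0, 0, 6, 0, 0, 0, 13, 0, 0, 0, 0, 23, 0, 0, 0, 0, 0, 33, 35, 0, 0, 0, 0, 47, 0, 0],
  [0, 0, 2, 0, 0, 0, 0, 0, 0, 15, 0, 0, 0, 0, 25, 0, 0, 31, 0, 0, 38, 0, 0, 44, 0, 0, 0],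
  [0, 0, 4, 0, 0, 0, 0, 0, 15, 0, 0, 0, 0, 25, 0, 0, 31, 0, 0, 0, 39, 0, 0, 45, 0, 0, 0],
  [0, 2, 0, 0, 0, 0, 0, 0, 0, 17, 0, 0, 0, 0, 27, 0, 0, 33, 0, 37, 0, 0, 43, 0, 0, 0, 0],
  [4, 0, 0, 0, 0, 0, 0, 0, 19, 0, 0, 0, 0, 29, 0, 0, 35, 0, 39, 0, 0, 45, 0, 0, 0, 0, 0],
  [0, 6, 0, 0, 0, 0, 0, 17, 0, 0, 0, 0, 27, 0, 0, 33, 0, 0, 0, 41, 0, 0, 47, 0, 0, 0, 0],
  [6, 0, 0, 0, 0, 0, 0, 19, 0, 0, 0, 0, 29, 0, 0, 35, 0, 0, 42, 0, 0, 48, 0, 0, 0, 0, 0],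
  [0, 0, 8, 0, 0, 0, 15, 0, 0, 0, 0, 25, 0, 0, 0, 0, 37, 39, 0, 0, 0, 0, 0, 49, 0, 0, 0],
  [0, 8, 0, 0, 0, 0, 17, 0, 0, 0, 0, 27, 0, 0, 0, 38, 0, 41, 0, 0, 0, 0, 50, 0, 0, 0, 0],
  [8, 0, 0, 0, 0, 0, 19, 0, 0, 0, 0, 29, 0, 0, 0, 40, 42, 0, 0, 0, 0, 49, 0, 0, 0, 0, 0]]

/-- Part of a table. -/
def lvE8_1_tbl_3 : List (List ℕ) := [
  [0, 0, 0, 10, 0, 13, 0, 0, 0, 0, 0, 0, 31, 33, 35, 0, 0, 0, 0, 0, 0, 0, 0, 0, 51, 0, 0],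
  [0, 0, 10, 0, 0, 15, 0, 0, 0, 0, 0, 32, 0, 37, 39, 0, 0, 0, 0, 0, 0, 0, 0, 52, 0, 0, 0],
  [0, 10, 0, 0, 0, 17, 0, 0, 0, 0, 0, 34, 38, 0, 41, 0, 0, 0, 0, 0, 0, 0, 51, 0, 0, 0, 0],
  [10, 0, 0, 0, 0, 19, 0, 0, 0, 0, 0, 36, 40, 42, 0, 0, 0, 0, 0, 0, 0, 52, 0, 0, 0, 0, 0],
  [0, 0, 0, 12, 13, 0, 0, 0, 0, 0, 23, 0, 0, 0, 0, 0, 0, 0, 43, 45, 47, 0, 0, 0, 0, 0, 0],
  [0, 0, 12, 0, 15, 0, 0, 0, 0, 0, 25, 0, 0, 0, 0, 0, 44, 46, 0, 0, 49, 0, 0, 0, 0, 0, 0],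
  [0, 12, 0, 0, 17, 0, 0, 0, 0, 0, 27, 0, 0, 0, 0, 43, 0, 48, 0, 50, 0, 0, 0, 0, 0, 0, 0],
  [12, 0, 0, 0, 19, 0, 0, 0, 0, 0, 29, 0, 0, 0, 0, 45, 47, 0, 49, 0, 0, 0, 0, 0, 0, 0, 0],
  [0, 0, 14, 15, 0, 0, 0, 0, 0, 0, 31, 0, 0, 43, 45, 0, 0, 0, 0, 0, 51, 0, 0, 0, 0, 0, 0],
  [0, 14, 0, 17, 0, 0, 0, 0, 0, 0, 33, 0, 44, 0, 47, 0, 0, 0, 0, 52, 0, 0, 0, 0, 0, 0, 0],
  [14, 0, 0, 19, 0, 0, 0, 0, 0, 0, 35, 0, 46, 48, 0, 0, 0, 0, 51, 0, 0, 0, 0, 0, 0, 0, 0],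
  [0, 16, 17, 0, 0, 0, 0, 0, 0, 0, 37, 43, 0, 0, 49, 0, 0, 51, 0, 0, 0, 0, 0, 0, 0, 0, 0],
  [16, 0, 19, 0, 0, 0, 0, 0, 0, 0, 39, 45, 0, 50, 0, 0, 52, 0, 0, 0, 0, 0, 0, 0, 0, 0, 0],
  [18, 19, 0, 0, 0, 0, 0, 0, 0, 0, 41, 47, 49, 0, 0, 51, 0, 0, 0, 0, 0, 0, 0, 0, 0, 0, 0]]

/-- Part of a table. -/
def lvE8_1_tbl_4 : List (List ℕ) := [
  [0, 0, 0, 0, 22, 0, 24, 26, 28, 30, 0, 0, 0, 0, 0, 0, 0, 0, 0, 0, 0, 0, 0, 0, 0, 53, 0],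
  [0, 0, 0, 22, 0, 23, 0, 32, 34, 36, 0, 0, 0, 0, 0, 0, 0, 0, 0, 0, 0, 0, 0, 0, 54, 0, 0],
  [0, 0, 22, 0, 0, 25, 31, 0, 38, 40, 0, 0, 0, 0, 0, 0, 0, 0, 0, 0, 0, 0, 0, 53, 0, 0, 0],
  [0, 22, 0, 0, 0, 27, 33, 37, 0, 42, 0, 0, 0, 0, 0, 0, 0, 0, 0, 0, 0, 0, 54, 0, 0, 0, 0],
  [22, 0, 0, 0, 0, 29, 35, 39, 41, 0, 0, 0, 0, 0, 0, 0, 0, 0, 0, 0, 0, 53, 0, 0, 0, 0, 0],
  [0, 0, 24, 25, 32, 0, 0, 0, 44, 46, 0, 0, 0, 0, 0, 0, 0, 0, 0, 0, 54, 0, 0, 0, 0, 0, 0],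
  [0, 24, 0, 27, 34, 0, 0, 43, 0, 48, 0, 0, 0, 0, 0, 0, 0, 0, 0, 53, 0, 0, 0, 0, 0, 0, 0],
  [24, 0, 0, 29, 36, 0, 0, 45, 47, 0, 0, 0, 0, 0, 0, 0, 0, 0, 54, 0, 0, 0, 0, 0, 0, 0, 0],
  [0, 26, 27, 0, 38, 0, 44, 0, 0, 50, 0, 0, 0, 0, 0, 0, 0, 54, 0, 0, 0, 0, 0, 0, 0, 0, 0],
  [26, 0, 29, 0, 40, 0, 46, 0, 49, 0, 0, 0, 0, 0, 0, 0, 53, 0, 0, 0, 0, 0, 0, 0, 0, 0, 0],
  [28, 29, 0, 0, 42, 0, 48, 50, 0, 0, 0, 0, 0, 0, 0, 54, 0, 0, 0, 0, 0, 0, 0, 0, 0, 0, 0],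
  [0, 32, 33, 38, 0, 43, 0, 0, 0, 52, 0, 0, 0, 0, 53, 0, 0, 0, 0, 0, 0, 0, 0, 0, 0, 0, 0],
  [32, 0, 35, 40, 0, 45, 0, 0, 51, 0, 0, 0, 0, 54, 0, 0, 0, 0, 0, 0, 0, 0, 0, 0, 0, 0, 0],
  [34, 35, 0, 42, 0, 47, 0, 52, 0, 0, 0, 0, 53, 0, 0, 0, 0, 0, 0, 0, 0, 0, 0, 0, 0, 0, 0]]

/-- Part of a table. -/
def lvE8_1_tbl_5 : List (List ℕ) := [
  [38, 39, 42, 0, 0, 49, 51, 0, 0, 0, 0, 54, 0, 0, 0, 0, 0, 0, 0, 0, 0, 0, 0, 0, 0, 0, 0],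
  [44, 45, 48, 49, 52, 0, 0, 0, 0, 0, 53, 0, 0, 0, 0, 0, 0, 0, 0, 0, 0, 0, 0, 0, 0, 0, 0]]

/-- Part of a table. -/
def lvE8_1_beta_0 : List BetaRaw := [
  ⟨[], [(0, 21), (1, 18), (2, 16), (3, 15), (5, 13), (6, 12), (8, 11), (11, 10), (16, 8), (17, 7),
    (19, 6), (22, 5), (26, 4), (30, 3), (33, 2), (35, 1)], [(4, 25), (4, 26), (7, 26), (9, 26),
    (10, 26), (12, 26), (13, 26), (14, 26), (15, 26), (56, 25)]⟩,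
  ⟨[(36, 0)], [(0, 22), (1, 19), (2, 17), (4, 15), (5, 14), (7, 12), (9, 11), (12, 10), (16, 9),
    (18, 7), (20, 6), (23, 5), (27, 4), (31, 3), (34, 2)], [(3, 25), (3, 26), (6, 26), (8, 26),
    (10, 26), (11, 26), (13, 26), (14, 26), (15, 26), (56, 25)]⟩,
  ⟨[(37, 1), (38, 0)], [(0, 23), (1, 20), (3, 17), (4, 16), (6, 14), (7, 13), (10, 11), (13, 10),
    (17, 9), (18, 8), (21, 6), (24, 5), (28, 4), (32, 3)], [(2, 25), (2, 26), (5, 26), (8, 26),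
    (9, 26), (11, 26), (12, 26), (14, 26), (15, 26), (56, 25)]⟩,
  ⟨[(39, 2), (40, 1), (41, 0)], [(0, 24), (2, 20), (3, 19), (4, 18), (8, 14), (9, 13), (10, 12),
    (14, 10), (19, 9), (20, 8), (21, 7), (25, 5), (29, 4)], [(1, 25), (1, 26), (5, 26), (6, 26),
    (7, 26), (11, 26), (12, 26), (13, 26), (15, 26), (56, 25)]⟩,
  ⟨[(42, 3), (43, 2), (44, 1), (45, 0)], [(0, 25), (5, 20), (6, 19), (7, 18), (8, 17), (9, 16),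
    (10, 15), (15, 10), (22, 9), (23, 8), (24, 7), (25, 6)], [(1, 24), (1, 26), (2, 26), (3,
    26), (4, 26), (11, 26), (12, 26), (13, 26), (14, 26), (57, 24)]⟩,
  ⟨[(46, 3), (47, 2), (48, 1), (49, 0)], [(1, 24), (2, 23), (3, 22), (4, 21), (11, 14), (12, 13),
    (13, 12), (14, 11), (26, 9), (27, 8), (28, 7), (29, 6)], [(0, 25), (0, 26), (5, 26), (6,
    26), (7, 26), (8, 26), (9, 26), (10, 26), (15, 26), (56, 25)]⟩,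
  ⟨[(42, 5), (46, 4), (50, 2), (51, 1), (52, 0)], [(1, 25), (5, 23), (6, 22), (7, 21), (11, 17),
    (12, 16), (13, 15), (15, 11), (30, 9), (31, 8), (32, 7)], [(0, 24), (0, 26), (2, 26), (3,
    26), (4, 26), (8, 26), (9, 26), (10, 26), (14, 26), (57, 24)]⟩]

/-- Part of a table. -/
def lvE8_1_beta_1 : List BetaRaw := [
  ⟨[(39, 6), (43, 5), (47, 4), (50, 3), (53, 1), (54, 0)], [(2, 25), (5, 24), (8, 22), (9, 21),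
    (11, 19), (12, 18), (14, 15), (15, 12), (33, 9), (34, 8)], [(0, 23), (0, 26), (1, 26), (3,
    26), (4, 26), (6, 26), (7, 26), (10, 26), (13, 26), (58, 23)]⟩,
  ⟨[(37, 7), (40, 6), (44, 5), (48, 4), (51, 3), (53, 2), (55, 0)], [(3, 25), (6, 24), (8, 23),
    (10, 21), (11, 20), (13, 18), (14, 16), (15, 13), (35, 9)], [(0, 22), (0, 26), (1, 26), (2,
    26), (4, 26), (5, 26), (7, 26), (9, 26), (12, 26), (59, 22)]⟩,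
  ⟨[(36, 8), (38, 7), (41, 6), (45, 5), (49, 4), (52, 3), (54, 2), (55, 1)], [(4, 25), (7, 24),
    (9, 23), (10, 22), (12, 20), (13, 19), (14, 17), (15, 14)], [(0, 21), (0, 26), (1, 26), (2,
    26), (3, 26), (5, 26), (6, 26), (8, 26), (11, 26), (60, 21)]⟩,
  ⟨[(56, 4), (57, 3), (58, 2), (59, 1), (60, 0)], [(0, 26), (16, 20), (17, 19), (18, 18), (19,
    17), (20, 16), (21, 15), (22, 14), (23, 13), (24, 12), (25, 11)], [(1, 24), (1, 25), (2,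
    25), (3, 25), (4, 25), (26, 25), (27, 25), (28, 25), (29, 25), (42, 24)]⟩,
  ⟨[(46, 10), (56, 6), (57, 5), (61, 2), (62, 1), (63, 0)], [(1, 26), (16, 23), (17, 22), (18,
    21), (26, 17), (27, 16), (28, 15), (30, 14), (31, 13), (32, 12)], [(0, 24), (0, 25), (2,
    25), (3, 25), (4, 25), (19, 25), (20, 25), (21, 25), (29, 25), (42, 24)]⟩,
  ⟨[(39, 11), (47, 10), (56, 7), (58, 5), (61, 3), (64, 1), (65, 0)], [(2, 26), (16, 24), (19,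
    22), (20, 21), (26, 19), (27, 18), (29, 15), (33, 14), (34, 13)], [(0, 23), (0, 25), (1,
    25), (3, 25), (4, 25), (17, 25), (18, 25), (21, 25), (28, 25), (43, 23)]⟩,
  ⟨[(37, 12), (40, 11), (48, 10), (56, 8), (59, 5), (62, 3), (64, 2), (66, 0)], [(3, 26), (17,
    24), (19, 23), (21, 21), (26, 20), (28, 18), (29, 16), (35, 14)], [(0, 22), (0, 25), (1,
    25), (2, 25), (4, 25), (16, 25), (18, 25), (20, 25), (27, 25), (44, 22)]⟩]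

/-- Part of a table. -/
def lvE8_1_beta_2 : List BetaRaw := [
  ⟨[(36, 13), (38, 12), (41, 11), (49, 10), (56, 9), (60, 5), (63, 3), (65, 2), (66, 1)], [(4,
    26), (18, 24), (20, 23), (21, 22), (27, 20), (28, 19), (29, 17)], [(0, 21), (0, 25), (1,
    25), (2, 25), (3, 25), (16, 25), (17, 25), (19, 25), (26, 25), (45, 21)]⟩,
  ⟨[(42, 12), (43, 11), (50, 10), (57, 7), (58, 6), (61, 4), (67, 1), (68, 0)], [(5, 26), (16,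
    25), (22, 22), (23, 21), (30, 19), (31, 18), (33, 17), (34, 16)], [(0, 23), (0, 24), (1,
    24), (6, 24), (7, 24), (17, 24), (18, 24), (24, 24), (32, 24), (39, 23)]⟩,
  ⟨[(37, 15), (42, 13), (44, 11), (51, 10), (57, 8), (59, 6), (62, 4), (67, 2), (69, 0)], [(6,
    26), (17, 25), (22, 23), (24, 21), (30, 20), (32, 18), (35, 17)], [(0, 22), (0, 24), (1,
    24), (5, 24), (7, 24), (16, 24), (18, 24), (23, 24), (31, 24), (40, 22)]⟩,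
  ⟨[(36, 16), (38, 15), (42, 14), (45, 11), (52, 10), (57, 9), (60, 6), (63, 4), (68, 2), (69,
    1)], [(7, 26), (18, 25), (23, 23), (24, 22), (31, 20), (32, 19)], [(0, 21), (0, 24), (1,
    24), (5, 24), (6, 24), (16, 24), (17, 24), (22, 24), (30, 24), (41, 21)]⟩,
  ⟨[(39, 16), (40, 15), (43, 13), (44, 12), (53, 10), (58, 8), (59, 7), (64, 4), (67, 3), (70,
    0)], [(8, 26), (19, 25), (22, 24), (25, 21), (33, 20), (35, 19)], [(0, 22), (0, 23), (2,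
    23), (5, 23), (9, 23), (16, 23), (20, 23), (23, 23), (34, 23), (37, 22)]⟩,
  ⟨[(36, 18), (39, 17), (41, 15), (43, 14), (45, 12), (54, 10), (58, 9), (60, 7), (65, 4), (68,
    3), (70, 1)], [(9, 26), (20, 25), (23, 24), (25, 22), (34, 20)], [(0, 21), (0, 23), (2, 23),
    (5, 23), (8, 23), (16, 23), (19, 23), (22, 23), (33, 23), (38, 21)]⟩,
  ⟨[(37, 19), (38, 18), (40, 17), (41, 16), (44, 14), (45, 13), (55, 10), (59, 9), (60, 8), (66,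
    4), (69, 3), (70, 2)], [(10, 26), (21, 25), (24, 24), (25, 23)], [(0, 21), (0, 22), (3, 22),
    (6, 22), (8, 22), (17, 22), (19, 22), (22, 22), (35, 22), (36, 21)]⟩]

/-- Part of a table. -/
def lvE8_1_beta_3 : List BetaRaw := [
  ⟨[(46, 18), (47, 16), (48, 15), (50, 13), (51, 12), (53, 11), (61, 8), (62, 7), (64, 6), (67,
    5), (71, 0)], [(11, 26), (26, 25), (30, 24), (33, 23), (35, 22)], [(1, 19), (1, 20), (2,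
    20), (5, 20), (12, 20), (16, 20), (27, 20), (31, 20), (34, 20), (37, 19)]⟩,
  ⟨[(36, 21), (46, 19), (47, 17), (49, 15), (50, 14), (52, 12), (54, 11), (61, 9), (63, 7), (65,
    6), (68, 5), (71, 1)], [(12, 26), (27, 25), (31, 24), (34, 23)], [(1, 18), (1, 20), (2, 20),
    (5, 20), (11, 20), (16, 20), (26, 20), (30, 20), (33, 20), (38, 18)]⟩,
  ⟨[(37, 22), (38, 21), (46, 20), (48, 17), (49, 16), (51, 14), (52, 13), (55, 11), (62, 9), (63,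
    8), (66, 6), (69, 5), (71, 2)], [(13, 26), (28, 25), (32, 24)], [(1, 18), (1, 19), (3, 19),
    (6, 19), (11, 19), (17, 19), (26, 19), (30, 19), (35, 19), (36, 18)]⟩,
  ⟨[(39, 23), (40, 22), (41, 21), (47, 20), (48, 19), (49, 18), (53, 14), (54, 13), (55, 12), (64,
    9), (65, 8), (66, 7), (70, 5), (71, 3)], [(14, 26), (29, 25)], [(2, 16), (2, 17), (3, 17),
    (8, 17), (11, 17), (19, 17), (26, 17), (33, 17), (35, 17), (36, 16)]⟩,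
  ⟨[(42, 24), (43, 23), (44, 22), (45, 21), (50, 20), (51, 19), (52, 18), (53, 17), (54, 16), (55,
    15), (67, 9), (68, 8), (69, 7), (70, 6), (71, 4)], [(15, 26)], [(5, 13), (5, 14), (6, 14),
    (8, 14), (11, 14), (22, 14), (30, 14), (33, 14), (35, 14), (36, 13)]⟩,
  ⟨[(56, 25), (57, 24), (58, 23), (59, 22), (60, 21), (61, 20), (62, 19), (63, 18), (64, 17), (65,
    16), (66, 15), (67, 14), (68, 13), (69, 12), (70, 11), (71, 10)], [], [(16, 8), (16, 9),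
    (17, 9), (19, 9), (22, 9), (26, 9), (30, 9), (33, 9), (35, 9), (36, 8)]⟩]

/-- Part of a table. -/
def lvE8_1_paths_0 : List (List (Fin chevE8.rank)) := [
  ([1, 3, 2, 4, 3, 1, 5, 4, 3, 2] : List ℕ).map nodeE8,
  ([1, 3, 2, 4, 3, 1, 5, 4, 3] : List ℕ).map nodeE8,
  ([1, 3, 2, 4, 3, 1, 5, 4] : List ℕ).map nodeE8,
  ([1, 3, 2, 4, 3, 1, 5] : List ℕ).map nodeE8,
  ([1, 3, 2, 4, 3, 1] : List ℕ).map nodeE8,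
  ([1, 3, 2, 4, 3, 5, 4] : List ℕ).map nodeE8,
  ([1, 3, 2, 4, 3, 5] : List ℕ).map nodeE8,
  ([1, 3, 2, 4, 3] : List ℕ).map nodeE8,
  ([1, 3, 2, 4, 5] : List ℕ).map nodeE8,
  ([1, 3, 2, 4] : List ℕ).map nodeE8,
  ([1, 3, 2] : List ℕ).map nodeE8,
  ([1, 3, 4, 5] : List ℕ).map nodeE8,
  ([1, 3, 4] : List ℕ).map nodeE8,
  ([1, 3] : List ℕ).map nodeE8,
  ([1] : List ℕ).map nodeE8,
  ([] : List ℕ).map nodeE8,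
  ([1, 3, 2, 0] : List ℕ).map nodeE8]

/-- A level of the descent. -/
def lvE8_1 : Lvl chevE8 where
  k := 27
  R := [121, 124, 128, 133, 139, 145, 150, 154, 157, 159, 167, 172, 176, 179, 181, 186, 189, 191,
    195, 197, 200, 205, 207, 210, 214, 219, 226]
  L := [35, 45, 51, 54, 55, 61, 64, 65, 68, 69, 70, 73, 74, 75, 76, 77, 83, 86, 87, 90, 91, 92,
    95, 96, 97, 98, 101, 102, 103, 104, 107, 108, 109, 112, 113, 116, 123, 126, 127, 130, 131,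
    132, 135, 136, 137, 138, 141, 142, 143, 144, 147, 148, 149, 152, 153, 156, 162, 163, 164, 165,
    166, 169, 170, 171, 174, 175, 178, 184, 185, 188, 194, 204]
  tbl := lvE8_1_tbl_0 ++ lvE8_1_tbl_1 ++ lvE8_1_tbl_2 ++ lvE8_1_tbl_3 ++ lvE8_1_tbl_4 ++ lvE8_1_tbl_5
  beta := lvE8_1_beta_0 ++ lvE8_1_beta_1 ++ lvE8_1_beta_2 ++ lvE8_1_beta_3
  a := 16
  g := 71
  ph := [
    .dec 46 70,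
    .dec 46 70,
    .dec 46 70,
    .dec 46 70,
    .dec 46 70,
    .dec 50 66,
    .dec 47 69,
    .dec 46 70,
    .dec 46 70,
    .dec 46 70,
    .dec 46 70,
    .dec 47 69,
    .dec 46 70,
    .dec 46 70,
    .dec 46 70,
    .dec 46 70,
    .dec 46 70,
    .dec 46 70,
    .dec 47 69,
    .dec 47 69,
    .dec 48 68,
    .moved 0,
    .moved 1,
    .moved 2,
    .moved 3,
    .moved 4,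
    .moved 10]
  scale := [nodeE8 1]
  paths := lvE8_1_paths_0

/-- Part of a table. -/
def lvE8_2_tbl_0 : List (List ℕ) := [
  [0, 0, 0, 0, 0, 0, 0, 0, 0, 0, 1, 0, 0, 3, 5, 11],
  [0, 0, 0, 0, 0, 0, 0, 0, 0, 1, 0, 0, 3, 0, 8, 14],
  [0, 0, 0, 0, 0, 0, 0, 0, 1, 0, 0, 3, 0, 0, 9, 15],
  [0, 0, 0, 0, 0, 0, 0, 1, 0, 0, 0, 0, 6, 8, 0, 17],
  [0, 0, 0, 0, 0, 0, 1, 0, 0, 0, 0, 6, 0, 9, 0, 20],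
  [0, 0, 0, 0, 0, 1, 0, 0, 0, 0, 0, 7, 9, 0, 0, 21],
  [0, 0, 0, 0, 0, 0, 0, 4, 0, 6, 8, 0, 0, 0, 0, 24],
  [0, 0, 0, 0, 0, 0, 4, 0, 6, 0, 9, 0, 0, 0, 0, 25],
  [0, 0, 0, 0, 0, 4, 0, 0, 7, 9, 0, 0, 0, 0, 0, 28],
  [0, 0, 0, 0, 0, 5, 7, 9, 0, 0, 0, 0, 0, 0, 0, 29],
  [0, 0, 0, 0, 1, 0, 0, 0, 0, 0, 0, 0, 11, 13, 17, 0],
  [0, 0, 0, 1, 0, 0, 0, 0, 0, 0, 0, 11, 0, 16, 20, 0],
  [0, 0, 1, 0, 0, 0, 0, 0, 0, 0, 0, 14, 16, 0, 21, 0],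
  [0, 1, 0, 0, 0, 0, 0, 0, 0, 0, 0, 17, 19, 21, 0, 0]]

/-- Part of a table. -/
def lvE8_2_tbl_1 : List (List ℕ) := [
  [0, 0, 0, 0, 3, 0, 0, 0, 0, 12, 14, 0, 0, 0, 23, 0],
  [0, 0, 0, 3, 0, 0, 0, 0, 12, 0, 15, 0, 0, 0, 26, 0],
  [0, 0, 3, 0, 0, 0, 0, 0, 13, 15, 0, 0, 0, 0, 27, 0],
  [0, 0, 0, 0, 5, 0, 0, 11, 0, 0, 18, 0, 0, 24, 0, 0],
  [0, 0, 0, 5, 0, 0, 11, 0, 0, 0, 19, 0, 0, 25, 0, 0],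
  [0, 0, 0, 0, 7, 0, 0, 13, 0, 17, 0, 0, 23, 0, 0, 0],
  [0, 0, 0, 9, 0, 0, 15, 0, 19, 0, 0, 25, 0, 0, 0, 0],
  [0, 0, 7, 0, 0, 13, 0, 0, 0, 21, 0, 0, 27, 0, 0, 0],
  [0, 0, 9, 0, 0, 15, 0, 0, 22, 0, 0, 28, 0, 0, 0, 0],
  [0, 5, 0, 0, 0, 0, 17, 19, 0, 0, 0, 0, 0, 29, 0, 0],
  [0, 7, 0, 0, 0, 18, 0, 21, 0, 0, 0, 0, 30, 0, 0, 0],
  [0, 9, 0, 0, 0, 20, 22, 0, 0, 0, 0, 29, 0, 0, 0, 0],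
  [3, 0, 0, 0, 0, 0, 0, 0, 23, 25, 27, 0, 0, 0, 0, 0],
  [5, 0, 0, 0, 0, 0, 24, 26, 0, 0, 29, 0, 0, 0, 0, 0]]

/-- Part of a table. -/
def lvE8_2_tbl_2 : List (List ℕ) := [
  [7, 0, 0, 0, 0, 23, 0, 28, 0, 30, 0, 0, 0, 0, 0, 0],
  [9, 0, 0, 0, 0, 25, 27, 0, 29, 0, 0, 0, 0, 0, 0, 0],
  [0, 0, 11, 13, 15, 0, 0, 0, 0, 0, 0, 0, 0, 0, 31, 0],
  [0, 12, 0, 17, 19, 0, 0, 0, 0, 0, 0, 0, 0, 32, 0, 0],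
  [0, 14, 18, 0, 21, 0, 0, 0, 0, 0, 0, 0, 31, 0, 0, 0],
  [0, 16, 20, 22, 0, 0, 0, 0, 0, 0, 0, 32, 0, 0, 0, 0],
  [11, 0, 0, 23, 25, 0, 0, 0, 0, 0, 31, 0, 0, 0, 0, 0],
  [13, 0, 24, 0, 27, 0, 0, 0, 0, 32, 0, 0, 0, 0, 0, 0],
  [15, 0, 26, 28, 0, 0, 0, 0, 31, 0, 0, 0, 0, 0, 0, 0],
  [17, 23, 0, 0, 29, 0, 0, 31, 0, 0, 0, 0, 0, 0, 0, 0],
  [19, 25, 0, 30, 0, 0, 32, 0, 0, 0, 0, 0, 0, 0, 0, 0],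
  [21, 27, 29, 0, 0, 31, 0, 0, 0, 0, 0, 0, 0, 0, 0, 0]]

/-- Part of a table. -/
def lvE8_2_beta_0 : List BetaRaw := [
  ⟨[], [(0, 10), (1, 9), (2, 8), (3, 7), (4, 6), (5, 5), (10, 4), (11, 3), (12, 2), (13, 1)], [(6,
    15), (7, 15), (8, 15), (9, 15), (30, 14)]⟩,
  ⟨[(26, 0)], [(0, 13), (1, 12), (2, 11), (6, 7), (7, 6), (8, 5), (14, 4), (15, 3), (16, 2)], [(3,
    15), (4, 15), (5, 15), (9, 15), (30, 14)]⟩,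
  ⟨[(23, 1), (27, 0)], [(0, 14), (3, 12), (4, 11), (6, 9), (7, 8), (9, 5), (17, 4), (18, 3)], [(1,
    15), (2, 15), (5, 15), (8, 15), (31, 13)]⟩,
  ⟨[(21, 2), (24, 1), (28, 0)], [(1, 14), (3, 13), (5, 11), (6, 10), (8, 8), (9, 6), (19, 4)],
    [(0, 15), (2, 15), (4, 15), (7, 15), (32, 12)]⟩,
  ⟨[(20, 3), (22, 2), (25, 1), (29, 0)], [(2, 14), (4, 13), (5, 12), (7, 10), (8, 9), (9, 7)],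
    [(0, 15), (1, 15), (3, 15), (6, 15), (33, 11)]⟩,
  ⟨[(30, 2), (31, 1), (34, 0)], [(0, 15), (10, 12), (11, 11), (14, 9), (15, 8), (17, 7), (18, 6)],
    [(1, 14), (2, 14), (12, 14), (16, 14), (23, 13)]⟩,
  ⟨[(21, 5), (30, 3), (32, 1), (35, 0)], [(1, 15), (10, 13), (12, 11), (14, 10), (16, 8), (19,
    7)], [(0, 14), (2, 14), (11, 14), (15, 14), (24, 12)]⟩]

/-- Part of a table. -/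
def lvE8_2_beta_1 : List BetaRaw := [
  ⟨[(20, 6), (22, 5), (30, 4), (33, 1), (36, 0)], [(2, 15), (11, 13), (12, 12), (15, 10), (16,
    9)], [(0, 14), (1, 14), (10, 14), (14, 14), (25, 11)]⟩,
  ⟨[(23, 6), (24, 5), (31, 3), (32, 2), (37, 0)], [(3, 15), (10, 14), (13, 11), (17, 10), (19,
    9)], [(0, 13), (4, 13), (11, 13), (18, 13), (21, 12)]⟩,
  ⟨[(20, 8), (23, 7), (25, 5), (31, 4), (33, 2), (38, 0)], [(4, 15), (11, 14), (13, 12), (18,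
    10)], [(0, 13), (3, 13), (10, 13), (17, 13), (22, 11)]⟩,
  ⟨[(21, 9), (22, 8), (24, 7), (25, 6), (32, 4), (33, 3), (39, 0)], [(5, 15), (12, 14), (13, 13)],
    [(1, 12), (3, 12), (10, 12), (19, 12), (20, 11)]⟩,
  ⟨[(26, 8), (27, 6), (28, 5), (34, 3), (35, 2), (37, 1)], [(6, 15), (14, 14), (17, 13), (19,
    12)], [(0, 10), (7, 10), (15, 10), (18, 10), (21, 9)]⟩,
  ⟨[(20, 11), (26, 9), (27, 7), (29, 5), (34, 4), (36, 2), (38, 1)], [(7, 15), (15, 14), (18,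
    13)], [(0, 10), (6, 10), (14, 10), (17, 10), (22, 8)]⟩,
  ⟨[(21, 12), (22, 11), (26, 10), (28, 7), (29, 6), (35, 4), (36, 3), (39, 1)], [(8, 15), (16,
    14)], [(1, 9), (6, 9), (14, 9), (19, 9), (20, 8)]⟩]

/-- Part of a table. -/
def lvE8_2_beta_2 : List BetaRaw := [
  ⟨[(23, 13), (24, 12), (25, 11), (27, 10), (28, 9), (29, 8), (37, 4), (38, 3), (39, 2)], [(9,
    15)], [(3, 7), (6, 7), (17, 7), (19, 7), (20, 6)]⟩,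
  ⟨[(30, 14), (31, 13), (32, 12), (33, 11), (34, 10), (35, 9), (36, 8), (37, 7), (38, 6), (39,
    5)], [], [(10, 4), (14, 4), (17, 4), (19, 4), (20, 3)]⟩]

/-- Part of a table. -/
def lvE8_2_paths_0 : List (List (Fin chevE8.rank)) := [
  ([4, 3, 2, 5, 4, 3] : List ℕ).map nodeE8,
  ([4, 3, 2, 5, 4] : List ℕ).map nodeE8,
  ([4, 3, 2, 5] : List ℕ).map nodeE8,
  ([4, 3, 2] : List ℕ).map nodeE8,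
  ([4, 3, 5, 4] : List ℕ).map nodeE8,
  ([4, 3, 5] : List ℕ).map nodeE8,
  ([4, 3] : List ℕ).map nodeE8,
  ([4, 5] : List ℕ).map nodeE8,
  ([4] : List ℕ).map nodeE8,
  ([] : List ℕ).map nodeE8,
  ([4, 3, 1] : List ℕ).map nodeE8]

/-- A level of the descent. -/
def lvE8_2 : Lvl chevE8 where
  k := 16
  R := [162, 163, 164, 165, 166, 169, 170, 171, 174, 175, 178, 184, 185, 188, 194, 204]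
  L := [83, 86, 87, 90, 91, 92, 95, 96, 97, 98, 101, 102, 103, 104, 107, 108, 109, 112, 113, 116,
    123, 126, 127, 130, 131, 132, 135, 136, 137, 138, 141, 142, 143, 144, 147, 148, 149, 152, 153,
    156]
  tbl := lvE8_2_tbl_0 ++ lvE8_2_tbl_1 ++ lvE8_2_tbl_2
  beta := lvE8_2_beta_0 ++ lvE8_2_beta_1 ++ lvE8_2_beta_2
  a := 10
  g := 39
  ph := [
    .dec 21 38,
    .dec 21 38,
    .dec 21 38,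
    .dec 22 37,
    .dec 21 38,
    .dec 21 38,
    .dec 22 37,
    .dec 21 38,
    .dec 21 38,
    .dec 22 37,
    .moved 0,
    .dec 21 38,
    .dec 22 37,
    .moved 1,
    .moved 2,
    .moved 5]
  scale := [nodeE8 0]
  paths := lvE8_2_paths_0

/-- Part of a table. -/
def lvE8_3_tbl_0 : List (List ℕ) := [
  [0, 0, 0, 0, 0, 0, 2, 0, 4, 6],
  [0, 0, 0, 0, 0, 2, 0, 4, 0, 7],
  [0, 0, 0, 0, 2, 0, 0, 5, 7, 0],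
  [0, 0, 0, 0, 3, 5, 7, 0, 0, 0],
  [0, 0, 0, 1, 0, 0, 0, 0, 10, 12],
  [0, 0, 1, 0, 0, 0, 0, 10, 0, 13],
  [0, 1, 0, 0, 0, 0, 0, 11, 13, 0],
  [0, 0, 0, 3, 0, 0, 9, 0, 0, 16],
  [0, 0, 3, 0, 0, 9, 0, 0, 0, 17],
  [0, 0, 0, 5, 0, 0, 11, 0, 15, 0],
  [0, 0, 7, 0, 0, 13, 0, 17, 0, 0],
  [0, 5, 0, 0, 11, 0, 0, 0, 19, 0],
  [0, 7, 0, 0, 13, 0, 0, 20, 0, 0],
  [3, 0, 0, 0, 0, 15, 17, 0, 0, 0]]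

/-- Part of a table. -/
def lvE8_3_tbl_1 : List (List ℕ) := [
  [5, 0, 0, 0, 16, 0, 19, 0, 0, 0],
  [7, 0, 0, 0, 18, 20, 0, 0, 0, 0],
  [0, 9, 11, 13, 0, 0, 0, 0, 0, 0],
  [10, 0, 15, 17, 0, 0, 0, 0, 0, 0],
  [12, 16, 0, 19, 0, 0, 0, 0, 0, 0],
  [14, 18, 20, 0, 0, 0, 0, 0, 0, 0]]

/-- Part of a table. -/
def lvE8_3_beta_0 : List BetaRaw := [
  ⟨[], [(0, 6), (1, 5), (2, 4), (4, 3), (5, 2), (6, 1)], [(7, 9), (8, 9), (11, 8)]⟩,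
  ⟨[(13, 0)], [(0, 8), (1, 7), (3, 4), (7, 3), (8, 2)], [(4, 9), (5, 9), (14, 6)]⟩,
  ⟨[(11, 1), (14, 0)], [(0, 9), (2, 7), (3, 5), (9, 3)], [(4, 8), (6, 8), (13, 6)]⟩,
  ⟨[(10, 2), (12, 1), (15, 0)], [(1, 9), (2, 8), (3, 6)], [(5, 7), (6, 7), (13, 5)]⟩,
  ⟨[(16, 1), (17, 0)], [(4, 8), (5, 7), (7, 6), (8, 5)], [(0, 9), (1, 9), (18, 3)]⟩,
  ⟨[(11, 4), (16, 2), (18, 0)], [(4, 9), (6, 7), (9, 6)], [(0, 8), (2, 8), (17, 3)]⟩,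
  ⟨[(10, 5), (12, 4), (16, 3), (19, 0)], [(5, 9), (6, 8)], [(1, 7), (2, 7), (17, 2)]⟩]

/-- Part of a table. -/
def lvE8_3_beta_1 : List BetaRaw := [
  ⟨[(13, 5), (14, 4), (17, 2), (18, 1)], [(7, 9), (9, 8)], [(0, 6), (3, 6), (16, 3)]⟩,
  ⟨[(10, 7), (13, 6), (15, 4), (17, 3), (19, 1)], [(8, 9)], [(1, 5), (3, 5), (16, 2)]⟩,
  ⟨[(11, 8), (12, 7), (14, 6), (15, 5), (18, 3), (19, 2)], [], [(2, 4), (3, 4), (16, 1)]⟩]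

/-- Part of a table. -/
def lvE8_3_paths_0 : List (List (Fin chevE8.rank)) := [
  ([5, 4, 3] : List ℕ).map nodeE8,
  ([5, 4] : List ℕ).map nodeE8,
  ([5] : List ℕ).map nodeE8,
  ([] : List ℕ).map nodeE8,
  ([2] : List ℕ).map nodeE8]

/-- A level of the descent. -/
def lvE8_3 : Lvl chevE8 where
  k := 10
  R := [141, 142, 143, 144, 147, 148, 149, 152, 153, 156]
  L := [101, 102, 103, 104, 107, 108, 109, 112, 113, 116, 123, 126, 127, 130, 131, 132, 135, 136,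
    137, 138]
  tbl := lvE8_3_tbl_0 ++ lvE8_3_tbl_1
  beta := lvE8_3_beta_0 ++ lvE8_3_beta_1
  a := 6
  g := 19
  ph := [
    .dec 10 18,
    .dec 10 18,
    .dec 10 18,
    .tor ![-1, 0, 0, 0, 0, 0, 0, 0],
    .dec 10 18,
    .dec 12 17,
    .moved 0,
    .dec 15 16,
    .moved 1,
    .moved 2]
  scale := [nodeE8 0]
  paths := lvE8_3_paths_0

/-- Part of a table. -/
def lvE8_4_tbl_0 : List (List ℕ) := [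
  [0, 0, 0, 1],
  [0, 0, 1, 0],
  [0, 1, 0, 0],
  [0, 0, 0, 3],
  [0, 0, 3, 0],
  [0, 0, 0, 5],
  [0, 0, 7, 0],
  [0, 5, 0, 0],
  [0, 7, 0, 0],
  [3, 0, 0, 0],
  [5, 0, 0, 0],
  [7, 0, 0, 0]]

/-- Part of a table. -/
def lvE8_4_beta_0 : List BetaRaw := [
  ⟨[], [(0, 3), (1, 2), (2, 1)], []⟩,
  ⟨[(9, 0)], [(3, 3), (4, 2)], []⟩,
  ⟨[(7, 1), (10, 0)], [(5, 3)], []⟩,
  ⟨[(6, 2), (8, 1), (11, 0)], [], []⟩]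

/-- Part of a table. -/
def lvE8_4_paths_0 : List (List (Fin chevE8.rank)) := [
  ([5, 4] : List ℕ).map nodeE8,
  ([5] : List ℕ).map nodeE8,
  ([] : List ℕ).map nodeE8,
  ([3] : List ℕ).map nodeE8]

/-- A level of the descent. -/
def lvE8_4 : Lvl chevE8 where
  k := 4
  R := [135, 136, 137, 138]
  L := [107, 108, 109, 112, 113, 116, 123, 126, 127, 130, 131, 132]
  tbl := lvE8_4_tbl_0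
  beta := lvE8_4_beta_0
  a := 3
  g := 11
  ph := [
    .dec 6 10,
    .dec 6 10,
    .dec 8 9,
    .moved 0]
  scale := [nodeE8 1]
  paths := lvE8_4_paths_0

/-- Part of a table. -/
def lvE8_5_tbl_0 : List (List ℕ) := [
  [0, 0, 1],
  [0, 1, 0],
  [0, 0, 3],
  [0, 5, 0],
  [3, 0, 0],
  [5, 0, 0]]

/-- Part of a table. -/
def lvE8_5_beta_0 : List BetaRaw := [
  ⟨[], [(0, 2), (1, 1)], []⟩,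
  ⟨[(4, 0)], [(2, 2)], []⟩,
  ⟨[(3, 1), (5, 0)], [], []⟩]

/-- Part of a table. -/
def lvE8_5_paths_0 : List (List (Fin chevE8.rank)) := [
  ([5] : List ℕ).map nodeE8,
  ([] : List ℕ).map nodeE8,
  ([4] : List ℕ).map nodeE8]

/-- A level of the descent. -/
def lvE8_5 : Lvl chevE8 where
  k := 3
  R := [130, 131, 132]
  L := [112, 113, 116, 123, 126, 127]
  tbl := lvE8_5_tbl_0
  beta := lvE8_5_beta_0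
  a := 2
  g := 5
  ph := [
    .dec 3 4,
    .tor ![0, 0, 0, 0, 0, 0, -1, 0],
    .moved 0]
  scale := [nodeE8 3]
  paths := lvE8_5_paths_0

/-- Part of a table. -/
def lvE8_6_tbl_0 : List (List ℕ) := [
  [0, 1],
  [3, 0]]

/-- Part of a table. -/
def lvE8_6_beta_0 : List BetaRaw := [
  ⟨[], [(0, 1)], []⟩,
  ⟨[(1, 0)], [], []⟩]

/-- Part of a table. -/
def lvE8_6_paths_0 : List (List (Fin chevE8.rank)) := [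
  ([] : List ℕ).map nodeE8]

/-- A level of the descent. -/
def lvE8_6 : Lvl chevE8 where
  k := 2
  R := [126, 127]
  L := [116, 123]
  tbl := lvE8_6_tbl_0
  beta := lvE8_6_beta_0
  a := 1
  g := 1
  ph := [
    .tor ![0, 0, 0, 0, 0, 0, -1, 0],
    .moved 0]
  scale := [nodeE8 4]
  paths := lvE8_6_paths_0

/-- Part of a table. -/
def lvE8_7_beta_0 : List BetaRaw := [
  ⟨[], [], []⟩]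

/-- A level of the descent. -/
def lvE8_7 : Lvl chevE8 where
  k := 1
  R := [123]
  L := []
  tbl := []
  beta := lvE8_7_beta_0
  a := 0
  g := 0
  ph := []
  scale := []
  paths := []

/-- Part of a table. -/
def polE8A_tbl_0 : List (List ℕ) := [
  [0, 0, 0, 0, 14, 16, 0, 0, 0, 0, 0, 0, 0, 0, 0, 0, 0, 0, 45, 47, 49, 51, 0, 0, 0, 0, 0, 0],
  [37, 40, 41, 43, 0, 0, 53, 55, 0, 0, 0, 0, 0, 0, 0, 0, 0, 0, 0, 0, 0, 0, 0, 0, 0, 0, 0, 0],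
  [45, 48, 49, 51, 53, 55, 0, 0, 0, 0, 0, 0, 0, 0, 0, 0, 0, 0, 0, 0, 0, 0, 0, 0, 0, 0, 0, 0]]

/-- A level of the descent. -/
def polE8A : Lvl chevE8 where
  k := 28
  R := [122, 125, 129, 146, 151, 161, 173, 183, 187, 192, 193, 199, 203, 208, 209, 212, 213, 217,
    221, 222, 223, 225, 228, 229, 230, 233, 234, 238]
  L := [162, 219, 226]
  tbl := polE8A_tbl_0
  beta := []
  a := 0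
  g := 0
  ph := []
  scale := []
  paths := []

/-- Part of a table. -/
def polE8B_tbl_0 : List (List ℕ) := [
  [0, 0, 0, 0, 0, 0, 0, 0, 0, 0, 0, 0, 0, 0, 0, 0, 0, 0, 0, 0, 0, 0, 1, 3, 5, 7, 10, 12]]

/-- A level of the descent. -/
def polE8B : Lvl chevE8 where
  k := 28
  R := [237, 236, 235, 232, 231, 227, 224, 220, 218, 216, 215, 211, 206, 202, 201, 198, 196, 190,
    182, 180, 177, 168, 160, 158, 155, 140, 134, 120]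
  L := [226]
  tbl := polE8B_tbl_0
  beta := []
  a := 0
  g := 0
  ph := []
  scale := []
  paths := []

/-- Part of a table. -/
def rootPathsE8_0 : List (List (Fin chevE8.rank)) := [
  ([7, 6, 5, 4, 3, 1, 2, 0, 3, 2, 4, 3, 1, 5, 4, 3, 2, 0, 6, 5, 4, 3, 1, 2, 3, 4, 5, 6, 7, 6, 5,
    4, 3, 1, 2, 0, 3, 2, 4, 3, 1, 5, 4, 3, 2, 0, 6, 5, 4, 3, 1, 2, 3, 4, 5, 6,
    7] : List ℕ).map nodeE8,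
  ([7, 6, 5, 4, 3, 1, 2, 0, 3, 2, 4, 3, 1, 5, 4, 3, 2, 0, 6, 5, 4, 3, 1, 2, 3, 4, 5, 6, 7, 6, 5,
    4, 3, 1, 2, 0, 3, 2, 4, 3, 1, 5, 4, 3, 2, 0, 6, 5, 4, 3, 1, 2, 3, 4, 5,
    6] : List ℕ).map nodeE8,
  ([7, 6, 5, 4, 3, 1, 2, 0, 3, 2, 4, 3, 1, 5, 4, 3, 2, 0, 6, 5, 4, 3, 1, 2, 3, 4, 5, 6, 7, 6, 5,
    4, 3, 1, 2, 0, 3, 2, 4, 3, 1, 5, 4, 3, 2, 0, 6, 5, 4, 3, 1, 2, 3, 4, 5] : List ℕ).map nodeE8,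
  ([7, 6, 5, 4, 3, 1, 2, 0, 3, 2, 4, 3, 1, 5, 4, 3, 2, 0, 6, 5, 4, 3, 1, 2, 3, 4, 5, 6, 7, 6, 5,
    4, 3, 1, 2, 0, 3, 2, 4, 3, 1, 5, 4, 3, 2, 0, 6, 5, 4, 3, 1, 2, 3, 4] : List ℕ).map nodeE8,
  ([7, 6, 5, 4, 3, 1, 2, 0, 3, 2, 4, 3, 1, 5, 4, 3, 2, 0, 6, 5, 4, 3, 1, 2, 3, 4, 5, 6, 7, 6, 5,
    4, 3, 1, 2, 0, 3, 2, 4, 3, 1, 5, 4, 3, 2, 0, 6, 5, 4, 3, 1, 2, 3] : List ℕ).map nodeE8,
  ([7, 6, 5, 4, 3, 1, 2, 0, 3, 2, 4, 3, 1, 5, 4, 3, 2, 0, 6, 5, 4, 3, 1, 2, 3, 4, 5, 6, 7, 6, 5,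
    4, 3, 1, 2, 0, 3, 2, 4, 3, 1, 5, 4, 3, 2, 0, 6, 5, 4, 3, 1, 2] : List ℕ).map nodeE8,
  ([7, 6, 5, 4, 3, 1, 2, 0, 3, 2, 4, 3, 1, 5, 4, 3, 2, 0, 6, 5, 4, 3, 1, 2, 3, 4, 5, 6, 7, 6, 5,
    4, 3, 1, 2, 0, 3, 2, 4, 3, 1, 5, 4, 3, 2, 0, 6, 5, 4, 3, 1] : List ℕ).map nodeE8,
  ([7, 6, 5, 4, 3, 1, 2, 0, 3, 2, 4, 3, 1, 5, 4, 3, 2, 0, 6, 5, 4, 3, 1, 2, 3, 4, 5, 6, 7, 6, 5,
    4, 3, 1, 2, 0, 3, 2, 4, 3, 1, 5, 4, 3, 2, 0, 6, 5, 4, 3, 2] : List ℕ).map nodeE8,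
  ([7, 6, 5, 4, 3, 1, 2, 0, 3, 2, 4, 3, 1, 5, 4, 3, 2, 0, 6, 5, 4, 3, 1, 2, 3, 4, 5, 6, 7, 6, 5,
    4, 3, 1, 2, 0, 3, 2, 4, 3, 1, 5, 4, 3, 2, 0, 6, 5, 4, 3] : List ℕ).map nodeE8,
  ([7, 6, 5, 4, 3, 1, 2, 0, 3, 2, 4, 3, 1, 5, 4, 3, 2, 0, 6, 5, 4, 3, 1, 2, 3, 4, 5, 6, 7, 6, 5,
    4, 3, 1, 2, 0, 3, 2, 4, 3, 1, 5, 4, 3, 2, 0, 6, 5, 4] : List ℕ).map nodeE8,
  ([7, 6, 5, 4, 3, 1, 2, 0, 3, 2, 4, 3, 1, 5, 4, 3, 2, 0, 6, 5, 4, 3, 1, 2, 3, 4, 5, 6, 7, 6, 5,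
    4, 3, 1, 2, 0, 3, 2, 4, 3, 1, 5, 4, 3, 2, 0, 6, 5] : List ℕ).map nodeE8,
  ([7, 6, 5, 4, 3, 1, 2, 0, 3, 2, 4, 3, 1, 5, 4, 3, 2, 0, 6, 5, 4, 3, 1, 2, 3, 4, 5, 6, 7, 6, 5,
    4, 3, 1, 2, 0, 3, 2, 4, 3, 1, 5, 4, 3, 2, 0, 6] : List ℕ).map nodeE8,
  ([7, 6, 5, 4, 3, 1, 2, 0, 3, 2, 4, 3, 1, 5, 4, 3, 2, 0, 6, 5, 4, 3, 1, 2, 3, 4, 5, 6, 7, 6, 5,
    4, 3, 1, 2, 0, 3, 2, 4, 3, 1, 5, 4, 3, 2, 0] : List ℕ).map nodeE8,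
  ([7, 6, 5, 4, 3, 1, 2, 0, 3, 2, 4, 3, 1, 5, 4, 3, 2, 0, 6, 5, 4, 3, 1, 2, 3, 4, 5, 7, 6, 5, 4,
    3, 1, 2, 0, 3, 2, 4, 3, 1, 5, 4, 3, 2, 0] : List ℕ).map nodeE8,
  ([7, 6, 5, 4, 3, 1, 2, 0, 3, 2, 4, 3, 1, 5, 4, 3, 2, 0, 6, 5, 4, 3, 1, 2, 3, 4, 5, 6, 7, 6, 5,
    4, 3, 1, 2, 0, 3, 2, 4, 3, 1, 5, 4, 3, 2, 6, 5, 4, 3, 1] : List ℕ).map nodeE8,
  ([7, 6, 5, 4, 3, 1, 2, 0, 3, 2, 4, 3, 1, 5, 4, 3, 2, 0, 6, 5, 4, 3, 1, 2, 3, 4, 5, 6, 7, 6, 5,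
    4, 3, 1, 2, 0, 3, 2, 4, 3, 1, 5, 4, 3, 2, 6, 5, 4, 3] : List ℕ).map nodeE8,
  ([7, 6, 5, 4, 3, 1, 2, 0, 3, 2, 4, 3, 1, 5, 4, 3, 2, 0, 6, 5, 4, 3, 1, 2, 3, 4, 5, 6, 7, 6, 5,
    4, 3, 1, 2, 0, 3, 2, 4, 3, 1, 5, 4, 3, 2, 6, 5, 4] : List ℕ).map nodeE8,
  ([7, 6, 5, 4, 3, 1, 2, 0, 3, 2, 4, 3, 1, 5, 4, 3, 2, 0, 6, 5, 4, 3, 1, 2, 3, 4, 5, 6, 7, 6, 5,
    4, 3, 1, 2, 0, 3, 2, 4, 3, 1, 5, 4, 3, 2, 6, 5] : List ℕ).map nodeE8,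
  ([7, 6, 5, 4, 3, 1, 2, 0, 3, 2, 4, 3, 1, 5, 4, 3, 2, 0, 6, 5, 4, 3, 1, 2, 3, 4, 5, 6, 7, 6, 5,
    4, 3, 1, 2, 0, 3, 2, 4, 3, 1, 5, 4, 3, 2, 6] : List ℕ).map nodeE8,
  ([7, 6, 5, 4, 3, 1, 2, 0, 3, 2, 4, 3, 1, 5, 4, 3, 2, 0, 6, 5, 4, 3, 1, 2, 3, 4, 5, 6, 7, 6, 5,
    4, 3, 1, 2, 0, 3, 2, 4, 3, 1, 5, 4, 3, 2] : List ℕ).map nodeE8]

/-- Part of a table. -/
def rootPathsE8_1 : List (List (Fin chevE8.rank)) := [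
  ([7, 6, 5, 4, 3, 1, 2, 0, 3, 2, 4, 3, 1, 5, 4, 3, 2, 0, 6, 5, 4, 3, 1, 2, 3, 4, 5, 7, 6, 5, 4,
    3, 1, 2, 0, 3, 2, 4, 3, 1, 5, 4, 3, 2] : List ℕ).map nodeE8,
  ([7, 6, 5, 4, 3, 1, 2, 0, 3, 2, 4, 3, 1, 5, 4, 3, 2, 0, 6, 5, 4, 3, 1, 2, 3, 4, 5, 6, 7, 6, 5,
    4, 3, 1, 2, 0, 3, 2, 4, 3, 1, 5, 4, 3, 6, 5, 4] : List ℕ).map nodeE8,
  ([7, 6, 5, 4, 3, 1, 2, 0, 3, 2, 4, 3, 1, 5, 4, 3, 2, 0, 6, 5, 4, 3, 1, 2, 3, 4, 5, 6, 7, 6, 5,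
    4, 3, 1, 2, 0, 3, 2, 4, 3, 1, 5, 4, 3, 6, 5] : List ℕ).map nodeE8,
  ([7, 6, 5, 4, 3, 1, 2, 0, 3, 2, 4, 3, 1, 5, 4, 3, 2, 0, 6, 5, 4, 3, 1, 2, 3, 4, 5, 6, 7, 6, 5,
    4, 3, 1, 2, 0, 3, 2, 4, 3, 1, 5, 4, 3, 6] : List ℕ).map nodeE8,
  ([7, 6, 5, 4, 3, 1, 2, 0, 3, 2, 4, 3, 1, 5, 4, 3, 2, 0, 6, 5, 4, 3, 1, 2, 3, 4, 5, 6, 7, 6, 5,
    4, 3, 1, 2, 0, 3, 2, 4, 3, 1, 5, 4, 3] : List ℕ).map nodeE8,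
  ([7, 6, 5, 4, 3, 1, 2, 0, 3, 2, 4, 3, 1, 5, 4, 3, 2, 0, 6, 5, 4, 3, 1, 2, 3, 4, 5, 7, 6, 5, 4,
    3, 1, 2, 0, 3, 2, 4, 3, 1, 5, 4, 3] : List ℕ).map nodeE8,
  ([7, 6, 5, 4, 3, 1, 2, 0, 3, 2, 4, 3, 1, 5, 4, 3, 2, 0, 6, 5, 4, 3, 1, 2, 3, 4, 5, 6, 7, 6, 5,
    4, 3, 1, 2, 0, 3, 2, 4, 3, 1, 5, 4, 6, 5] : List ℕ).map nodeE8,
  ([7, 6, 5, 4, 3, 1, 2, 0, 3, 2, 4, 3, 1, 5, 4, 3, 2, 0, 6, 5, 4, 3, 1, 2, 3, 4, 5, 6, 7, 6, 5,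
    4, 3, 1, 2, 0, 3, 2, 4, 3, 1, 5, 4, 6] : List ℕ).map nodeE8,
  ([7, 6, 5, 4, 3, 1, 2, 0, 3, 2, 4, 3, 1, 5, 4, 3, 2, 0, 6, 5, 4, 3, 1, 2, 3, 4, 5, 6, 7, 6, 5,
    4, 3, 1, 2, 0, 3, 2, 4, 3, 1, 5, 4] : List ℕ).map nodeE8,
  ([7, 6, 5, 4, 3, 1, 2, 0, 3, 2, 4, 3, 1, 5, 4, 3, 2, 0, 6, 5, 4, 3, 1, 2, 3, 4, 5, 7, 6, 5, 4,
    3, 1, 2, 0, 3, 2, 4, 3, 1, 5, 4] : List ℕ).map nodeE8,
  ([7, 6, 5, 4, 3, 1, 2, 0, 3, 2, 4, 3, 1, 5, 4, 3, 2, 0, 6, 5, 4, 3, 1, 2, 3, 4, 5, 6, 7, 6, 5,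
    4, 3, 1, 2, 0, 3, 2, 4, 3, 1, 5, 6] : List ℕ).map nodeE8,
  ([7, 6, 5, 4, 3, 1, 2, 0, 3, 2, 4, 3, 1, 5, 4, 3, 2, 0, 6, 5, 4, 3, 1, 2, 3, 4, 5, 6, 7, 6, 5,
    4, 3, 1, 2, 0, 3, 2, 4, 3, 1, 5] : List ℕ).map nodeE8,
  ([7, 6, 5, 4, 3, 1, 2, 0, 3, 2, 4, 3, 1, 5, 4, 3, 2, 0, 6, 5, 4, 3, 1, 2, 3, 4, 5, 7, 6, 5, 4,
    3, 1, 2, 0, 3, 2, 4, 3, 1, 5] : List ℕ).map nodeE8,
  ([7, 6, 5, 4, 3, 1, 2, 0, 3, 2, 4, 3, 1, 5, 4, 3, 2, 0, 6, 5, 4, 3, 1, 2, 3, 4, 5, 6, 7, 6, 5,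
    4, 3, 1, 2, 0, 3, 2, 4, 3, 1] : List ℕ).map nodeE8,
  ([7, 6, 5, 4, 3, 1, 2, 0, 3, 2, 4, 3, 1, 5, 4, 3, 2, 0, 6, 5, 4, 3, 1, 2, 3, 4, 5, 7, 6, 5, 4,
    3, 1, 2, 0, 3, 2, 4, 3, 1] : List ℕ).map nodeE8,
  ([7, 6, 5, 4, 3, 1, 2, 0, 3, 2, 4, 3, 1, 5, 4, 3, 2, 0, 6, 5, 4, 3, 1, 2, 3, 4, 7, 6, 5, 4, 3,
    1, 2, 0, 3, 2, 4, 3, 1] : List ℕ).map nodeE8,
  ([7, 6, 5, 4, 3, 1, 2, 0, 3, 2, 4, 3, 1, 5, 4, 3, 2, 0, 6, 5, 4, 3, 1, 2, 3, 4, 5, 6, 7, 6, 5,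
    4, 3, 1, 2, 0, 3, 2, 4, 3, 5, 4, 6, 5] : List ℕ).map nodeE8,
  ([7, 6, 5, 4, 3, 1, 2, 0, 3, 2, 4, 3, 1, 5, 4, 3, 2, 0, 6, 5, 4, 3, 1, 2, 3, 4, 5, 6, 7, 6, 5,
    4, 3, 1, 2, 0, 3, 2, 4, 3, 5, 4, 6] : List ℕ).map nodeE8,
  ([7, 6, 5, 4, 3, 1, 2, 0, 3, 2, 4, 3, 1, 5, 4, 3, 2, 0, 6, 5, 4, 3, 1, 2, 3, 4, 5, 6, 7, 6, 5,
    4, 3, 1, 2, 0, 3, 2, 4, 3, 5, 4] : List ℕ).map nodeE8,
  ([7, 6, 5, 4, 3, 1, 2, 0, 3, 2, 4, 3, 1, 5, 4, 3, 2, 0, 6, 5, 4, 3, 1, 2, 3, 4, 5, 7, 6, 5, 4,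
    3, 1, 2, 0, 3, 2, 4, 3, 5, 4] : List ℕ).map nodeE8]

/-- Part of a table. -/
def rootPathsE8_2 : List (List (Fin chevE8.rank)) := [
  ([7, 6, 5, 4, 3, 1, 2, 0, 3, 2, 4, 3, 1, 5, 4, 3, 2, 0, 6, 5, 4, 3, 1, 2, 3, 4, 5, 6, 7, 6, 5,
    4, 3, 1, 2, 0, 3, 2, 4, 3, 5, 6] : List ℕ).map nodeE8,
  ([7, 6, 5, 4, 3, 1, 2, 0, 3, 2, 4, 3, 1, 5, 4, 3, 2, 0, 6, 5, 4, 3, 1, 2, 3, 4, 5, 6, 7, 6, 5,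
    4, 3, 1, 2, 0, 3, 2, 4, 3, 5] : List ℕ).map nodeE8,
  ([7, 6, 5, 4, 3, 1, 2, 0, 3, 2, 4, 3, 1, 5, 4, 3, 2, 0, 6, 5, 4, 3, 1, 2, 3, 4, 5, 7, 6, 5, 4,
    3, 1, 2, 0, 3, 2, 4, 3, 5] : List ℕ).map nodeE8,
  ([7, 6, 5, 4, 3, 1, 2, 0, 3, 2, 4, 3, 1, 5, 4, 3, 2, 0, 6, 5, 4, 3, 1, 2, 3, 4, 5, 6, 7, 6, 5,
    4, 3, 1, 2, 0, 3, 2, 4, 3] : List ℕ).map nodeE8,
  ([7, 6, 5, 4, 3, 1, 2, 0, 3, 2, 4, 3, 1, 5, 4, 3, 2, 0, 6, 5, 4, 3, 1, 2, 3, 4, 5, 7, 6, 5, 4,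
    3, 1, 2, 0, 3, 2, 4, 3] : List ℕ).map nodeE8,
  ([7, 6, 5, 4, 3, 1, 2, 0, 3, 2, 4, 3, 1, 5, 4, 3, 2, 0, 6, 5, 4, 3, 1, 2, 3, 4, 7, 6, 5, 4, 3,
    1, 2, 0, 3, 2, 4, 3] : List ℕ).map nodeE8,
  ([7, 6, 5, 4, 3, 1, 2, 0, 3, 2, 4, 3, 1, 5, 4, 3, 2, 0, 6, 5, 4, 3, 1, 2, 3, 4, 5, 6, 7, 6, 5,
    4, 3, 1, 2, 0, 3, 2, 4, 5, 6] : List ℕ).map nodeE8,
  ([7, 6, 5, 4, 3, 1, 2, 0, 3, 2, 4, 3, 1, 5, 4, 3, 2, 0, 6, 5, 4, 3, 1, 2, 3, 4, 5, 6, 7, 6, 5,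
    4, 3, 1, 2, 0, 3, 2, 4, 5] : List ℕ).map nodeE8,
  ([7, 6, 5, 4, 3, 1, 2, 0, 3, 2, 4, 3, 1, 5, 4, 3, 2, 0, 6, 5, 4, 3, 1, 2, 3, 4, 5, 7, 6, 5, 4,
    3, 1, 2, 0, 3, 2, 4, 5] : List ℕ).map nodeE8,
  ([7, 6, 5, 4, 3, 1, 2, 0, 3, 2, 4, 3, 1, 5, 4, 3, 2, 0, 6, 5, 4, 3, 1, 2, 3, 4, 5, 6, 7, 6, 5,
    4, 3, 1, 2, 0, 3, 2, 4] : List ℕ).map nodeE8,
  ([7, 6, 5, 4, 3, 1, 2, 0, 3, 2, 4, 3, 1, 5, 4, 3, 2, 0, 6, 5, 4, 3, 1, 2, 3, 4, 5, 7, 6, 5, 4,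
    3, 1, 2, 0, 3, 2, 4] : List ℕ).map nodeE8,
  ([7, 6, 5, 4, 3, 1, 2, 0, 3, 2, 4, 3, 1, 5, 4, 3, 2, 0, 6, 5, 4, 3, 1, 2, 3, 4, 7, 6, 5, 4, 3,
    1, 2, 0, 3, 2, 4] : List ℕ).map nodeE8,
  ([7, 6, 5, 4, 3, 1, 2, 0, 3, 2, 4, 3, 1, 5, 4, 3, 2, 0, 6, 5, 4, 3, 1, 2, 3, 4, 5, 6, 7, 6, 5,
    4, 3, 1, 2, 0, 3, 2] : List ℕ).map nodeE8,
  ([7, 6, 5, 4, 3, 1, 2, 0, 3, 2, 4, 3, 1, 5, 4, 3, 2, 0, 6, 5, 4, 3, 1, 2, 3, 4, 5, 7, 6, 5, 4,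
    3, 1, 2, 0, 3, 2] : List ℕ).map nodeE8,
  ([7, 6, 5, 4, 3, 1, 2, 0, 3, 2, 4, 3, 1, 5, 4, 3, 2, 0, 6, 5, 4, 3, 1, 2, 3, 4, 7, 6, 5, 4, 3,
    1, 2, 0, 3, 2] : List ℕ).map nodeE8,
  ([7, 6, 5, 4, 3, 1, 2, 0, 3, 2, 4, 3, 1, 5, 4, 3, 2, 0, 6, 5, 4, 3, 1, 2, 3, 7, 6, 5, 4, 3, 1,
    2, 0, 3, 2] : List ℕ).map nodeE8,
  ([7, 6, 5, 4, 3, 1, 2, 0, 3, 2, 4, 3, 1, 5, 4, 3, 2, 0, 6, 5, 4, 3, 1, 2, 3, 4, 5, 6, 7, 6, 5,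
    4, 3, 1, 2, 0, 3, 4, 5, 6] : List ℕ).map nodeE8,
  ([7, 6, 5, 4, 3, 1, 2, 0, 3, 2, 4, 3, 1, 5, 4, 3, 2, 0, 6, 5, 4, 3, 1, 2, 3, 4, 5, 6, 7, 6, 5,
    4, 3, 1, 2, 0, 3, 4, 5] : List ℕ).map nodeE8,
  ([7, 6, 5, 4, 3, 1, 2, 0, 3, 2, 4, 3, 1, 5, 4, 3, 2, 0, 6, 5, 4, 3, 1, 2, 3, 4, 5, 7, 6, 5, 4,
    3, 1, 2, 0, 3, 4, 5] : List ℕ).map nodeE8,
  ([7, 6, 5, 4, 3, 1, 2, 0, 3, 2, 4, 3, 1, 5, 4, 3, 2, 0, 6, 5, 4, 3, 1, 2, 3, 4, 5, 6, 7, 6, 5,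
    4, 3, 1, 2, 0, 3, 4] : List ℕ).map nodeE8]

/-- Part of a table. -/
def rootPathsE8_3 : List (List (Fin chevE8.rank)) := [
  ([7, 6, 5, 4, 3, 1, 2, 0, 3, 2, 4, 3, 1, 5, 4, 3, 2, 0, 6, 5, 4, 3, 1, 2, 3, 4, 5, 7, 6, 5, 4,
    3, 1, 2, 0, 3, 4] : List ℕ).map nodeE8,
  ([7, 6, 5, 4, 3, 1, 2, 0, 3, 2, 4, 3, 1, 5, 4, 3, 2, 0, 6, 5, 4, 3, 1, 2, 3, 4, 7, 6, 5, 4, 3,
    1, 2, 0, 3, 4] : List ℕ).map nodeE8,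
  ([7, 6, 5, 4, 3, 1, 2, 0, 3, 2, 4, 3, 1, 5, 4, 3, 2, 0, 6, 5, 4, 3, 1, 2, 3, 4, 5, 6, 7, 6, 5,
    4, 3, 1, 2, 0, 3] : List ℕ).map nodeE8,
  ([7, 6, 5, 4, 3, 1, 2, 0, 3, 2, 4, 3, 1, 5, 4, 3, 2, 0, 6, 5, 4, 3, 1, 2, 3, 4, 5, 7, 6, 5, 4,
    3, 1, 2, 0, 3] : List ℕ).map nodeE8,
  ([7, 6, 5, 4, 3, 1, 2, 0, 3, 2, 4, 3, 1, 5, 4, 3, 2, 0, 6, 5, 4, 3, 1, 2, 3, 4, 7, 6, 5, 4, 3,
    1, 2, 0, 3] : List ℕ).map nodeE8,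
  ([7, 6, 5, 4, 3, 1, 2, 0, 3, 2, 4, 3, 1, 5, 4, 3, 2, 0, 6, 5, 4, 3, 1, 2, 3, 7, 6, 5, 4, 3, 1,
    2, 0, 3] : List ℕ).map nodeE8,
  ([7, 6, 5, 4, 3, 1, 2, 0, 3, 2, 4, 3, 1, 5, 4, 3, 2, 0, 6, 5, 4, 3, 1, 2, 3, 4, 5, 6, 7, 6, 5,
    4, 3, 1, 2, 0] : List ℕ).map nodeE8,
  ([7, 6, 5, 4, 3, 1, 2, 0, 3, 2, 4, 3, 1, 5, 4, 3, 2, 0, 6, 5, 4, 3, 1, 2, 3, 4, 5, 7, 6, 5, 4,
    3, 1, 2, 0] : List ℕ).map nodeE8,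
  ([7, 6, 5, 4, 3, 1, 2, 0, 3, 2, 4, 3, 1, 5, 4, 3, 2, 0, 6, 5, 4, 3, 1, 2, 3, 4, 7, 6, 5, 4, 3,
    1, 2, 0] : List ℕ).map nodeE8,
  ([7, 6, 5, 4, 3, 1, 2, 0, 3, 2, 4, 3, 1, 5, 4, 3, 2, 0, 6, 5, 4, 3, 1, 2, 3, 7, 6, 5, 4, 3, 1,
    2, 0] : List ℕ).map nodeE8,
  ([7, 6, 5, 4, 3, 1, 2, 0, 3, 2, 4, 3, 1, 5, 4, 3, 2, 0, 6, 5, 4, 3, 1, 2, 7, 6, 5, 4, 3, 1, 2,
    0] : List ℕ).map nodeE8,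
  ([7, 6, 5, 4, 3, 1, 2, 0, 3, 2, 4, 3, 1, 5, 4, 3, 2, 0, 6, 5, 4, 3, 1, 2, 3, 4, 5, 6, 7, 6, 5,
    4, 3, 2, 0] : List ℕ).map nodeE8,
  ([7, 6, 5, 4, 3, 1, 2, 0, 3, 2, 4, 3, 1, 5, 4, 3, 2, 0, 6, 5, 4, 3, 1, 2, 3, 4, 5, 7, 6, 5, 4,
    3, 2, 0] : List ℕ).map nodeE8,
  ([7, 6, 5, 4, 3, 1, 2, 0, 3, 2, 4, 3, 1, 5, 4, 3, 2, 0, 6, 5, 4, 3, 1, 2, 3, 4, 7, 6, 5, 4, 3,
    2, 0] : List ℕ).map nodeE8,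
  ([7, 6, 5, 4, 3, 1, 2, 0, 3, 2, 4, 3, 1, 5, 4, 3, 2, 0, 6, 5, 4, 3, 1, 2, 3, 7, 6, 5, 4, 3, 2,
    0] : List ℕ).map nodeE8,
  ([7, 6, 5, 4, 3, 1, 2, 0, 3, 2, 4, 3, 1, 5, 4, 3, 2, 0, 6, 5, 4, 3, 1, 2, 7, 6, 5, 4, 3, 2,
    0] : List ℕ).map nodeE8,
  ([7, 6, 5, 4, 3, 1, 2, 0, 3, 2, 4, 3, 1, 5, 4, 3, 2, 0, 6, 5, 4, 3, 1, 7, 6, 5, 4, 3, 2,
    0] : List ℕ).map nodeE8,
  ([7, 6, 5, 4, 3, 1, 2, 0, 3, 2, 4, 3, 1, 5, 4, 3, 2, 6, 5, 4, 3, 1, 7, 6, 5, 4, 3, 2,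
    0] : List ℕ).map nodeE8,
  ([7, 6, 5, 4, 3, 1, 2, 0, 3, 2, 4, 3, 1, 5, 4, 3, 2, 0, 6, 5, 4, 3, 1, 2, 3, 4, 5, 6, 7, 6, 5,
    4, 3, 1, 2, 3, 4, 5, 6] : List ℕ).map nodeE8,
  ([7, 6, 5, 4, 3, 1, 2, 0, 3, 2, 4, 3, 1, 5, 4, 3, 2, 0, 6, 5, 4, 3, 1, 2, 3, 4, 5, 6, 7, 6, 5,
    4, 3, 1, 2, 3, 4, 5] : List ℕ).map nodeE8]

/-- Part of a table. -/
def rootPathsE8_4 : List (List (Fin chevE8.rank)) := [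
  ([7, 6, 5, 4, 3, 1, 2, 0, 3, 2, 4, 3, 1, 5, 4, 3, 2, 0, 6, 5, 4, 3, 1, 2, 3, 4, 5, 7, 6, 5, 4,
    3, 1, 2, 3, 4, 5] : List ℕ).map nodeE8,
  ([7, 6, 5, 4, 3, 1, 2, 0, 3, 2, 4, 3, 1, 5, 4, 3, 2, 0, 6, 5, 4, 3, 1, 2, 3, 4, 5, 6, 7, 6, 5,
    4, 3, 1, 2, 3, 4] : List ℕ).map nodeE8,
  ([7, 6, 5, 4, 3, 1, 2, 0, 3, 2, 4, 3, 1, 5, 4, 3, 2, 0, 6, 5, 4, 3, 1, 2, 3, 4, 5, 7, 6, 5, 4,
    3, 1, 2, 3, 4] : List ℕ).map nodeE8,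
  ([7, 6, 5, 4, 3, 1, 2, 0, 3, 2, 4, 3, 1, 5, 4, 3, 2, 0, 6, 5, 4, 3, 1, 2, 3, 4, 7, 6, 5, 4, 3,
    1, 2, 3, 4] : List ℕ).map nodeE8,
  ([7, 6, 5, 4, 3, 1, 2, 0, 3, 2, 4, 3, 1, 5, 4, 3, 2, 0, 6, 5, 4, 3, 1, 2, 3, 4, 5, 6, 7, 6, 5,
    4, 3, 1, 2, 3] : List ℕ).map nodeE8,
  ([7, 6, 5, 4, 3, 1, 2, 0, 3, 2, 4, 3, 1, 5, 4, 3, 2, 0, 6, 5, 4, 3, 1, 2, 3, 4, 5, 7, 6, 5, 4,
    3, 1, 2, 3] : List ℕ).map nodeE8,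
  ([7, 6, 5, 4, 3, 1, 2, 0, 3, 2, 4, 3, 1, 5, 4, 3, 2, 0, 6, 5, 4, 3, 1, 2, 3, 4, 7, 6, 5, 4, 3,
    1, 2, 3] : List ℕ).map nodeE8,
  ([7, 6, 5, 4, 3, 1, 2, 0, 3, 2, 4, 3, 1, 5, 4, 3, 2, 0, 6, 5, 4, 3, 1, 2, 3, 7, 6, 5, 4, 3, 1,
    2, 3] : List ℕ).map nodeE8,
  ([7, 6, 5, 4, 3, 1, 2, 0, 3, 2, 4, 3, 1, 5, 4, 3, 2, 0, 6, 5, 4, 3, 1, 2, 3, 4, 5, 6, 7, 6, 5,
    4, 3, 1, 2] : List ℕ).map nodeE8,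
  ([7, 6, 5, 4, 3, 1, 2, 0, 3, 2, 4, 3, 1, 5, 4, 3, 2, 0, 6, 5, 4, 3, 1, 2, 3, 4, 5, 7, 6, 5, 4,
    3, 1, 2] : List ℕ).map nodeE8,
  ([7, 6, 5, 4, 3, 1, 2, 0, 3, 2, 4, 3, 1, 5, 4, 3, 2, 0, 6, 5, 4, 3, 1, 2, 3, 4, 7, 6, 5, 4, 3,
    1, 2] : List ℕ).map nodeE8,
  ([7, 6, 5, 4, 3, 1, 2, 0, 3, 2, 4, 3, 1, 5, 4, 3, 2, 0, 6, 5, 4, 3, 1, 2, 3, 7, 6, 5, 4, 3, 1,
    2] : List ℕ).map nodeE8,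
  ([7, 6, 5, 4, 3, 1, 2, 0, 3, 2, 4, 3, 1, 5, 4, 3, 2, 0, 6, 5, 4, 3, 1, 2, 7, 6, 5, 4, 3, 1,
    2] : List ℕ).map nodeE8,
  ([7, 6, 5, 4, 3, 1, 2, 0, 3, 2, 4, 3, 1, 5, 4, 3, 2, 0, 6, 5, 4, 3, 1, 2, 3, 4, 5, 6, 7, 6, 5,
    4, 3, 1] : List ℕ).map nodeE8,
  ([7, 6, 5, 4, 3, 1, 2, 0, 3, 2, 4, 3, 1, 5, 4, 3, 2, 0, 6, 5, 4, 3, 1, 2, 3, 4, 5, 7, 6, 5, 4,
    3, 1] : List ℕ).map nodeE8,
  ([7, 6, 5, 4, 3, 1, 2, 0, 3, 2, 4, 3, 1, 5, 4, 3, 2, 0, 6, 5, 4, 3, 1, 2, 3, 4, 7, 6, 5, 4, 3,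
    1] : List ℕ).map nodeE8,
  ([7, 6, 5, 4, 3, 1, 2, 0, 3, 2, 4, 3, 1, 5, 4, 3, 2, 0, 6, 5, 4, 3, 1, 2, 3, 7, 6, 5, 4, 3,
    1] : List ℕ).map nodeE8,
  ([7, 6, 5, 4, 3, 1, 2, 0, 3, 2, 4, 3, 1, 5, 4, 3, 2, 0, 6, 5, 4, 3, 1, 2, 7, 6, 5, 4, 3,
    1] : List ℕ).map nodeE8,
  ([7, 6, 5, 4, 3, 1, 2, 0, 3, 2, 4, 3, 1, 5, 4, 3, 2, 0, 6, 5, 4, 3, 2, 7, 6, 5, 4, 3,
    1] : List ℕ).map nodeE8,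
  ([7, 6, 5, 4, 3, 1, 2, 0, 3, 2, 4, 3, 1, 5, 4, 3, 2, 0, 6, 5, 4, 3, 1, 2, 3, 4, 5, 6, 7, 6, 5,
    4, 3, 2] : List ℕ).map nodeE8]

/-- Part of a table. -/
def rootPathsE8_5 : List (List (Fin chevE8.rank)) := [
  ([7, 6, 5, 4, 3, 1, 2, 0, 3, 2, 4, 3, 1, 5, 4, 3, 2, 0, 6, 5, 4, 3, 1, 2, 3, 4, 5, 7, 6, 5, 4,
    3, 2] : List ℕ).map nodeE8,
  ([7, 6, 5, 4, 3, 1, 2, 0, 3, 2, 4, 3, 1, 5, 4, 3, 2, 0, 6, 5, 4, 3, 1, 2, 3, 4, 7, 6, 5, 4, 3,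
    2] : List ℕ).map nodeE8,
  ([7, 6, 5, 4, 3, 1, 2, 0, 3, 2, 4, 3, 1, 5, 4, 3, 2, 0, 6, 5, 4, 3, 1, 2, 3, 7, 6, 5, 4, 3,
    2] : List ℕ).map nodeE8,
  ([7, 6, 5, 4, 3, 1, 2, 0, 3, 2, 4, 3, 1, 5, 4, 3, 2, 0, 6, 5, 4, 3, 1, 2, 7, 6, 5, 4, 3,
    2] : List ℕ).map nodeE8,
  ([7, 6, 5, 4, 3, 1, 2, 0, 3, 2, 4, 3, 1, 5, 4, 3, 2, 0, 6, 5, 4, 3, 1, 7, 6, 5, 4, 3,
    2] : List ℕ).map nodeE8,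
  ([7, 6, 5, 4, 3, 1, 2, 0, 3, 2, 4, 3, 1, 5, 4, 3, 2, 0, 6, 5, 4, 3, 1, 2, 3, 4, 5, 6, 7, 6, 5,
    4, 3] : List ℕ).map nodeE8,
  ([7, 6, 5, 4, 3, 1, 2, 0, 3, 2, 4, 3, 1, 5, 4, 3, 2, 0, 6, 5, 4, 3, 1, 2, 3, 4, 5, 7, 6, 5, 4,
    3] : List ℕ).map nodeE8,
  ([7, 6, 5, 4, 3, 1, 2, 0, 3, 2, 4, 3, 1, 5, 4, 3, 2, 0, 6, 5, 4, 3, 1, 2, 3, 4, 7, 6, 5, 4,
    3] : List ℕ).map nodeE8,
  ([7, 6, 5, 4, 3, 1, 2, 0, 3, 2, 4, 3, 1, 5, 4, 3, 2, 0, 6, 5, 4, 3, 1, 2, 3, 7, 6, 5, 4,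
    3] : List ℕ).map nodeE8,
  ([7, 6, 5, 4, 3, 1, 2, 0, 3, 2, 4, 3, 1, 5, 4, 3, 2, 0, 6, 5, 4, 3, 1, 2, 7, 6, 5, 4,
    3] : List ℕ).map nodeE8,
  ([7, 6, 5, 4, 3, 1, 2, 0, 3, 2, 4, 3, 1, 5, 4, 3, 2, 0, 6, 5, 4, 3, 1, 2, 3, 4, 5, 6, 7, 6, 5,
    4] : List ℕ).map nodeE8,
  ([7, 6, 5, 4, 3, 1, 2, 0, 3, 2, 4, 3, 1, 5, 4, 3, 2, 0, 6, 5, 4, 3, 1, 2, 3, 4, 5, 7, 6, 5,
    4] : List ℕ).map nodeE8,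
  ([7, 6, 5, 4, 3, 1, 2, 0, 3, 2, 4, 3, 1, 5, 4, 3, 2, 0, 6, 5, 4, 3, 1, 2, 3, 4, 7, 6, 5,
    4] : List ℕ).map nodeE8,
  ([7, 6, 5, 4, 3, 1, 2, 0, 3, 2, 4, 3, 1, 5, 4, 3, 2, 0, 6, 5, 4, 3, 1, 2, 3, 7, 6, 5,
    4] : List ℕ).map nodeE8,
  ([7, 6, 5, 4, 3, 1, 2, 0, 3, 2, 4, 3, 1, 5, 4, 3, 2, 0, 6, 5, 4, 3, 1, 2, 3, 4, 5, 6, 7, 6,
    5] : List ℕ).map nodeE8,
  ([7, 6, 5, 4, 3, 1, 2, 0, 3, 2, 4, 3, 1, 5, 4, 3, 2, 0, 6, 5, 4, 3, 1, 2, 3, 4, 5, 7, 6,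
    5] : List ℕ).map nodeE8,
  ([7, 6, 5, 4, 3, 1, 2, 0, 3, 2, 4, 3, 1, 5, 4, 3, 2, 0, 6, 5, 4, 3, 1, 2, 3, 4, 7, 6,
    5] : List ℕ).map nodeE8,
  ([7, 6, 5, 4, 3, 1, 2, 0, 3, 2, 4, 3, 1, 5, 4, 3, 2, 0, 6, 5, 4, 3, 1, 2, 3, 4, 5, 6, 7,
    6] : List ℕ).map nodeE8,
  ([7, 6, 5, 4, 3, 1, 2, 0, 3, 2, 4, 3, 1, 5, 4, 3, 2, 0, 6, 5, 4, 3, 1, 2, 3, 4, 5, 7,
    6] : List ℕ).map nodeE8,
  ([7, 6, 5, 4, 3, 1, 2, 0, 3, 2, 4, 3, 1, 5, 4, 3, 2, 0, 6, 5, 4, 3, 1, 2, 3, 4, 5, 6,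
    7] : List ℕ).map nodeE8]

/-- Part of a table. -/
def rootPathsE8_6 : List (List (Fin chevE8.rank)) := [
  ([7, 6, 5, 4, 3, 1, 2, 0, 3, 2, 4, 3, 1, 5, 4, 3, 2, 0, 6, 5, 4, 3, 1, 2, 3, 4, 5,
    6] : List ℕ).map nodeE8,
  ([7, 6, 5, 4, 3, 1, 2, 0, 3, 2, 4, 3, 1, 5, 4, 3, 2, 0, 6, 5, 4, 3, 1, 2, 3, 4, 5,
    7] : List ℕ).map nodeE8,
  ([7, 6, 5, 4, 3, 1, 2, 0, 3, 2, 4, 3, 1, 5, 4, 3, 2, 0, 6, 5, 4, 3, 1, 2, 3, 4,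
    5] : List ℕ).map nodeE8,
  ([7, 6, 5, 4, 3, 1, 2, 0, 3, 2, 4, 3, 1, 5, 4, 3, 2, 0, 6, 5, 4, 3, 1, 2, 3, 4, 7,
    6] : List ℕ).map nodeE8,
  ([7, 6, 5, 4, 3, 1, 2, 0, 3, 2, 4, 3, 1, 5, 4, 3, 2, 0, 6, 5, 4, 3, 1, 2, 3, 4,
    7] : List ℕ).map nodeE8,
  ([7, 6, 5, 4, 3, 1, 2, 0, 3, 2, 4, 3, 1, 5, 4, 3, 2, 0, 6, 5, 4, 3, 1, 2, 3,
    4] : List ℕ).map nodeE8,
  ([7, 6, 5, 4, 3, 1, 2, 0, 3, 2, 4, 3, 1, 5, 4, 3, 2, 0, 6, 5, 4, 3, 1, 2, 3, 7, 6,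
    5] : List ℕ).map nodeE8,
  ([7, 6, 5, 4, 3, 1, 2, 0, 3, 2, 4, 3, 1, 5, 4, 3, 2, 0, 6, 5, 4, 3, 1, 2, 3, 7,
    6] : List ℕ).map nodeE8,
  ([7, 6, 5, 4, 3, 1, 2, 0, 3, 2, 4, 3, 1, 5, 4, 3, 2, 0, 6, 5, 4, 3, 1, 2, 3,
    7] : List ℕ).map nodeE8,
  ([7, 6, 5, 4, 3, 1, 2, 0, 3, 2, 4, 3, 1, 5, 4, 3, 2, 0, 6, 5, 4, 3, 1, 2,
    3] : List ℕ).map nodeE8,
  ([7, 6, 5, 4, 3, 1, 2, 0, 3, 2, 4, 3, 1, 5, 4, 3, 2, 0, 6, 5, 4, 3, 1, 2, 7, 6, 5,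
    4] : List ℕ).map nodeE8,
  ([7, 6, 5, 4, 3, 1, 2, 0, 3, 2, 4, 3, 1, 5, 4, 3, 2, 0, 6, 5, 4, 3, 1, 2, 7, 6,
    5] : List ℕ).map nodeE8,
  ([7, 6, 5, 4, 3, 1, 2, 0, 3, 2, 4, 3, 1, 5, 4, 3, 2, 0, 6, 5, 4, 3, 1, 2, 7,
    6] : List ℕ).map nodeE8,
  ([7, 6, 5, 4, 3, 1, 2, 0, 3, 2, 4, 3, 1, 5, 4, 3, 2, 0, 6, 5, 4, 3, 1, 2,
    7] : List ℕ).map nodeE8,
  ([7, 6, 5, 4, 3, 1, 2, 0, 3, 2, 4, 3, 1, 5, 4, 3, 2, 0, 6, 5, 4, 3, 1, 2] : List ℕ).map nodeE8,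
  ([7, 6, 5, 4, 3, 1, 2, 0, 3, 2, 4, 3, 1, 5, 4, 3, 2, 0, 6, 5, 4, 3, 1, 7, 6, 5, 4,
    3] : List ℕ).map nodeE8,
  ([7, 6, 5, 4, 3, 1, 2, 0, 3, 2, 4, 3, 1, 5, 4, 3, 2, 0, 6, 5, 4, 3, 1, 7, 6, 5,
    4] : List ℕ).map nodeE8,
  ([7, 6, 5, 4, 3, 1, 2, 0, 3, 2, 4, 3, 1, 5, 4, 3, 2, 0, 6, 5, 4, 3, 1, 7, 6,
    5] : List ℕ).map nodeE8,
  ([7, 6, 5, 4, 3, 1, 2, 0, 3, 2, 4, 3, 1, 5, 4, 3, 2, 0, 6, 5, 4, 3, 1, 7,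
    6] : List ℕ).map nodeE8,
  ([7, 6, 5, 4, 3, 1, 2, 0, 3, 2, 4, 3, 1, 5, 4, 3, 2, 0, 6, 5, 4, 3, 1, 7] : List ℕ).map nodeE8]

/-- Part of a table. -/
def rootPathsE8_7 : List (List (Fin chevE8.rank)) := [
  ([7, 6, 5, 4, 3, 1, 2, 0, 3, 2, 4, 3, 1, 5, 4, 3, 2, 0, 6, 5, 4, 3, 1] : List ℕ).map nodeE8,
  ([7, 6, 5, 4, 3, 1, 2, 0, 3, 2, 4, 3, 1, 5, 4, 3, 2, 0, 6, 5, 4, 3, 2, 7, 6, 5, 4,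
    3] : List ℕ).map nodeE8,
  ([7, 6, 5, 4, 3, 1, 2, 0, 3, 2, 4, 3, 1, 5, 4, 3, 2, 0, 6, 5, 4, 3, 2, 7, 6, 5,
    4] : List ℕ).map nodeE8,
  ([7, 6, 5, 4, 3, 1, 2, 0, 3, 2, 4, 3, 1, 5, 4, 3, 2, 0, 6, 5, 4, 3, 2, 7, 6,
    5] : List ℕ).map nodeE8,
  ([7, 6, 5, 4, 3, 1, 2, 0, 3, 2, 4, 3, 1, 5, 4, 3, 2, 0, 6, 5, 4, 3, 2, 7,
    6] : List ℕ).map nodeE8,
  ([7, 6, 5, 4, 3, 1, 2, 0, 3, 2, 4, 3, 1, 5, 4, 3, 2, 0, 6, 5, 4, 3, 2, 7] : List ℕ).map nodeE8,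
  ([7, 6, 5, 4, 3, 1, 2, 0, 3, 2, 4, 3, 1, 5, 4, 3, 2, 0, 6, 5, 4, 3, 2] : List ℕ).map nodeE8,
  ([7, 6, 5, 4, 3, 1, 2, 0, 3, 2, 4, 3, 1, 5, 4, 3, 2, 0, 6, 5, 4, 3, 7, 6, 5,
    4] : List ℕ).map nodeE8,
  ([7, 6, 5, 4, 3, 1, 2, 0, 3, 2, 4, 3, 1, 5, 4, 3, 2, 0, 6, 5, 4, 3, 7, 6,
    5] : List ℕ).map nodeE8,
  ([7, 6, 5, 4, 3, 1, 2, 0, 3, 2, 4, 3, 1, 5, 4, 3, 2, 0, 6, 5, 4, 3, 7, 6] : List ℕ).map nodeE8,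
  ([7, 6, 5, 4, 3, 1, 2, 0, 3, 2, 4, 3, 1, 5, 4, 3, 2, 0, 6, 5, 4, 3, 7] : List ℕ).map nodeE8,
  ([7, 6, 5, 4, 3, 1, 2, 0, 3, 2, 4, 3, 1, 5, 4, 3, 2, 0, 6, 5, 4, 3] : List ℕ).map nodeE8,
  ([7, 6, 5, 4, 3, 1, 2, 0, 3, 2, 4, 3, 1, 5, 4, 3, 2, 0, 6, 5, 4, 7, 6, 5] : List ℕ).map nodeE8,
  ([7, 6, 5, 4, 3, 1, 2, 0, 3, 2, 4, 3, 1, 5, 4, 3, 2, 0, 6, 5, 4, 7, 6] : List ℕ).map nodeE8,
  ([7, 6, 5, 4, 3, 1, 2, 0, 3, 2, 4, 3, 1, 5, 4, 3, 2, 0, 6, 5, 4, 7] : List ℕ).map nodeE8,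
  ([7, 6, 5, 4, 3, 1, 2, 0, 3, 2, 4, 3, 1, 5, 4, 3, 2, 0, 6, 5, 4] : List ℕ).map nodeE8,
  ([7, 6, 5, 4, 3, 1, 2, 0, 3, 2, 4, 3, 1, 5, 4, 3, 2, 0, 6, 5, 7, 6] : List ℕ).map nodeE8,
  ([7, 6, 5, 4, 3, 1, 2, 0, 3, 2, 4, 3, 1, 5, 4, 3, 2, 0, 6, 5, 7] : List ℕ).map nodeE8,
  ([7, 6, 5, 4, 3, 1, 2, 0, 3, 2, 4, 3, 1, 5, 4, 3, 2, 0, 6, 5] : List ℕ).map nodeE8,
  ([7, 6, 5, 4, 3, 1, 2, 0, 3, 2, 4, 3, 1, 5, 4, 3, 2, 0, 6, 7] : List ℕ).map nodeE8]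

/-- Part of a table. -/
def rootPathsE8_8 : List (List (Fin chevE8.rank)) := [
  ([7, 6, 5, 4, 3, 1, 2, 0, 3, 2, 4, 3, 1, 5, 4, 3, 2, 0, 6] : List ℕ).map nodeE8,
  ([7, 6, 5, 4, 3, 1, 2, 0, 3, 2, 4, 3, 1, 5, 4, 3, 2, 0] : List ℕ).map nodeE8,
  ([7, 6, 5, 4, 3, 1, 2, 0, 3, 2, 4, 3, 1, 5, 4, 3, 2, 6, 5, 4, 3, 1, 7, 6, 5, 4, 3,
    2] : List ℕ).map nodeE8,
  ([7, 6, 5, 4, 3, 1, 2, 0, 3, 2, 4, 3, 1, 5, 4, 3, 2, 6, 5, 4, 3, 1, 7, 6, 5, 4,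
    3] : List ℕ).map nodeE8,
  ([7, 6, 5, 4, 3, 1, 2, 0, 3, 2, 4, 3, 1, 5, 4, 3, 2, 6, 5, 4, 3, 1, 7, 6, 5,
    4] : List ℕ).map nodeE8,
  ([7, 6, 5, 4, 3, 1, 2, 0, 3, 2, 4, 3, 1, 5, 4, 3, 2, 6, 5, 4, 3, 1, 7, 6,
    5] : List ℕ).map nodeE8,
  ([7, 6, 5, 4, 3, 1, 2, 0, 3, 2, 4, 3, 1, 5, 4, 3, 2, 6, 5, 4, 3, 1, 7, 6] : List ℕ).map nodeE8,
  ([7, 6, 5, 4, 3, 1, 2, 0, 3, 2, 4, 3, 1, 5, 4, 3, 2, 6, 5, 4, 3, 1, 7] : List ℕ).map nodeE8,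
  ([7, 6, 5, 4, 3, 1, 2, 0, 3, 2, 4, 3, 1, 5, 4, 3, 2, 6, 5, 4, 3, 1] : List ℕ).map nodeE8,
  ([7, 6, 5, 4, 3, 1, 2, 0, 3, 2, 4, 3, 1, 5, 4, 3, 2, 6, 5, 4, 3, 7, 6, 5,
    4] : List ℕ).map nodeE8,
  ([7, 6, 5, 4, 3, 1, 2, 0, 3, 2, 4, 3, 1, 5, 4, 3, 2, 6, 5, 4, 3, 7, 6, 5] : List ℕ).map nodeE8,
  ([7, 6, 5, 4, 3, 1, 2, 0, 3, 2, 4, 3, 1, 5, 4, 3, 2, 6, 5, 4, 3, 7, 6] : List ℕ).map nodeE8,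
  ([7, 6, 5, 4, 3, 1, 2, 0, 3, 2, 4, 3, 1, 5, 4, 3, 2, 6, 5, 4, 3, 7] : List ℕ).map nodeE8,
  ([7, 6, 5, 4, 3, 1, 2, 0, 3, 2, 4, 3, 1, 5, 4, 3, 2, 6, 5, 4, 3] : List ℕ).map nodeE8,
  ([7, 6, 5, 4, 3, 1, 2, 0, 3, 2, 4, 3, 1, 5, 4, 3, 2, 6, 5, 4, 7, 6, 5] : List ℕ).map nodeE8,
  ([7, 6, 5, 4, 3, 1, 2, 0, 3, 2, 4, 3, 1, 5, 4, 3, 2, 6, 5, 4, 7, 6] : List ℕ).map nodeE8,
  ([7, 6, 5, 4, 3, 1, 2, 0, 3, 2, 4, 3, 1, 5, 4, 3, 2, 6, 5, 4, 7] : List ℕ).map nodeE8,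
  ([7, 6, 5, 4, 3, 1, 2, 0, 3, 2, 4, 3, 1, 5, 4, 3, 2, 6, 5, 4] : List ℕ).map nodeE8,
  ([7, 6, 5, 4, 3, 1, 2, 0, 3, 2, 4, 3, 1, 5, 4, 3, 2, 6, 5, 7, 6] : List ℕ).map nodeE8,
  ([7, 6, 5, 4, 3, 1, 2, 0, 3, 2, 4, 3, 1, 5, 4, 3, 2, 6, 5, 7] : List ℕ).map nodeE8]

/-- Part of a table. -/
def rootPathsE8_9 : List (List (Fin chevE8.rank)) := [
  ([7, 6, 5, 4, 3, 1, 2, 0, 3, 2, 4, 3, 1, 5, 4, 3, 2, 6, 5] : List ℕ).map nodeE8,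
  ([7, 6, 5, 4, 3, 1, 2, 0, 3, 2, 4, 3, 1, 5, 4, 3, 2, 6, 7] : List ℕ).map nodeE8,
  ([7, 6, 5, 4, 3, 1, 2, 0, 3, 2, 4, 3, 1, 5, 4, 3, 2, 6] : List ℕ).map nodeE8,
  ([7, 6, 5, 4, 3, 1, 2, 0, 3, 2, 4, 3, 1, 5, 4, 3, 2] : List ℕ).map nodeE8,
  ([7, 6, 5, 4, 3, 1, 2, 0, 3, 2, 4, 3, 1, 5, 4, 3, 6, 5, 4, 7, 6, 5] : List ℕ).map nodeE8,
  ([7, 6, 5, 4, 3, 1, 2, 0, 3, 2, 4, 3, 1, 5, 4, 3, 6, 5, 4, 7, 6] : List ℕ).map nodeE8,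
  ([7, 6, 5, 4, 3, 1, 2, 0, 3, 2, 4, 3, 1, 5, 4, 3, 6, 5, 4, 7] : List ℕ).map nodeE8,
  ([7, 6, 5, 4, 3, 1, 2, 0, 3, 2, 4, 3, 1, 5, 4, 3, 6, 5, 4] : List ℕ).map nodeE8,
  ([7, 6, 5, 4, 3, 1, 2, 0, 3, 2, 4, 3, 1, 5, 4, 3, 6, 5, 7, 6] : List ℕ).map nodeE8,
  ([7, 6, 5, 4, 3, 1, 2, 0, 3, 2, 4, 3, 1, 5, 4, 3, 6, 5, 7] : List ℕ).map nodeE8,
  ([7, 6, 5, 4, 3, 1, 2, 0, 3, 2, 4, 3, 1, 5, 4, 3, 6, 5] : List ℕ).map nodeE8,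
  ([7, 6, 5, 4, 3, 1, 2, 0, 3, 2, 4, 3, 1, 5, 4, 3, 6, 7] : List ℕ).map nodeE8,
  ([7, 6, 5, 4, 3, 1, 2, 0, 3, 2, 4, 3, 1, 5, 4, 3, 6] : List ℕ).map nodeE8,
  ([7, 6, 5, 4, 3, 1, 2, 0, 3, 2, 4, 3, 1, 5, 4, 3] : List ℕ).map nodeE8,
  ([7, 6, 5, 4, 3, 1, 2, 0, 3, 2, 4, 3, 1, 5, 4, 6, 5, 7, 6] : List ℕ).map nodeE8,
  ([7, 6, 5, 4, 3, 1, 2, 0, 3, 2, 4, 3, 1, 5, 4, 6, 5, 7] : List ℕ).map nodeE8,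
  ([7, 6, 5, 4, 3, 1, 2, 0, 3, 2, 4, 3, 1, 5, 4, 6, 5] : List ℕ).map nodeE8,
  ([7, 6, 5, 4, 3, 1, 2, 0, 3, 2, 4, 3, 1, 5, 4, 6, 7] : List ℕ).map nodeE8,
  ([7, 6, 5, 4, 3, 1, 2, 0, 3, 2, 4, 3, 1, 5, 4, 6] : List ℕ).map nodeE8,
  ([7, 6, 5, 4, 3, 1, 2, 0, 3, 2, 4, 3, 1, 5, 4] : List ℕ).map nodeE8]

/-- Part of a table. -/
def rootPathsE8_10 : List (List (Fin chevE8.rank)) := [
  ([7, 6, 5, 4, 3, 1, 2, 0, 3, 2, 4, 3, 1, 5, 6, 7] : List ℕ).map nodeE8,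
  ([7, 6, 5, 4, 3, 1, 2, 0, 3, 2, 4, 3, 1, 5, 6] : List ℕ).map nodeE8,
  ([7, 6, 5, 4, 3, 1, 2, 0, 3, 2, 4, 3, 1, 5] : List ℕ).map nodeE8,
  ([7, 6, 5, 4, 3, 1, 2, 0, 3, 2, 4, 3, 1] : List ℕ).map nodeE8,
  ([7, 6, 5, 4, 3, 1, 2, 0, 3, 2, 4, 3, 5, 4, 6, 5, 7, 6] : List ℕ).map nodeE8,
  ([7, 6, 5, 4, 3, 1, 2, 0, 3, 2, 4, 3, 5, 4, 6, 5, 7] : List ℕ).map nodeE8,
  ([7, 6, 5, 4, 3, 1, 2, 0, 3, 2, 4, 3, 5, 4, 6, 5] : List ℕ).map nodeE8,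
  ([7, 6, 5, 4, 3, 1, 2, 0, 3, 2, 4, 3, 5, 4, 6, 7] : List ℕ).map nodeE8,
  ([7, 6, 5, 4, 3, 1, 2, 0, 3, 2, 4, 3, 5, 4, 6] : List ℕ).map nodeE8,
  ([7, 6, 5, 4, 3, 1, 2, 0, 3, 2, 4, 3, 5, 4] : List ℕ).map nodeE8,
  ([7, 6, 5, 4, 3, 1, 2, 0, 3, 2, 4, 3, 5, 6, 7] : List ℕ).map nodeE8,
  ([7, 6, 5, 4, 3, 1, 2, 0, 3, 2, 4, 3, 5, 6] : List ℕ).map nodeE8,
  ([7, 6, 5, 4, 3, 1, 2, 0, 3, 2, 4, 3, 5] : List ℕ).map nodeE8,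
  ([7, 6, 5, 4, 3, 1, 2, 0, 3, 2, 4, 3] : List ℕ).map nodeE8,
  ([7, 6, 5, 4, 3, 1, 2, 0, 3, 2, 4, 5, 6, 7] : List ℕ).map nodeE8,
  ([7, 6, 5, 4, 3, 1, 2, 0, 3, 2, 4, 5, 6] : List ℕ).map nodeE8,
  ([7, 6, 5, 4, 3, 1, 2, 0, 3, 2, 4, 5] : List ℕ).map nodeE8,
  ([7, 6, 5, 4, 3, 1, 2, 0, 3, 2, 4] : List ℕ).map nodeE8,
  ([7, 6, 5, 4, 3, 1, 2, 0, 3, 2] : List ℕ).map nodeE8,
  ([7, 6, 5, 4, 3, 1, 2, 0, 3, 4, 5, 6, 7] : List ℕ).map nodeE8]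

/-- Part of a table. -/
def rootPathsE8_11 : List (List (Fin chevE8.rank)) := [
  ([7, 6, 5, 4, 3, 1, 2, 0, 3, 4, 5, 6] : List ℕ).map nodeE8,
  ([7, 6, 5, 4, 3, 1, 2, 0, 3, 4, 5] : List ℕ).map nodeE8,
  ([7, 6, 5, 4, 3, 1, 2, 0, 3, 4] : List ℕ).map nodeE8,
  ([7, 6, 5, 4, 3, 1, 2, 0, 3] : List ℕ).map nodeE8,
  ([7, 6, 5, 4, 3, 1, 2, 0] : List ℕ).map nodeE8,
  ([7, 6, 5, 4, 3, 2, 0] : List ℕ).map nodeE8,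
  ([7, 6, 5, 4, 3, 1, 2, 3, 4, 5, 6, 7] : List ℕ).map nodeE8,
  ([7, 6, 5, 4, 3, 1, 2, 3, 4, 5, 6] : List ℕ).map nodeE8,
  ([7, 6, 5, 4, 3, 1, 2, 3, 4, 5] : List ℕ).map nodeE8,
  ([7, 6, 5, 4, 3, 1, 2, 3, 4] : List ℕ).map nodeE8,
  ([7, 6, 5, 4, 3, 1, 2, 3] : List ℕ).map nodeE8,
  ([7, 6, 5, 4, 3, 1, 2] : List ℕ).map nodeE8,
  ([7, 6, 5, 4, 3, 1] : List ℕ).map nodeE8,
  ([7, 6, 5, 4, 3, 2] : List ℕ).map nodeE8,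
  ([7, 6, 5, 4, 3] : List ℕ).map nodeE8,
  ([7, 6, 5, 4] : List ℕ).map nodeE8,
  ([7, 6, 5] : List ℕ).map nodeE8,
  ([7, 6] : List ℕ).map nodeE8,
  ([7] : List ℕ).map nodeE8,
  ([] : List ℕ).map nodeE8]

/-- The descent. -/
def hE8 : HData chevE8 where
  alpha := 239
  sc := nodeE8 7
  rootPaths := rootPathsE8_0 ++ rootPathsE8_1 ++ rootPathsE8_2 ++ rootPathsE8_3 ++ rootPathsE8_4 ++ rootPathsE8_5 ++ rootPathsE8_6 ++ rootPathsE8_7 ++ rootPathsE8_8 ++ rootPathsE8_9 ++ rootPathsE8_10 ++ rootPathsE8_11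
  lv0 := lvE8_0
  ptn := [238, 237, 236, 235, 234, 233, 232, 231, 230, 229, 228, 227, 225, 224, 223, 222, 221,
    220, 218, 217, 216, 215, 213, 212, 211, 209, 208, 206, 203, 202, 201, 199, 198, 196, 193, 192,
    190, 187, 183, 182, 180, 177, 173, 168, 161, 160, 158, 155, 151, 146, 140, 134, 129, 125, 122,
    120]
  lvA := polE8A
  lvB := polE8B
  next := lvE8_1
  rest := [lvE8_2, lvE8_3, lvE8_4, lvE8_5, lvE8_6, lvE8_7]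

/-- The descent for the field of two elements. -/
def hE8Two : HData chevE8 where
  alpha := 239
  sc := nodeE8 7
  rootPaths := rootPathsE8_0 ++ rootPathsE8_1 ++ rootPathsE8_2 ++ rootPathsE8_3 ++ rootPathsE8_4 ++ rootPathsE8_5 ++ rootPathsE8_6 ++ rootPathsE8_7 ++ rootPathsE8_8 ++ rootPathsE8_9 ++ rootPathsE8_10 ++ rootPathsE8_11
  lv0 := lvE8_0
  ptn := [238, 237, 236, 235, 234, 233, 232, 231, 230, 229, 228, 227, 225, 224, 223, 222, 221,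
    220, 218, 217, 216, 215, 213, 212, 211, 209, 208, 206, 203, 202, 201, 199, 198, 196, 193, 192,
    190, 187, 183, 182, 180, 177, 173, 168, 161, 160, 158, 155, 151, 146, 140, 134, 129, 125, 122,
    120]
  lvA := polE8A
  lvB := polE8B
  next := lvE8_1
  rest := [lvE8_2, lvE8_3]

/-- The certificate of the minimal degree. -/
def degE8 : DegCert chevE8 where
  H := hE8
  H2 := hE8Two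
  par := [0, 1, 2, 3, 4, 5, 6]
  stepsU := [(nodeE8 7, 58), (nodeE8 6, 28), (nodeE8 5, 17), (nodeE8 0, 9), (nodeE8 4, 7),
    (nodeE8 2, 4), (nodeE8 3, 3), (nodeE8 1, 2)]
  stepsJ := [(nodeE8 6, 28), (nodeE8 5, 17), (nodeE8 0, 9), (nodeE8 4, 7), (nodeE8 2, 4),
    (nodeE8 3, 3), (nodeE8 1, 2)]
  Mp := [-1, 0, 0, 0, 0, 0, -1, 0, 0, 0, -1, 0, -1, 0, 0, 0, -1, 0, -1, 0, 0, 0, -1, 0, 0, 0, 0,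
    0, -1, 0, 1, 0, 0, 0, 0, 0, 1, 0, 0, 0, 1, 0, 1, 0, 0, 0, 1, 0, 1, 0, 0, 0, 1, 0, 0, 0, 0, 0,
    1]
  Ttail := [1, 0, 0, 0, 0, 0, 1, 0, 0, 0, 1, 0, 1, 0, 0, 0, 1, 0, 1, 0, 0, 0, 1, 0, 0, 0, 0, 0, 1]
  J2 := 34
  th := 1008
  rem := [
  ⟨[1, 0, 0, 0, 0, 0, 0, 0, 0, 0, 0, 0, 0, 0, 0, 0, 0, 0, 0, 0, 0, 0, 0, 0, 0, 0, 0, 0, 0, 1],
    [0, -1, 0, 0, 0, 0, -1, -1, 0, 0, -1, -1, -1, -1, 0, 0, -1, -1, -1, -1, 0, 0, -1, -1, 0, 0, 0, 0], -1⟩,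
  ⟨[4, 0, 0, 0, 0, 0, 0, 0, 0, 0, 0, 0, 0, 0, 0, 0, 0, 0, 0, 0, 0, 0, 0, 0, 0, 0, 0, 0, 0, 2],
    [6, -4, 0, 0, 0, 0, -2, -4, 0, 0, -2, -4, -2, -4, 0, 0, -2, -4, -2, -4, 0, 0, -2, -4, 0, 0, 0, 0], -2⟩,
  ⟨[9, 0, 0, 0, 0, 0, 0, 0, 0, 0, 0, 0, 0, 0, 0, 0, 0, 0, 0, 0, 0, 0, 0, 0, 0, 0, 0, 0, 0, 3],
    [24, -9, 0, 0, 0, 0, -3, -9, 0, 0, -3, -9, -3, -9, 0, 0, -3, -9, -3, -9, 0, 0, -3, -9, 0, 0, 0, 0], -3⟩,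
  ⟨[16, 0, 0, 0, 0, 0, 0, 0, 0, 0, 0, 0, 0, 0, 0, 0, 0, 0, 0, 0, 0, 0, 0, 0, 0, 0, 0, 0, 0, 4],
    [60, -16, 0, 0, 0, 0, -4, -16, 0, 0, -4, -16, -4, -16, 0, 0, -4, -16, -4, -16, 0, 0, -4, -16, 0,
    0, 0, 0], -4⟩,
  ⟨[25, 0, 0, 0, 0, 0, 0, 0, 0, 0, 0, 0, 0, 0, 0, 0, 0, 0, 0, 0, 0, 0, 0, 0, 0, 0, 0, 0, 0, 5],
    [120, -25, 0, 0, 0, 0, -5, -25, 0, 0, -5, -25, -5, -25, 0, 0, -5, -25, -5, -25, 0, 0, -5, -25, 0,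
    0, 0, 0], -5⟩,
  ⟨[36, 0, 0, 0, 0, 0, 0, 0, 0, 0, 0, 0, 0, 0, 0, 0, 0, 0, 0, 0, 0, 0, 0, 0, 0, 0, 0, 0, 0, 6],
    [210, -36, 0, 0, 0, 0, -6, -36, 0, 0, -6, -36, -6, -36, 0, 0, -6, -36, -6, -36, 0, 0, -6, -36, 0,
    0, 0, 0], -6⟩,
  ⟨[49, 0, 0, 0, 0, 0, 0, 0, 0, 0, 0, 0, 0, 0, 0, 0, 0, 0, 0, 0, 0, 0, 0, 0, 0, 0, 0, 0, 0, 7],
    [336, -49, 0, 0, 0, 0, -7, -49, 0, 0, -7, -49, -7, -49, 0, 0, -7, -49, -7, -49, 0, 0, -7, -49, 0,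
    0, 0, 0], -7⟩,
  ⟨[64, 0, 0, 0, 0, 0, 0, 0, 0, 0, 0, 0, 0, 0, 0, 0, 0, 0, 0, 0, 0, 0, 0, 0, 0, 0, 0, 0, 0, 8],
    [504, -64, 0, 0, 0, 0, -8, -64, 0, 0, -8, -64, -8, -64, 0, 0, -8, -64, -8, -64, 0, 0, -8, -64, 0,
    0, 0, 0], -8⟩]

end CfsgLib.MinDegE
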