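import Cfsg.Agent.Lib.OrthDeg.Avg

set_option autoImplicit false
set_option linter.unusedSectionVars false

/-!
Families of root subgroups which commute on the image of an idempotent, and their eigen projections.
-/

namespace CfsgLib.MinDegE

open Matrix CfsgLib.KnownSimple.ModulePerm

variable {G V : Type*} [Group G] [AddCommGroup V] [Module ℂ V]
variable {F : Type*} [Field F] [Fintype F] [DecidableEq F] {κ : Type*} [Fintype κ] [DecidableEq κ]

/-- One-parameter subgroups commuting on the image of the idempotent `E`. -/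
structure Fam (ρ : Representation ℂ G V) (κ F : Type*) [Field F] where
  E : Module.End ℂ V
  x : κ → F → G
  idem : E * E = E
  comm : ∀ i t, Commute (ρ (x i t)) E
  add : ∀ i t u, x i (t + u) = x i t * x i u
  comm2 : ∀ i j t u, ρ (x i t) * ρ (x j u) * E = ρ (x j u) * ρ (x i t) * E

namespace Fam

variable {ρ : Representation ℂ G V} (Φ : Fam ρ κ F)

theorem x_zero (i : κ) : Φ.x i 0 = 1 :=
  mul_eq_left.mp (show Φ.x i 0 * Φ.x i 0 = Φ.x i 0 by rw [← Φ.add, add_zero])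

/-- The operator of `x i t` on the image of `E`, the identity on the kernel. -/
noncomputable def loc (i : κ) (t : F) : Module.End ℂ V := ρ (Φ.x i t) * Φ.E + (1 - Φ.E)

theorem loc_mul (i j : κ) (t u : F) :
    Φ.loc i t * Φ.loc j u = ρ (Φ.x i t) * ρ (Φ.x j u) * Φ.E + (1 - Φ.E) := by
  have hE := Φ.idem
  have hj : Φ.E * ρ (Φ.x j u) = ρ (Φ.x j u) * Φ.E := (Φ.comm j u).eq.symm
  have h1 : ρ (Φ.x i t) * Φ.E * (ρ (Φ.x j u) * Φ.E) = ρ (Φ.x i t) * ρ (Φ.x j u) * Φ.E := by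
    rw [mul_assoc, ← mul_assoc Φ.E, hj, mul_assoc (ρ (Φ.x j u)), hE, ← mul_assoc]
  have h2 : ρ (Φ.x i t) * Φ.E * (1 - Φ.E) = 0 := by
    rw [mul_assoc, mul_sub, mul_one, hE, sub_self, mul_zero]
  have h3 : (1 - Φ.E) * (ρ (Φ.x j u) * Φ.E) = 0 := by
    rw [sub_mul, one_mul, ← mul_assoc, hj, mul_assoc, hE, sub_self]
  have h4 : (1 - Φ.E) * (1 - Φ.E) = 1 - Φ.E := by
    rw [sub_mul, one_mul, mul_sub, mul_one, hE, sub_self, sub_zero]
  rw [loc, loc, add_mul, mul_add, mul_add, h1, h2, h3, h4]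
  abel

/-- `loc` as a homomorphism. -/
noncomputable def locHom (i : κ) : Multiplicative F →* Module.End ℂ V where
  toFun t := Φ.loc i t.toAdd
  map_one' := by
    show Φ.loc i 0 = 1
    rw [loc, Φ.x_zero, map_one, one_mul, add_sub_cancel]
  map_mul' t u := by
    show Φ.loc i (t.toAdd + u.toAdd) = _
    rw [Φ.loc_mul, ← map_mul, ← Φ.add, loc]

theorem pairwise_loc : Pairwise fun i j : κ => ∀ (t : Multiplicative F) (u : Multiplicative F),
    Commute (Φ.locHom i t) (Φ.locHom j u) := fun i j _ t u => by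
  show Φ.loc i _ * Φ.loc j _ = Φ.loc j _ * Φ.loc i _
  rw [Φ.loc_mul, Φ.loc_mul, Φ.comm2]

/-- The product of the family on the image of `E`. -/
noncomputable def tau (w : κ → F) : Module.End ℂ V :=
  Φ.E * MonoidHom.noncommPiCoprod Φ.locHom Φ.pairwise_loc (fun i => Multiplicative.ofAdd (w i))

omit [Fintype F] [DecidableEq F] in
theorem pi_induction {P : (κ → F) → Prop} (h0 : P 0) (hadd : ∀ v w, P v → P w → P (v + w))
    (h1 : ∀ i t, P (Pi.single i t)) (w : κ → F) : P w := by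
  rw [← Finset.univ_sum_single w]
  exact Finset.sum_induction _ P hadd h0 fun i _ => h1 i _

/-- The unprojected product. -/
noncomputable def prd (w : κ → F) : Module.End ℂ V :=
  MonoidHom.noncommPiCoprod Φ.locHom Φ.pairwise_loc (fun i => Multiplicative.ofAdd (w i))

theorem prd_add (v w : κ → F) : Φ.prd (v + w) = Φ.prd v * Φ.prd w := by
  rw [prd, prd, prd, ← map_mul]; rfl

theorem prd_zero : Φ.prd 0 = 1 := by
  rw [prd]; exact map_one _

theorem prd_single (i : κ) (t : F) : Φ.prd (Pi.single i t) = Φ.loc i t := by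
  have h : (fun j => Multiplicative.ofAdd ((Pi.single i t : κ → F) j)) =
      (Pi.mulSingle i (Multiplicative.ofAdd t) : κ → Multiplicative F) := by
    funext j
    rcases eq_or_ne j i with rfl | hj
    · simp
    · simp [hj]
  rw [prd, h, MonoidHom.noncommPiCoprod_mulSingle]
  rfl

theorem commute_E_prd (w : κ → F) : Commute Φ.E (Φ.prd w) := by
  induction w using pi_induction with
  | h0 => rw [Φ.prd_zero]; exact Commute.one_right _
  | hadd v w hv hw => rw [Φ.prd_add]; exact hv.mul_right hw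
  | h1 i t =>
    rw [Φ.prd_single, loc]
    exact ((Φ.comm i t).symm.mul_right (Commute.refl _)).add_right
      ((Commute.one_right _).sub_right (Commute.refl _))

theorem tau_add (v w : κ → F) : Φ.tau v * Φ.tau w = Φ.tau (v + w) := by
  show Φ.E * Φ.prd v * (Φ.E * Φ.prd w) = Φ.E * Φ.prd (v + w)
  rw [mul_assoc, ← mul_assoc (Φ.prd v), ← (Φ.commute_E_prd v).eq, mul_assoc Φ.E (Φ.prd v),
    ← mul_assoc Φ.E, Φ.idem, Φ.prd_add]

theorem tau_zero : Φ.tau 0 = Φ.E := by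
  show Φ.E * Φ.prd 0 = Φ.E
  rw [Φ.prd_zero, mul_one]

theorem E_mul_tau (w : κ → F) : Φ.E * Φ.tau w = Φ.tau w := by
  show Φ.E * (Φ.E * Φ.prd w) = _
  rw [← mul_assoc, Φ.idem]; rfl

theorem tau_mul_E (w : κ → F) : Φ.tau w * Φ.E = Φ.tau w := by
  show Φ.E * Φ.prd w * Φ.E = Φ.E * Φ.prd w
  rw [mul_assoc, ← (Φ.commute_E_prd w).eq, ← mul_assoc, Φ.idem]

theorem tau_single (i : κ) (t : F) : Φ.tau (Pi.single i t) = ρ (Φ.x i t) * Φ.E := by
  show Φ.E * Φ.prd (Pi.single i t) = _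
  rw [Φ.prd_single, loc, mul_add, mul_sub, mul_one, Φ.idem, sub_self, add_zero, ← mul_assoc,
    ← (Φ.comm i t).eq, mul_assoc, Φ.idem]

/-- An operator commuting with `E` intertwines the family as soon as it does so on each member. -/
theorem intertwine {g : Module.End ℂ V} (η : κ → F) (A : (κ → F) →+ (κ → F)) (hgE : Commute g Φ.E)
    (h : ∀ i t, g * (ρ (Φ.x i t) * Φ.E) = chi F (η i * t) • (Φ.tau (A (Pi.single i t)) * g))
    (w : κ → F) : g * Φ.tau w = chi F (η ⬝ᵥ w) • (Φ.tau (A w) * g) := by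
  induction w using pi_induction with
  | h0 => rw [map_zero, Φ.tau_zero, dotProduct_zero, AddChar.map_zero_eq_one, one_smul, hgE.eq]
  | hadd v w hv hw =>
    rw [← Φ.tau_add, ← mul_assoc, hv, map_add, ← Φ.tau_add, dotProduct_add, AddChar.map_add_eq_mul,
      smul_mul_assoc, mul_assoc (Φ.tau (A v)), hw, mul_smul_comm, smul_smul, mul_assoc]
  | h1 i t => rw [Φ.tau_single, dotProduct_single, h i t]

/-! ### Projections -/

/-- The projection on the eigenspace of `ψ` inside the image of `E`. -/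
noncomputable def pr (ψ : κ → F) : Module.End ℂ V :=
  ((Fintype.card F : ℂ) ^ Fintype.card κ)⁻¹ • ∑ w, chi F (-(ψ ⬝ᵥ w)) • Φ.tau w

theorem tau_mul_pr (v ψ : κ → F) : Φ.tau v * Φ.pr ψ = chi F (ψ ⬝ᵥ v) • Φ.pr ψ := by
  simp only [pr, Finset.mul_sum, mul_smul_comm, Finset.smul_sum, smul_smul]
  refine Fintype.sum_equiv (Equiv.addLeft v) _ _ fun w => ?_
  rw [Φ.tau_add, Equiv.coe_addLeft]
  congr 1
  rw [mul_left_comm, ← AddChar.map_add_eq_mul, dotProduct_add]
  ring_nf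

theorem E_mul_pr (ψ : κ → F) : Φ.E * Φ.pr ψ = Φ.pr ψ := by
  simp only [pr, mul_smul_comm, Finset.mul_sum, Φ.E_mul_tau]

theorem pr_mul_E (ψ : κ → F) : Φ.pr ψ * Φ.E = Φ.pr ψ := by
  simp only [pr, smul_mul_assoc, Finset.sum_mul, Φ.tau_mul_E]

theorem pr_mul_pr (ψ φ : κ → F) : Φ.pr ψ * Φ.pr φ = if ψ = φ then Φ.pr ψ else 0 := by
  conv_lhs => arg 1; rw [pr]
  rw [smul_mul_assoc, Finset.sum_mul]
  simp only [smul_mul_assoc, Φ.tau_mul_pr, smul_smul, ← Finset.sum_smul, ← AddChar.map_add_eq_mul]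
  have : ∀ w : κ → F, -(ψ ⬝ᵥ w) + φ ⬝ᵥ w = (φ - ψ) ⬝ᵥ w := fun w => by rw [sub_dotProduct]; ring
  simp only [this, SLMinDeg.sum_chi, sub_eq_zero, eq_comm (a := φ)]
  split_ifs with h
  · rw [h, inv_mul_cancel₀ SLMinDeg.card_fun_ne_zero, one_smul]
  · simp

theorem sum_pr : ∑ ψ : κ → F, Φ.pr ψ = Φ.E := by
  simp only [pr, ← Finset.smul_sum]
  rw [Finset.sum_comm]
  simp only [← Finset.sum_smul, ← neg_dotProduct]
  rw [Finset.sum_eq_single (0 : κ → F)]
  · rw [show ∑ ψ : κ → F, chi F (-ψ ⬝ᵥ 0) = (Fintype.card F : ℂ) ^ Fintype.card κ by simp,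
      Φ.tau_zero, smul_smul, inv_mul_cancel₀ SLMinDeg.card_fun_ne_zero, one_smul]
  · intro w _ hw
    rw [Fintype.sum_equiv (Equiv.neg _) (fun ψ => chi F (-ψ ⬝ᵥ w)) (fun ψ => chi F (ψ ⬝ᵥ w))
      (fun ψ => rfl), SLMinDeg.sum_chi_left, if_neg hw, zero_smul]
  · simp

theorem rho_x_mul_pr (i : κ) (t : F) (ψ : κ → F) :
    ρ (Φ.x i t) * Φ.pr ψ = chi F (ψ i * t) • Φ.pr ψ := by
  conv_lhs => rw [← Φ.E_mul_pr ψ, ← mul_assoc, ← Φ.tau_single]
  rw [Φ.tau_mul_pr, dotProduct_single]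

/-- Transport of the projections by an intertwining operator. -/
theorem mul_pr {g : Module.End ℂ V} {η : κ → F} {A : (κ → F) →+ (κ → F)} (hA : Function.Injective A)
    (h : ∀ w, g * Φ.tau w = chi F (η ⬝ᵥ w) • (Φ.tau (A w) * g)) (ψ φ : κ → F)
    (hψ : ∀ w, φ ⬝ᵥ w = ψ ⬝ᵥ A w + η ⬝ᵥ w) : g * Φ.pr φ = Φ.pr ψ * g := by
  simp only [pr, mul_smul_comm, smul_mul_assoc, Finset.mul_sum, Finset.sum_mul]
  congr 1
  refine Fintype.sum_equiv (Equiv.ofBijective A (Finite.injective_iff_bijective.mp hA)) _ _ fun w => ?_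
  rw [Equiv.ofBijective_apply, h, smul_smul, ← AddChar.map_add_eq_mul, hψ]
  congr 2
  ring

variable [FiniteDimensional ℂ V]

/-- The dimension of the eigenspace of `ψ`. -/
noncomputable def dimPr (ψ : κ → F) : ℕ := Module.finrank ℂ (LinearMap.range (Φ.pr ψ))

theorem trace_pr (ψ : κ → F) : LinearMap.trace ℂ V (Φ.pr ψ) = (Φ.dimPr ψ : ℂ) :=
  SLMinDeg.trace_eq_finrank_range _ (by rw [Φ.pr_mul_pr, if_pos rfl])

theorem pr_eq_zero {ψ : κ → F} (h : Φ.dimPr ψ = 0) : Φ.pr ψ = 0 :=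
  LinearMap.range_eq_bot.mp (Submodule.finrank_eq_zero.mp h)

theorem trace_E : LinearMap.trace ℂ V Φ.E = ((∑ ψ, Φ.dimPr ψ : ℕ) : ℂ) := by
  rw [← Φ.sum_pr, map_sum, Nat.cast_sum]
  exact Finset.sum_congr rfl fun ψ _ => Φ.trace_pr ψ

theorem trace_x (i : κ) (t : F) :
    LinearMap.trace ℂ V (ρ (Φ.x i t) * Φ.E) = ∑ ψ, chi F (ψ i * t) * (Φ.dimPr ψ : ℂ) := by
  conv_lhs => rw [← Φ.sum_pr, Finset.mul_sum]
  rw [map_sum]
  refine Finset.sum_congr rfl fun ψ _ => ?_
  rw [Φ.rho_x_mul_pr, map_smul, Φ.trace_pr, smul_eq_mul]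

/-- The eigenspaces with a fixed nonzero value of one coordinate, from the traces of that coordinate. -/
theorem sum_dimPr_fiber {i : κ} {d : ℂ} (h : ∀ t : F, t ≠ 0 →
    LinearMap.trace ℂ V (ρ (Φ.x i t) * Φ.E) = LinearMap.trace ℂ V Φ.E - d) {s : F} (hs : s ≠ 0) :
    (Fintype.card F : ℂ) * ∑ ψ ∈ Finset.univ.filter (fun ψ : κ → F => ψ i = s), (Φ.dimPr ψ : ℂ) = d := by
  have hchi : ∀ a : F, ∑ t, chi F (a * t) = if a = 0 then (Fintype.card F : ℂ) else 0 := fun a => by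
    split_ifs with ha
    · simp [ha]
    · obtain ⟨x, hx⟩ := (exists_char F).choose_spec a ha
      have h0 : (chi F).compAddMonoidHom (AddMonoidHom.mulLeft a) ≠ 0 := fun h1 =>
        hx (by show chi F (a * x) = 1; simpa using DFunLike.congr_fun h1 x)
      simpa using AddChar.sum_eq_zero_iff_ne_zero.mpr h0
  have key : ∑ t, chi F (-s * t) * LinearMap.trace ℂ V (ρ (Φ.x i t) * Φ.E) =
      (Fintype.card F : ℂ) * ∑ ψ ∈ Finset.univ.filter (fun ψ : κ → F => ψ i = s), (Φ.dimPr ψ : ℂ) := by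
    simp only [Φ.trace_x, Finset.mul_sum]
    rw [Finset.sum_comm]
    simp only [← mul_assoc, ← AddChar.map_add_eq_mul, ← add_mul, ← Finset.sum_mul, hchi, neg_add_eq_zero]
    rw [Finset.sum_filter]
    refine Finset.sum_congr rfl fun ψ _ => ?_
    by_cases h1 : ψ i = s
    · rw [if_pos h1.symm, if_pos h1]
    · rw [if_neg (Ne.symm h1), if_neg h1, zero_mul]
  have h2 : ∑ t, chi F (-s * t) * LinearMap.trace ℂ V (ρ (Φ.x i t) * Φ.E) =
      ∑ t, (chi F (-s * t) * (LinearMap.trace ℂ V Φ.E - d) + if t = 0 then d else 0) := by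
    refine Finset.sum_congr rfl fun t _ => ?_
    split_ifs with ht
    · subst ht
      rw [Φ.x_zero, map_one, one_mul, mul_zero, AddChar.map_zero_eq_one]; ring
    · rw [h t ht, add_zero]
  rw [← key, h2, Finset.sum_add_distrib, ← Finset.sum_mul, hchi, if_neg (neg_ne_zero.mpr hs),
    Finset.sum_ite_eq' _ _ (fun _ => d), if_pos (Finset.mem_univ _)]
  simp

end Fam

end CfsgLib.MinDegE
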