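import Cfsg.Agent.Lib.MinDegE.Level

set_option autoImplicit false
set_option linter.unusedSectionVars false

/-!
Auxiliary facts on families: operators commuting with a family, translations of characters, the
one-parameter case and fixed points of a table.
-/

namespace CfsgLib.MinDegE

open Matrix CfsgLib.KnownSimple.ModulePerm

variable {G V : Type*} [Group G] [AddCommGroup V] [Module ℂ V]
variable {F : Type*} [Field F] [Fintype F] [DecidableEq F] {ρ : Representation ℂ G V}

namespace Fam

variable {κ : Type*} [Fintype κ] [DecidableEq κ] (Φ : Fam ρ κ F)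

theorem commute_pr_of_commute {g : G} (hE : Commute (ρ g) Φ.E) (hx : ∀ i t, Commute g (Φ.x i t))
    (ψ : κ → F) : Commute (ρ g) (Φ.pr ψ) :=
  Φ.commute_pr_scale (c := fun _ => 1) hE (fun i t => by rw [Units.val_one, one_mul, (hx i t).eq])
    fun i => by rw [Units.val_one, one_mul]

theorem idem_pr (ψ : κ → F) : Φ.pr ψ * Φ.pr ψ = Φ.pr ψ := by rw [Φ.pr_mul_pr, if_pos rfl]

theorem dimPr_scale [FiniteDimensional ℂ V] {h : G} {c : κ → Fˣ} (hE : Commute (ρ h) Φ.E)
    (hx : ∀ i t, h * Φ.x i t = Φ.x i ((c i : F) * t) * h) (ψ : κ → F) :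
    Φ.dimPr (fun i => (c i : F) * ψ i) = Φ.dimPr ψ := by
  have h1 := Φ.mul_pr_scale hE hx ψ
  have h2 : Φ.pr (fun i => (c i : F) * ψ i) = ρ h⁻¹ * (Φ.pr ψ * ρ h) := by
    rw [← h1, ← mul_assoc, ← map_mul ρ, inv_mul_cancel, map_one, one_mul]
  have h3 : LinearMap.trace ℂ V (Φ.pr (fun i => (c i : F) * ψ i)) = LinearMap.trace ℂ V (Φ.pr ψ) := by
    rw [h2, LinearMap.trace_mul_comm, mul_assoc, ← map_mul ρ, mul_inv_cancel, map_one, mul_one]
  rw [Φ.trace_pr, Φ.trace_pr] at h3
  exact_mod_cast h3

end Fam

/-- The fixed characters of the dual of a table with distinct targets. -/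
theorem Table.dual_eq_self_iff {κ : Type*} [Fintype κ] [DecidableEq κ] {a : Table κ}
    (hinj : ∀ i i' l e e', a i = some (l, e) → a i' = some (l, e') → i = i')
    (hunit : ∀ i l e, a i = some (l, e) → e = 1 ∨ e = -1) (w : κ → F) :
    a.dual 1 w = w ↔ ∀ i, a i ≠ none → w i = 0 := by
  rw [Table.dual_apply, add_eq_left]
  constructor
  · intro h i hi
    obtain ⟨⟨l, e⟩, he⟩ := Option.ne_none_iff_exists'.1 hi
    have h1 := congrFun h l
    rw [Finset.sum_apply, Finset.sum_eq_single i] at h1
    · rw [Table.col_some he, Pi.single_eq_same, mul_one, Pi.zero_apply] at h1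
      rcases hunit i l e he with rfl | rfl <;> simpa using h1
    · intro j _ hj
      rcases hj' : a j with _ | ⟨l', e'⟩
      · rw [Table.col_none hj']; rfl
      · rw [Table.col_some hj', Pi.single_eq_of_ne]
        rintro rfl
        exact hj (hinj j i _ _ _ hj' he)
    · simp
  · intro h
    refine Finset.sum_eq_zero fun i _ => ?_
    rcases he : a i with _ | ⟨l, e⟩
    · rw [Table.col_none he]
    · rw [Table.col_some he, h i (by rw [he]; simp), mul_zero, Pi.single_zero]

/-- The number of characters supported outside a set. -/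
theorem card_vanishing {κ : Type*} [Fintype κ] [DecidableEq κ] (S : κ → Bool) :
    (Finset.univ.filter fun w : κ → F => ∀ i, S i = true → w i = 0).card =
      Fintype.card F ^ (Finset.univ.filter fun i => S i = false).card := by
  have h : (Finset.univ.filter fun w : κ → F => ∀ i, S i = true → w i = 0) =
      Fintype.piFinset fun i => if S i then ({0} : Finset F) else Finset.univ := by
    ext w
    simp only [Finset.mem_filter, Finset.mem_univ, true_and, Fintype.mem_piFinset]
    refine forall_congr' fun i => ?_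
    cases S i <;> simp
  rw [h, Fintype.card_piFinset, ← Finset.prod_const, Finset.prod_filter]
  refine Finset.prod_congr rfl fun i _ => ?_
  cases S i <;> simp

/-- The characters in one variable. -/
theorem sum_one_var {M : Type*} [AddCommMonoid M] (w : (Fin 1 → F) → M) :
    ∑ ψ, w ψ = w 0 + ∑ b ∈ Finset.univ.filter (fun b : F => b ≠ 0), w (fun _ => b) := by
  rw [← Fintype.sum_equiv (Equiv.funUnique (Fin 1) F).symm (fun b => w (fun _ => b)) w (fun b => rfl),
    Finset.filter_ne', ← Finset.add_sum_erase _ _ (Finset.mem_univ (0 : F))]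
  rfl

theorem exists_chi_ne {a : F} (ha : a ≠ 0) : ∃ u : F, chi F (a * u) ≠ 1 :=
  (exists_char F).choose_spec a ha

theorem sum_chi_nonzero {t : F} (ht : t ≠ 0) :
    ∑ b ∈ Finset.univ.filter (fun b : F => b ≠ 0), chi F (b * t) = -1 := by
  obtain ⟨x, hx⟩ := exists_chi_ne ht
  have h0 : (chi F).compAddMonoidHom (AddMonoidHom.mulLeft t) ≠ 0 := fun h1 =>
    hx (by simpa using DFunLike.congr_fun h1 x)
  have h : ∑ b : F, chi F (b * t) = 0 := by
    simpa [mul_comm] using AddChar.sum_eq_zero_iff_ne_zero.mpr h0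
  rw [← Finset.add_sum_erase _ _ (Finset.mem_univ (0 : F)), zero_mul, AddChar.map_zero_eq_one] at h
  rw [Finset.filter_ne']
  linear_combination h

end CfsgLib.MinDegE
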