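import Cfsg.Agent.Lib.MinDegE.HeisCert
import Cfsg.Agent.Lib.MinDegE.Tools
import Cfsg.Agent.Lib.SLMinDeg.Main

set_option autoImplicit false
set_option linter.unusedSectionVars false

/-!
The top of the descent: the Heisenberg radical of the parabolic of the highest root.
-/

namespace CfsgLib.MinDegE

open Cfsg.Lie CfsgLib.ChevStr Matrix CfsgLib.KnownSimple.ModulePerm
open scoped MatrixGroups

variable {D : ChevalleyDatum} (H : HData D)
variable {F : Type*} [Field F] [Fintype F] [DecidableEq F] (C : ChevCore D F)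
variable {V : Type*} [AddCommGroup V] [Module ℂ V] [FiniteDimensional ℂ V]
variable {ρ : Representation ℂ (D.group F) V}

/-- The operators trivial on a root subgroup move along reflections. -/
theorem trivial_walk : ∀ (p : List (Fin D.rank)) {r : ℕ}, r < D.nroots →
    (∀ t, ρ (xg C r t) = 1) → ∀ t, ρ (xg C (walk D r p) t) = 1
  | [], r => fun _ h => h
  | i :: p, r => fun hr h => by
    obtain ⟨e, he, hconj⟩ := nref_conj C i hr
    refine trivial_walk p (C.hR.refl_lt i r hr) fun t => ?_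
    have h1 : xg C (D.reflectRoot i.val r) t = nref C i * xg C r (e * t) * (nref C i)⁻¹ := by
      rw [hconj, ← mul_assoc e, he, one_mul, mul_inv_cancel_right]
    rw [h1, map_mul, map_mul, h, mul_one, ← map_mul, mul_inv_cancel, map_one]

theorem okRoots_spec (hR : H.okRoots = true) :
    H.alpha < D.nroots ∧ (D.cartan H.sc.val H.alpha = 1 ∨ D.cartan H.sc.val H.alpha = -1) ∧
    (∀ r < D.nroots, (H.rootPaths.getD r []).all (reflOK D (List.range D.nroots)) = true ∧
      walk D H.alpha (H.rootPaths.getD r []) = r) ∧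
    ∀ r ∈ H.lv0.R ++ H.lv0.L ++ H.lvA.R ++ H.lvB.R ++ H.lvA.L ++ H.lvB.L,
      r < D.nroots ∧ commPair D r H.alpha = true := by
  simp only [HData.okRoots, Bool.and_eq_true, decide_eq_true_eq, List.all_eq_true] at hR
  exact ⟨hR.1.1.1, hR.1.1.2, fun r hr => ⟨List.all_eq_true.2 (hR.1.2 r (List.mem_range.2 hr)).1,
    (hR.1.2 r (List.mem_range.2 hr)).2⟩, hR.2⟩

/-- The long root family on the whole space. -/
def zFam (ρ : Representation ℂ (D.group F) V) : Fam ρ (Fin 1) F where
  E := 1
  x _ t := xg C H.alpha t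
  idem := one_mul 1
  comm _ _ := Commute.one_right _
  add _ t u := xg_add C _ t u
  comm2 _ _ t u := by rw [← map_mul, ← xg_add, add_comm, xg_add, map_mul]

/-- The eigenspace of a parameter of the long root. -/
noncomputable def eb (ρ : Representation ℂ (D.group F) V) (b : F) : Module.End ℂ V :=
  (zFam H C ρ).pr fun _ => b

/-- The dimension of a nontrivial eigenspace. -/
noncomputable def dN (ρ : Representation ℂ (D.group F) V) : ℕ := (zFam H C ρ).dimPr fun _ => 1

theorem commute_eb {g : D.group F} (h : ∀ t, Commute g (xg C H.alpha t)) (b : F) :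
    Commute (ρ g) (eb H C ρ b) :=
  (zFam H C ρ).commute_pr_of_commute (Commute.one_right _) (fun _ t => h t) _

theorem commute_eb_root (hR : H.okRoots = true) {r : ℕ}
    (hr : r ∈ H.lv0.R ++ H.lv0.L ++ H.lvA.R ++ H.lvB.R ++ H.lvA.L ++ H.lvB.L) (t b : F) :
    Commute (ρ (xg C r t)) (eb H C ρ b) :=
  commute_eb H C (fun u => commute_of_pair C ((okRoots_spec H hR).2.2.2 r hr).2 t u) b

theorem commute_eb_zero_tor (hR : H.okRoots = true) (c : Fin D.rank → Fˣ) :
    Commute (ρ (tor C c)) (eb H C ρ 0) :=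
  (zFam H C ρ).commute_pr_scale (c := fun _ => C.R.torusChar c (C.R.α H.alpha)) (Commute.one_right _)
    (fun _ t => tor_conj C c (okRoots_spec H hR).1 t) fun _ => by simp

theorem dimPr_eb (hR : H.okRoots = true) {b : F} (hb : b ≠ 0) :
    (zFam H C ρ).dimPr (fun _ => b) = dN H C ρ := by
  obtain ⟨hal, hsc, -, -⟩ := okRoots_spec H hR
  obtain ⟨c, hc⟩ : ∃ c : Fˣ, (c ^ D.cartan H.sc.val H.alpha : Fˣ) = Units.mk0 b hb := by
    rcases hsc with hi | hi <;> rw [hi]
    · exact ⟨Units.mk0 b hb, zpow_one _⟩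
    · exact ⟨(Units.mk0 b hb)⁻¹, by rw [_root_.zpow_neg_one, inv_inv]⟩
  have h := (zFam H C ρ).dimPr_scale (h := tor C (Pi.mulSingle H.sc c))
    (c := fun _ => C.R.torusChar (Pi.mulSingle H.sc c) (C.R.α H.alpha)) (Commute.one_right _)
    (fun _ t => tor_conj C _ hal t) (fun _ => 1)
  rw [C.R.torusChar_single H.sc c hal, hc] at h
  simpa [dN] using h

theorem trace_eb (hR : H.okRoots = true) {b : F} (hb : b ≠ 0) :
    LinearMap.trace ℂ V (eb H C ρ b) = (dN H C ρ : ℂ) := by
  rw [eb, Fam.trace_pr, dimPr_eb H C hR hb]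

theorem finrank_split (hR : H.okRoots = true) :
    (Module.finrank ℂ V : ℂ) = LinearMap.trace ℂ V (eb H C ρ 0) +
      ((Fintype.card F : ℂ) - 1) * (dN H C ρ : ℂ) := by
  rw [← LinearMap.trace_one ℂ V, show (1 : Module.End ℂ V) = (zFam H C ρ).E from rfl, ← Fam.sum_pr,
    map_sum, sum_one_var]
  congr 1
  rw [Finset.sum_congr rfl fun b hb => ?_, Finset.sum_const, nsmul_eq_mul, card_nonzero]
  exact trace_eb H C hR (Finset.mem_filter.1 hb).2

theorem trace_alpha (hR : H.okRoots = true) {t : F} (ht : t ≠ 0) :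
    LinearMap.trace ℂ V (ρ (xg C H.alpha t)) =
      LinearMap.trace ℂ V (eb H C ρ 0) - (dN H C ρ : ℂ) := by
  have h := (zFam H C ρ).trace_x (i := 0) t
  rw [show (zFam H C ρ).E = 1 from rfl, mul_one, sum_one_var, Pi.zero_apply, zero_mul,
    AddChar.map_zero_eq_one, one_mul, Finset.sum_congr rfl fun b hb => by
      rw [dimPr_eb H C hR (Finset.mem_filter.1 hb).2],
    ← Finset.sum_mul, sum_chi_nonzero ht] at h
  refine h.trans ?_
  rw [eb, Fam.trace_pr, show (fun _ : Fin 1 => (0 : F)) = 0 from rfl]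
  ring

/-- All root elements have the same trace. -/
theorem trace_root (hR : H.okRoots = true) {r : ℕ} (hr : r < D.nroots) :
    TrOn C ρ 1 r (LinearMap.trace ℂ V (eb H C ρ 0) - (dN H C ρ : ℂ)) := by
  obtain ⟨hal, -, hpaths, -⟩ := okRoots_spec H hR
  obtain ⟨h1, h2⟩ := hpaths r hr
  rw [← h2]
  exact TrOn.walk C (fun _ _ _ => Commute.one_right _) _ hal h1
    fun t ht => by rw [mul_one]; exact trace_alpha H C hR ht

theorem dN_ne_zero (hR : H.okRoots = true) (hnt : ¬ ∀ g, ρ g = 1) : dN H C ρ ≠ 0 := by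
  intro h0
  obtain ⟨hal, -, hpaths, -⟩ := okRoots_spec H hR
  have hz : ∀ ψ : Fin 1 → F, ψ ≠ 0 → (zFam H C ρ).pr ψ = 0 := by
    intro ψ hψ
    refine Fam.pr_eq_zero _ ?_
    have hψ0 : ψ = fun _ => ψ 0 := funext fun i => by rw [Subsingleton.elim i 0]
    rw [hψ0, dimPr_eb H C hR (fun e => hψ (by rw [hψ0]; funext i; exact e)), h0]
  have hx : ∀ t, ρ (xg C H.alpha t) = 1 := by
    intro t
    have h1 : ∀ ψ : Fin 1 → F, ρ (xg C H.alpha t) * (zFam H C ρ).pr ψ = (zFam H C ρ).pr ψ := by
      intro ψ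
      rcases eq_or_ne ψ 0 with rfl | hψ
      · have := (zFam H C ρ).rho_x_mul_pr 0 t 0
        rwa [Pi.zero_apply, zero_mul, AddChar.map_zero_eq_one, one_smul] at this
      · rw [hz ψ hψ, mul_zero]
    calc ρ (xg C H.alpha t) = ρ (xg C H.alpha t) * (zFam H C ρ).E := (mul_one _).symm
      _ = (zFam H C ρ).E := by
          rw [← Fam.sum_pr, Finset.mul_sum]
          exact Finset.sum_congr rfl fun ψ _ => h1 ψ
  apply hnt
  have hK : ∀ r t, r < D.nroots → C.xGL r t ∈ (SLMinDeg.trivialSub ρ).map (D.group F).subtype := by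
    intro r t hr
    refine ⟨xg C r t, ?_, rfl⟩
    obtain ⟨-, h2⟩ := hpaths r hr
    rw [← h2]
    exact trivial_walk C _ hal hx t
  intro g
  obtain ⟨g', hg', he⟩ := C.group_le hK g.2
  rw [show g = g' from Subtype.ext he.symm]
  exact hg'

/-! ### The eigenspaces of the long root -/

theorem tblA (hP : H.okPol = true) : H.lvA.tblOK = true ∧ H.lvB.tblOK = true ∧ H.lvB.k = H.lvA.k := by
  simp only [HData.okPol, Bool.and_eq_true, decide_eq_true_eq] at hP
  exact ⟨hP.1.1.1.1.1.1.1.1.1.1.1.1.1.1, hP.1.1.1.1.1.1.1.1.1.1.1.1.2.1, hP.1.1.1.1.1.1.1.1.1.1.1.2⟩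

theorem commA (hP : H.okPol = true) : H.lvA.commOK = true ∧ H.lvB.commOK = true := by
  simp only [HData.okPol, Bool.and_eq_true, decide_eq_true_eq] at hP
  exact ⟨hP.1.1.1.1.1.1.1.1.1.1.1.1.1.2, hP.1.1.1.1.1.1.1.1.1.1.1.1.2.2⟩

theorem comm_heis (hR : H.okRoots = true) (hC : H.okChain = true) (i j : Fin H.lv0.k) (t u : F) :
    ρ (xg C (H.lv0.root i) t) * ρ (xg C (H.lv0.root j) u) * eb H C ρ 0 =
      ρ (xg C (H.lv0.root j) u) * ρ (xg C (H.lv0.root i) t) * eb H C ρ 0 := by
  simp only [HData.okChain, Bool.and_eq_true, List.all_eq_true, decide_eq_true_eq, Bool.or_eq_true] at hC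
  have key : ∀ i j : Fin H.lv0.k, i < j → ∀ t u : F,
      ρ (xg C (H.lv0.root i) t) * ρ (xg C (H.lv0.root j) u) * eb H C ρ 0 =
      ρ (xg C (H.lv0.root j) u) * ρ (xg C (H.lv0.root i) t) * eb H C ρ 0 := by
    intro i j hij t u
    rcases hC.1.1.1.1.1.1.2 i (List.mem_finRange i) j (List.mem_finRange j) with (h | h) | h
    · exact absurd h (not_le.2 hij)
    · rw [← map_mul, (commute_of_pair C h t u).eq, map_mul]
    · have hmem : H.lv0.root i ∈ H.lv0.R := H.lv0.root_mem hC.1.1.1.1.1.1.1 i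
      have hmem' : H.lv0.root i ∈ H.lv0.R ++ H.lv0.L ++ H.lvA.R ++ H.lvB.R ++ H.lvA.L ++ H.lvB.L := by
        simp [hmem]
      have hc := ((okRoots_spec H hR).2.2.2 _ hmem').2
      obtain ⟨e, hp⟩ : ∃ e : ℤ,
          pairTerm D (H.lv0.root i) (H.lv0.root j) = some (some (H.alpha, e)) := by
        rcases h with h | h <;> exact ⟨_, h⟩
      have hZ : ρ (xg C H.alpha ((e : F) * t * u)) * eb H C ρ 0 = eb H C ρ 0 := by
        have := (zFam H C ρ).rho_x_mul_pr 0 ((e : F) * t * u) (fun _ => 0)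
        rwa [zero_mul, AddChar.map_zero_eq_one, one_smul] at this
      rw [← map_mul, shift_of_pair C hp hc t u, map_mul, map_mul, mul_assoc _ (ρ (xg C (H.lv0.root i) t)),
        (commute_eb_root H C hR hmem' t 0).eq, ← mul_assoc,
        mul_assoc (ρ (xg C (H.lv0.root j) u)) (ρ (xg C H.alpha _)), hZ, mul_assoc,
        ← (commute_eb_root H C hR hmem' t 0).eq, ← mul_assoc]
  rcases lt_trichotomy i j with hij | rfl | hij
  · exact key i j hij t u
  · rw [← map_mul, ← map_mul, ← xg_add, ← xg_add, add_comm]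
  · exact (key j i hij u t).symm

/-- The first half on an eigenspace. -/
noncomputable def aFam (hR : H.okRoots = true) (hP : H.okPol = true)
    (ρ : Representation ℂ (D.group F) V) (b : F) : Fam ρ (Fin H.lvA.k) F :=
  H.lvA.fam C ((zFam H C ρ).idem_pr fun _ => b)
    (fun r hr t => commute_eb_root H C hR (by simp [hr]) t b)
    (fun i j t u => by rw [← map_mul, (H.lvA.comm_roots C (commA H hP).1 i j t u).eq, map_mul]) (by
      have h := (tblA H hP).1
      simp only [Lvl.tblOK, Bool.and_eq_true, decide_eq_true_eq] at h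
      exact h.1.2)

/-- The second half on the whole space. -/
def bFam (hP : H.okPol = true) (ρ : Representation ℂ (D.group F) V) : Fam ρ (Fin H.lvB.k) F :=
  H.lvB.fam C (one_mul 1) (fun _ _ _ => Commute.one_right _)
    (fun i j t u => by rw [← map_mul, (H.lvB.comm_roots C (commA H hP).2 i j t u).eq, map_mul]) (by
      have h := (tblA H hP).2.1
      simp only [Lvl.tblOK, Bool.and_eq_true, decide_eq_true_eq] at h
      exact h.1.2)

/-- The translation of characters of the first half by the second. -/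
def shift (hP : H.okPol = true) (b : F) (v : Fin H.lvB.k → F) : Fin H.lvA.k → F :=
  fun i => b * (H.sgn i : F) * v (Fin.cast (tblA H hP).2.2.symm i)

theorem shift_add (hP : H.okPol = true) (b : F) (v w : Fin H.lvB.k → F) :
    shift H hP b (v + w) = shift H hP b v + shift H hP b w := by
  funext i; simp [shift, mul_add]

theorem sgn_mul_self (i : Fin H.lvA.k) : (H.sgn i : F) * (H.sgn i : F) = 1 := by
  rw [HData.sgn]; split_ifs <;> simp

theorem shift_injective (hP : H.okPol = true) {b : F} (hb : b ≠ 0) :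
    Function.Injective (shift (F := F) H hP b) := by
  intro v w h
  funext j
  have h1 := congrFun h (Fin.cast (tblA H hP).2.2 j)
  have hs : (H.sgn (Fin.cast (tblA H hP).2.2 j) : F) ≠ 0 := left_ne_zero_of_mul_eq_one (sgn_mul_self H _)
  simpa [shift, hb, hs] using h1

theorem shift_bijective (hP : H.okPol = true) {b : F} (hb : b ≠ 0) :
    Function.Bijective (shift (F := F) H hP b) :=
  (Fintype.bijective_iff_injective_and_card _).2 ⟨shift_injective H hP hb, by
    simp [(tblA H hP).2.2]⟩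

theorem pair_spec (hP : H.okPol = true) (i j : Fin H.lvA.k) :
    if i = j then pairTerm D (H.broot i) (H.lvA.root j) = some (some (H.alpha, H.sgn i))
    else commPair D (H.broot i) (H.lvA.root j) = true := by
  simp only [HData.okPol, Bool.and_eq_true, List.all_eq_true] at hP
  have h := hP.1.1.1.1.1.1.1.1.1.2 i (List.mem_finRange i) j (List.mem_finRange j)
  split_ifs with hij
  · rw [if_pos hij] at h; exact of_decide_eq_true h
  · rw [if_neg hij] at h; exact h

theorem bFam_intertwine (hR : H.okRoots = true) (hP : H.okPol = true) {b : F}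
    (v : Fin H.lvB.k → F) (ψ : Fin H.lvA.k → F) :
    (bFam H C hP ρ).tau v * (aFam H C hR hP ρ b).pr (ψ + shift H hP b v) =
      (aFam H C hR hP ρ b).pr ψ * (bFam H C hP ρ).tau v := by
  set A := aFam H C hR hP ρ b with hAdef
  set B := bFam H C hP ρ with hBdef
  induction v using Fam.pi_induction generalizing ψ with
  | h0 =>
    rw [Fam.tau_zero, show shift H hP b (0 : Fin H.lvB.k → F) = 0 by funext i; simp [shift], add_zero,
      show B.E = 1 from rfl, one_mul, mul_one]
  | hadd v w hv hw =>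
    rw [← B.tau_add, shift_add, mul_assoc, ← add_assoc, hw (ψ + shift H hP b v), ← mul_assoc, hv,
      mul_assoc]
  | h1 j u =>
    rw [B.tau_single, show B.E = 1 from rfl, mul_one]
    set i := Fin.cast (tblA H hP).2.2 j with hi
    have hroot : H.lvB.root j = H.broot i := rfl
    have hmem : H.lvB.root j ∈ H.lvB.R := H.lvB.root_mem (tblA H hP).2.1 j
    have hgE : Commute (ρ (xg C (H.lvB.root j) u)) A.E := commute_eb_root H C hR (by simp [hmem]) u b
    have hsh : shift H hP b (Pi.single j u) = (Pi.single i (b * (H.sgn i : F) * u) : Fin H.lvA.k → F) := by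
      funext l
      rcases eq_or_ne l i with rfl | hl
      · simp [shift, hi]
      · rw [Pi.single_eq_of_ne hl, shift, Pi.single_eq_of_ne, mul_zero]
        intro e
        exact hl (by rw [hi, ← e]; simp)
    refine A.mul_pr (η := shift H hP b (Pi.single j u)) (A := AddMonoidHom.id _) Function.injective_id
      (fun w => A.intertwine (shift H hP b (Pi.single j u)) (AddMonoidHom.id _) hgE (fun l t => ?_) w)
      ψ _ fun w => by rw [AddMonoidHom.id_apply, add_dotProduct]
    rw [AddMonoidHom.id_apply, A.tau_single, hsh]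
    show ρ (xg C (H.lvB.root j) u) * (ρ (xg C (H.lvA.root l) t) * A.E) =
      chi F ((Pi.single i (b * (H.sgn i : F) * u) : Fin H.lvA.k → F) l * t) •
        (ρ (xg C (H.lvA.root l) t) * A.E * ρ (xg C (H.lvB.root j) u))
    have hp := pair_spec H hP i l
    rcases eq_or_ne i l with rfl | hl
    · rw [if_pos rfl] at hp
      have hBmem : H.broot i ∈ H.lvB.R := hroot ▸ hmem
      have hcomm : commPair D (H.broot i) H.alpha = true :=
        ((okRoots_spec H hR).2.2.2 _ (by simp [hBmem])).2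
      have hZ : ρ (xg C H.alpha ((H.sgn i : F) * u * t)) * A.E =
          chi F (b * ((H.sgn i : F) * u * t)) • A.E := (zFam H C ρ).rho_x_mul_pr 0 _ _
      rw [hroot, ← mul_assoc, ← map_mul, shift_of_pair C hp hcomm, map_mul, map_mul, Pi.single_eq_same,
        mul_assoc _ (ρ (xg C (H.broot i) u)) A.E, (show Commute _ A.E from hroot ▸ hgE).eq, ← mul_assoc,
        mul_assoc (ρ (xg C (H.lvA.root i) t)) _ A.E, hZ, mul_smul_comm, smul_mul_assoc]
      congr 2
      ring
    · rw [if_neg hl] at hp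
      rw [Pi.single_eq_of_ne hl.symm, zero_mul, AddChar.map_zero_eq_one, one_smul, hroot, ← mul_assoc,
        ← map_mul, (commute_of_pair C hp u t).eq, map_mul, mul_assoc,
        (show Commute _ A.E from hroot ▸ hgE).eq, mul_assoc]

theorem pr_shift (hR : H.okRoots = true) (hP : H.okPol = true) {b : F} (v : Fin H.lvB.k → F) :
    (aFam H C hR hP ρ b).pr (shift H hP b v) =
      (bFam H C hP ρ).tau (-v) * (aFam H C hR hP ρ b).pr 0 * (bFam H C hP ρ).tau v := by
  rw [mul_assoc, ← bFam_intertwine H C hR hP v 0, ← mul_assoc, Fam.tau_add, neg_add_cancel,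
    Fam.tau_zero, show (bFam H C hP ρ).E = 1 from rfl, one_mul, zero_add]

theorem dimPr_shift (hR : H.okRoots = true) (hP : H.okPol = true) {b : F} (v : Fin H.lvB.k → F) :
    (aFam H C hR hP ρ b).dimPr (shift H hP b v) = (aFam H C hR hP ρ b).dimPr 0 := by
  have h := congrArg (LinearMap.trace ℂ V) (pr_shift H C hR hP (ρ := ρ) (b := b) v)
  rw [LinearMap.trace_mul_comm, ← mul_assoc, Fam.tau_add, add_neg_cancel, Fam.tau_zero,
    show (bFam H C hP ρ).E = 1 from rfl, one_mul, Fam.trace_pr, Fam.trace_pr] at h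
  exact_mod_cast h

theorem dN_eq (hR : H.okRoots = true) (hP : H.okPol = true) {b : F} (hb : b ≠ 0) :
    dN H C ρ = Fintype.card F ^ H.lvA.k * (aFam H C hR hP ρ b).dimPr 0 := by
  have h1 := (aFam H C hR hP ρ b).trace_E
  rw [show (aFam H C hR hP ρ b).E = eb H C ρ b from rfl, trace_eb H C hR hb] at h1
  have h2 : dN H C ρ = ∑ ψ, (aFam H C hR hP ρ b).dimPr ψ := by exact_mod_cast h1
  rw [h2, ← Fintype.sum_bijective _ (shift_bijective H hP hb) _ _ (fun v => rfl),
    Finset.sum_congr rfl fun v _ => dimPr_shift H C hR hP v, Finset.sum_const, Finset.card_univ,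
    Fintype.card_fun, Fintype.card_fin, (tblA H hP).2.2, smul_eq_mul]

/-- The trace on a nontrivial eigenspace of a root element of the Heisenberg quotient. -/
theorem trace_eb_root (hR : H.okRoots = true) (hP : H.okPol = true) (i : Fin H.lv0.k) {t b : F}
    (ht : t ≠ 0) (hb : b ≠ 0) :
    LinearMap.trace ℂ V (ρ (xg C (H.lv0.root i) t) * eb H C ρ b) = 0 := by
  simp only [HData.okPol, Bool.and_eq_true, List.all_eq_true, decide_eq_true_eq] at hP
  obtain ⟨⟨-, hcomm⟩, hpair⟩ := hP.1.1.1.1.1.1.1.1.2 i (List.mem_finRange i)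
  obtain ⟨e, he, hpair⟩ : ∃ e : ℤ, (e = 1 ∨ e = -1) ∧
      pairTerm D (H.ptn.getD i.val 0) (H.lv0.root i) = some (some (H.alpha, e)) := by
    rcases hpair with h | h
    · exact ⟨1, Or.inl rfl, h⟩
    · exact ⟨-1, Or.inr rfl, h⟩
  obtain ⟨x, hx⟩ := exists_chi_ne hb
  have he0 : (e : F) ≠ 0 := by rcases he with rfl | rfl <;> simp
  have h := trace_conj (ρ := ρ) (w := xg C (H.ptn.getD i.val 0) (x / ((e : F) * t)))
    (E := eb H C ρ b) (commute_eb H C (fun z => commute_of_pair C hcomm _ z) b)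
    (shift_of_pair C hpair hcomm (x / ((e : F) * t)) t)
  have hZ : ρ (xg C H.alpha ((e : F) * (x / ((e : F) * t)) * t)) * eb H C ρ b =
      chi F (b * ((e : F) * (x / ((e : F) * t)) * t)) • eb H C ρ b := (zFam H C ρ).rho_x_mul_pr 0 _ _
  rw [map_mul ρ, mul_assoc (ρ (xg C (H.lv0.root i) t)), hZ, mul_smul_comm, map_smul, smul_eq_mul,
    show (e : F) * (x / ((e : F) * t)) * t = x by field_simp] at h
  by_contra hne
  exact hx ((mul_eq_right₀ hne).1 h)

theorem trace_root_zero (hR : H.okRoots = true) (hP : H.okPol = true) (hT : H.lv0.tblOK = true)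
    (i : Fin H.lv0.k) :
    TrOn C ρ (eb H C ρ 0) (H.lv0.root i) (LinearMap.trace ℂ V (eb H C ρ 0) - (dN H C ρ : ℂ)) := by
  intro t ht
  rw [← trace_root H C hR (H.lv0.root_lt hT i) t ht]
  conv_rhs => rw [show (1 : Module.End ℂ V) = (zFam H C ρ).E from rfl, ← Fam.sum_pr, sum_one_var,
    mul_add, map_add, Finset.mul_sum, map_sum]
  rw [Finset.sum_eq_zero, add_zero]
  · rfl
  · exact fun b hb => trace_eb_root H C hR hP i ht (Finset.mem_filter.1 hb).2

/-- The trace of the top element on a nontrivial eigenspace. -/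
theorem trace_gam (hR : H.okRoots = true) (hP : H.okPol = true) {b : F} (hb : b ≠ 0)
    (hm : (aFam H C hR hP ρ b).dimPr 0 = 1) :
    LinearMap.trace ℂ V (ρ (xg C H.gam 1) * eb H C ρ b) = (Fintype.card F : ℂ) ^ H.cfix := by
  classical
  set A := aFam H C hR hP ρ b with hAdef
  set B := bFam H C hP ρ with hBdef
  have hA := (tblA H hP).1
  have hB := (tblA H hP).2.1
  have hP' := hP
  simp only [HData.okPol, Bool.and_eq_true, List.all_eq_true, decide_eq_true_eq] at hP'
  obtain ⟨⟨⟨⟨⟨⟨⟨⟨-, hlA⟩, hlB⟩, hA2⟩, hB0⟩, hpair⟩, hd⟩, he⟩, htab⟩ := hP'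
  obtain ⟨σ, hσ, hσp⟩ : ∃ σ : ℤ, (σ = 1 ∨ σ = -1) ∧
      pairTerm D (H.lvA.lroot 0) (H.lvA.lroot 1) = some (some (H.gam, σ)) := by
    rcases hpair with h | h
    · exact ⟨1, Or.inl rfl, h⟩
    · exact ⟨-1, Or.inr rfl, h⟩
  have hLA : ∀ r ∈ H.lvA.L, ∀ t, Commute (ρ (xg C r t)) A.E := fun r hr t =>
    commute_eb_root H C hR (by simp [hr]) t b
  have actA : ∀ δ, δ < H.lvA.L.length → A.Acts (fun u => xg C (H.lvA.lroot δ) u) (H.lvA.act δ) :=
    fun δ hδ => H.lvA.acts C hA rfl hLA hδ
  set g := ρ (xg C H.gam 1) with hg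
  have hgP : g * A.pr 0 = A.pr 0 := by
    refine (A.trace_commutator hm (a := xg C (H.lvA.lroot 0) (σ : F)) (b := xg C (H.lvA.lroot 1) 1)
      ((actA 0 (by omega)).commute_pr (Table.move_zero _ _))
      ((actA 1 (by omega)).commute_pr (Table.move_zero _ _)) ?_).1
    rw [shift_of_pair C hσp hd (σ : F) 1, show ((σ : F) * σ * 1) = 1 by
      rcases hσ with rfl | rfl <;> simp, ← mul_assoc, (commute_of_pair C he 1 1).eq]
  have actB := H.lvB.acts C hB (Φ := B) rfl (fun r _ t => Commute.one_right _) (δ := 0) (by omega)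
  rw [hB0] at actB
  have hterm : ∀ v, LinearMap.trace ℂ V (g * A.pr (shift H hP b v)) =
      if (H.lvB.act 0).dual 1 v = v then 1 else 0 := by
    intro v
    rw [pr_shift H C hR hP v, ← mul_assoc, ← mul_assoc, hg, actB.intertwines 1 (-v),
      mul_assoc _ (ρ (xg C H.gam 1)), ← hg, hgP, LinearMap.trace_mul_comm, ← mul_assoc, Fam.tau_add,
      map_neg, ← sub_eq_add_neg]
    split_ifs with hv
    · rw [hv, sub_self, Fam.tau_zero, show B.E = 1 from rfl, one_mul, Fam.trace_pr, hm, Nat.cast_one]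
    · refine OrthDeg.trace_zero_of_moved (X' := A.pr (-shift H hP b (v - (H.lvB.act 0).dual 1 v)))
        (A.idem_pr 0) ?_ ?_
      · have := bFam_intertwine H C hR hP (ρ := ρ) (b := b) (v - (H.lvB.act 0).dual 1 v)
          (-shift H hP b (v - (H.lvB.act 0).dual 1 v))
        rwa [neg_add_cancel] at this
      · rw [A.pr_mul_pr, if_neg]
        intro h0
        exact hv (sub_eq_zero.1 (shift_injective H hP hb (a₁ := v - (H.lvB.act 0).dual 1 v) (a₂ := 0)
          (by rw [neg_eq_zero.1 h0.symm]; funext i; simp [shift]))).symm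
  rw [show eb H C ρ b = A.E from rfl, ← A.sum_pr, Finset.mul_sum, map_sum,
    ← Fintype.sum_bijective _ (shift_bijective H hP hb) _ _ (fun v => rfl),
    Finset.sum_congr rfl fun v _ => hterm v, Finset.sum_boole]
  have hinj : ∀ i i' l e e', H.lvB.act 0 i = some (l, e) → H.lvB.act 0 i' = some (l, e') → i = i' := by
    intro i i' l e e' hi hi'
    have h := htab i (List.mem_finRange i)
    rw [hi, Option.all_some] at h
    simp only [Bool.and_eq_true, List.all_eq_true, decide_eq_true_eq] at h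
    have h2 := h.2 i' (List.mem_finRange i')
    rw [hi', Option.all_some, decide_eq_true_eq] at h2
    exact (h2 rfl).symm
  have hunit : ∀ i l e, H.lvB.act 0 i = some (l, e) → e = 1 ∨ e = -1 := by
    intro i l e hi
    have h := htab i (List.mem_finRange i)
    rw [hi, Option.all_some] at h
    simp only [Bool.and_eq_true, decide_eq_true_eq] at h
    exact h.1
  rw [Finset.filter_congr fun v _ => Table.dual_eq_self_iff hinj hunit v]
  have hset : (Finset.univ.filter fun v : Fin H.lvB.k → F => ∀ i, H.lvB.act 0 i ≠ none → v i = 0) =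
      Finset.univ.filter fun v : Fin H.lvB.k → F => ∀ i, (H.lvB.act 0 i).isSome = true → v i = 0 := by
    refine Finset.filter_congr fun v _ => forall_congr' fun i => ?_
    cases H.lvB.act 0 i <;> simp
  have hcard := card_vanishing (F := F) fun i => (H.lvB.act 0 i).isSome
  rw [hset, ← Nat.cast_pow]
  refine congrArg (Nat.cast : ℕ → ℂ) ?_
  convert hcard using 2
  · ext v; simp
  · rw [HData.cfix]
    congr 1
    refine Finset.filter_congr fun i _ => ?_
    cases H.lvB.act 0 i <;> simp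

end CfsgLib.MinDegE
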