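import Cfsg.Agent.Lib.MinDegE.Chain

set_option autoImplicit false
set_option linter.unusedSectionVars false

/-!
The certificate of the Heisenberg parabolic at the top of the chain.
-/

namespace CfsgLib.MinDegE

open Cfsg.Lie CfsgLib.ChevStr

/-- The data at the top: the long root, its reflection paths, the level on the Heisenberg quotient,
the two halves of a polarisation and the rest of the chain. -/
structure HData (D : ChevalleyDatum) where
  alpha : ℕ
  sc : Fin D.rank
  rootPaths : List (List (Fin D.rank))
  lv0 : Lvl D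
  ptn : List ℕ
  lvA : Lvl D
  lvB : Lvl D
  next : Lvl D
  rest : List (Lvl D)

namespace HData

variable {D : ChevalleyDatum} (H : HData D)

/-- The `i`-th root of the second half. -/
def broot (i : Fin H.lvA.k) : ℕ := H.lvB.R.getD i.val 0

/-- The sign of the commutator of two partners. -/
def sgn (i : Fin H.lvA.k) : ℤ :=
  if pairTerm D (H.broot i) (H.lvA.root i) = some (some (H.alpha, 1)) then 1 else -1

/-- The root of the top element on the Heisenberg quotient. -/
def gam : ℕ := H.lv0.lroot H.lv0.g

/-- The number of roots of the second half fixed by the top element. -/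
def cfix : ℕ := ((Finset.univ : Finset (Fin H.lvB.k)).filter fun i => (H.lvB.act 0 i).isNone).card

/-- The root data of the top level. -/
def okRoots : Bool :=
  decide (H.alpha < D.nroots) &&
    decide (D.cartan H.sc.val H.alpha = 1 ∨ D.cartan H.sc.val H.alpha = -1) &&
    (List.range D.nroots).all (fun r => (H.rootPaths.getD r []).all (reflOK D (List.range D.nroots)) &&
      decide (walk D H.alpha (H.rootPaths.getD r []) = r)) &&
    ((H.lv0.R ++ H.lv0.L ++ H.lvA.R ++ H.lvB.R ++ H.lvA.L ++ H.lvB.L).all fun r =>
      decide (r < D.nroots) && commPair D r H.alpha)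

/-- The polarisation. -/
def okPol : Bool :=
  (H.lvA.tblOK && H.lvA.commOK) && (H.lvB.tblOK && H.lvB.commOK) && decide (H.lvB.k = H.lvA.k) && decide (0 < H.lvA.k) &&
    ((List.finRange H.lvA.k).all fun i => (List.finRange H.lvA.k).all fun j =>
      if i = j then decide (pairTerm D (H.broot i) (H.lvA.root j) = some (some (H.alpha, H.sgn i)))
      else commPair D (H.broot i) (H.lvA.root j)) &&
    ((List.finRange H.lv0.k).all fun i =>
      decide (H.ptn.getD i.val 0 < D.nroots) && commPair D (H.ptn.getD i.val 0) H.alpha &&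
      decide (pairTerm D (H.ptn.getD i.val 0) (H.lv0.root i) = some (some (H.alpha, 1)) ∨
        pairTerm D (H.ptn.getD i.val 0) (H.lv0.root i) = some (some (H.alpha, -1)))) &&
    decide (3 ≤ H.lvA.L.length) && decide (1 ≤ H.lvB.L.length) &&
    decide (H.lvA.lroot 2 = H.gam) && decide (H.lvB.lroot 0 = H.gam) &&
    decide (pairTerm D (H.lvA.lroot 0) (H.lvA.lroot 1) = some (some (H.gam, 1)) ∨
      pairTerm D (H.lvA.lroot 0) (H.lvA.lroot 1) = some (some (H.gam, -1))) &&
    commPair D (H.lvA.lroot 0) H.gam && commPair D (H.lvA.lroot 1) H.gam &&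
    ((List.finRange H.lvB.k).all fun i => (H.lvB.act 0 i).all fun p =>
      decide (p.2 = 1 ∨ p.2 = -1) && (List.finRange H.lvB.k).all fun j => (H.lvB.act 0 j).all fun p' =>
        decide (p'.1 = p.1 → j = i))

/-- The passage into the chain. -/
def okChain : Bool :=
  H.lv0.tblOK && ((List.finRange H.lv0.k).all fun i => (List.finRange H.lv0.k).all fun j =>
    decide (j ≤ i) || commPair D (H.lv0.root i) (H.lv0.root j) ||
      decide (pairTerm D (H.lv0.root i) (H.lv0.root j) = some (some (H.alpha, 1)) ∨
        pairTerm D (H.lv0.root i) (H.lv0.root j) = some (some (H.alpha, -1)))) &&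
  H.lv0.betaOK && decide (H.lv0.a + 1 = H.lvA.k) && !H.lv0.needTor &&
    H.lv0.passOK H.next (!H.rest.isEmpty) && chainOK (H.next :: H.rest) &&
    decide ((H.lvA.k :: (H.cfix + 1) :: H.lv0.mups).isPerm
      ((H.next.a + 1) :: H.cfix :: H.lv0.mups.map (· + 1)) = true)

/-- The exponents of all strata. -/
def exps : List ℕ := H.lvA.k :: (H.lv0.ups ++ allUps (H.next :: H.rest))

end HData

end CfsgLib.MinDegE
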