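import Cfsg.Agent.Lib.MinDegE.Heis

set_option autoImplicit false
set_option linter.unusedSectionVars false

/-!
The lower bound for a nontrivial representation given by a certified descent, with the value of the
character at a long root element in the extremal case.
-/

namespace CfsgLib.MinDegE

open Cfsg.Lie CfsgLib.ChevStr Matrix CfsgLib.KnownSimple.ModulePerm
open scoped MatrixGroups

variable {D : ChevalleyDatum} (H : HData D)
variable {F : Type*} [Field F] [Fintype F] [DecidableEq F] (C : ChevCore D F)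
variable {V : Type*} [AddCommGroup V] [Module ℂ V] [FiniteDimensional ℂ V]
variable {ρ : Representation ℂ (D.group F) V}

theorem descent (hR : H.okRoots = true) (hP : H.okPol = true) (hC : H.okChain = true)
    (hk : 0 < H.lv0.k) (htor : anyTor (H.next :: H.rest) = true → 3 ≤ Fintype.card F)
    (hnt : ¬ ∀ g, ρ g = 1) :
    2 * ((Fintype.card F - 1) * (Fintype.card F ^ H.lvA.k + Fintype.card F ^ (H.lvA.k - 1))) ≤
        Module.finrank ℂ V ∨
      ((Fintype.card F - 1) * psum (Fintype.card F) H.exps ≤ Module.finrank ℂ V ∧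
        ρ.character (xg C H.alpha 1) =
          (Module.finrank ℂ V : ℂ) - (Fintype.card F : ℂ) ^ (H.lvA.k + 1)) := by
  classical
  have hC' := hC
  simp only [HData.okChain, Bool.and_eq_true, decide_eq_true_eq, Bool.not_eq_true'] at hC
  obtain ⟨⟨⟨⟨⟨⟨⟨hT, -⟩, hB⟩, ha⟩, hnt0⟩, hpass⟩, hchain⟩, hperm⟩ := hC
  set q := Fintype.card F with hqdef
  have hq2 : 2 ≤ q := Fintype.one_lt_card
  have hh : 0 < H.lvA.k := by omega
  have hlen : H.lv0.R.length = H.lv0.k := by
    have := hT
    simp only [Lvl.tblOK, Bool.and_eq_true, decide_eq_true_eq] at this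
    exact this.1.2
  let Φ := H.lv0.fam C ((zFam H C ρ).idem_pr fun _ => 0)
    (fun r hr t => commute_eb_root H C hR (by simp [hr]) t 0)
    (fun i j t u => comm_heis H C hR hC' i j t u) hlen
  have hE : Φ.E = eb H C ρ 0 := rfl
  have htr0 : ∀ i, TrOn C ρ Φ.E (H.lv0.root i)
      (LinearMap.trace ℂ V Φ.E - (dN H C ρ : ℂ)) := fun i => trace_root_zero H C hR hP hT i
  have hsplit := finrank_split H C hR (ρ := ρ)
  rw [← hE, Φ.trace_E] at hsplit
  have hn : Module.finrank ℂ V = (∑ ψ, Φ.dimPr ψ) + (q - 1) * dN H C ρ := by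
    have h : ((Module.finrank ℂ V : ℕ) : ℂ) = (((∑ ψ, Φ.dimPr ψ) + (q - 1) * dN H C ρ : ℕ) : ℂ) := by
      rw [Nat.cast_add, Nat.cast_mul, Nat.cast_sub (by omega : 1 ≤ q), Nat.cast_one]
      exact hsplit
    exact_mod_cast h
  set m := (aFam H C hR hP ρ 1).dimPr 0
  have hN : dN H C ρ = q ^ H.lvA.k * m := dN_eq H C hR hP one_ne_zero
  have hm0 : m ≠ 0 := fun h => dN_ne_zero H C hR hnt (by rw [hN, h, mul_zero])
  rcases Nat.lt_or_ge m 2 with hm | hm
  · have hm1 : m = 1 := by omega
    rw [hm1, mul_one] at hN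
    right
    obtain ⟨h1, h2, h3, h4⟩ := H.lv0.step C hT hB (Φ := Φ) rfl
      (fun r hr t => commute_eb_root H C hR (by simp [hr]) t 0) (commute_eb_zero_tor H C hR)
      (fun i => by
        have h := htr0 i
        rwa [hN, Nat.cast_pow, ← ha] at h)
    have hph : H.lv0.phOK = true := by
      have := hpass
      simp only [Lvl.passOK, Bool.and_eq_true] at this
      exact this.1.1.1.1.1
    have hglt : H.gam < D.nroots := by
      have := hph
      simp only [Lvl.phOK, Bool.and_eq_true, decide_eq_true_eq] at this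
      exact H.lv0.lroot_lt hT this.1
    have hgE : LinearMap.trace ℂ V (ρ (xg C H.gam 1) * Φ.E) = LinearMap.trace ℂ V Φ.E -
        ((q : ℂ) ^ H.lvA.k + ((q : ℂ) - 1) * (q : ℂ) ^ H.cfix) := by
      have h := trace_root H C hR hglt (ρ := ρ) 1 one_ne_zero
      have hterm : ∀ b ∈ Finset.univ.filter (fun b : F => b ≠ 0),
          LinearMap.trace ℂ V (ρ (xg C H.gam 1) * (zFam H C ρ).pr fun _ => b) = (q : ℂ) ^ H.cfix := by
        intro b hb
        have hb' := (Finset.mem_filter.1 hb).2
        refine trace_gam H C hR hP hb' ?_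
        have h' := dN_eq H C hR hP (ρ := ρ) hb'
        rw [hN] at h'
        exact (Nat.eq_of_mul_eq_mul_left (pow_pos (by omega) _) ((mul_one _).trans h')).symm
      rw [show (1 : Module.End ℂ V) = (zFam H C ρ).E from rfl, ← Fam.sum_pr, sum_one_var, mul_add,
        map_add, Finset.mul_sum, map_sum, Finset.sum_congr rfl hterm, Finset.sum_const,
        nsmul_eq_mul, card_nonzero, hN, Nat.cast_pow] at h
      rw [hE]
      change LinearMap.trace ℂ V (ρ (xg C H.gam 1) * eb H C ρ 0) + _ = _ at h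
      linear_combination h
    have hg := h4 hph (fun h => by rw [hnt0] at h; exact absurd h (by simp)) _ hgE
    have hD : (q : ℂ) ^ H.lvA.k + ((q : ℂ) - 1) * (q : ℂ) ^ H.cfix -
        ((q : ℂ) - 1) * (psum q H.lv0.mups : ℂ) = (q : ℂ) ^ (H.next.a + 1) := by
      have h := congrArg (fun n : ℕ => (n : ℂ)) (psum_perm q (List.isPerm_iff.1 hperm))
      simp only [psum_cons, psum_succ, Nat.cast_add, Nat.cast_pow, Nat.cast_mul] at h
      linear_combination h
    rw [← hqdef, hD] at hg
    obtain ⟨r, hr⟩ := chain_bound C H.rest H.next hchain htor (Φ.pr 0)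
      (Start.next C hpass hT (Φ.idem_pr 0) h2 h3 hg)
    rw [hr, Φ.trace_E, ← hqdef] at h1
    refine ⟨?_, ?_⟩
    · have h : ((Module.finrank ℂ V : ℕ) : ℂ) =
          ((r + (q - 1) * psum q H.exps : ℕ) : ℂ) := by
        rw [hn, HData.exps, psum_cons, psum_append]
        push_cast [Nat.cast_sub (by omega : 1 ≤ q), hN]
        push_cast at h1
        linear_combination h1
      have h' : Module.finrank ℂ V = r + (q - 1) * psum q H.exps := by exact_mod_cast h
      omega
    · show LinearMap.trace ℂ V (ρ (xg C H.alpha 1)) = _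
      rw [trace_alpha H C hR one_ne_zero, ← hE, Φ.trace_E, hn, hN]
      push_cast [Nat.cast_sub (by omega : 1 ≤ q)]
      ring
  · left
    let i : Fin H.lv0.k := ⟨0, hk⟩
    have hfib : ∀ s : F, s ≠ 0 →
        q * ∑ ψ ∈ Finset.univ.filter (fun ψ : Fin H.lv0.k → F => ψ i = s), Φ.dimPr ψ = dN H C ρ := by
      intro s hs
      have h := Φ.sum_dimPr_fiber (i := i) (fun t ht => htr0 i t ht) hs
      rw [← hqdef] at h
      exact_mod_cast h
    have hle : (q - 1) * (q ^ (H.lvA.k - 1) * m) ≤ ∑ ψ, Φ.dimPr ψ := by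
      rw [← Finset.sum_fiberwise Finset.univ (fun ψ : Fin H.lv0.k → F => ψ i) (fun ψ => Φ.dimPr ψ)]
      refine le_trans (le_of_eq ?_) (Finset.sum_le_sum_of_subset
        (Finset.filter_subset (fun s : F => s ≠ 0) Finset.univ))
      rw [Finset.sum_congr rfl fun s hs => ?_, Finset.sum_const, smul_eq_mul, Finset.filter_ne',
        Finset.card_erase_of_mem (Finset.mem_univ _), Finset.card_univ]
      have h := hfib s (Finset.mem_filter.1 hs).2
      have hpow : q ^ H.lvA.k = q * q ^ (H.lvA.k - 1) := by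
        conv_lhs => rw [show H.lvA.k = (H.lvA.k - 1) + 1 by omega]
        rw [pow_succ, mul_comm]
      rw [hN, hpow, mul_assoc] at h
      exact (Nat.eq_of_mul_eq_mul_left (by omega) h)
    rw [hn, hN]
    have hb1 : (q - 1) * (q ^ (H.lvA.k - 1) * 2) ≤ (q - 1) * (q ^ (H.lvA.k - 1) * m) := by gcongr
    have hb2 : (q - 1) * (q ^ H.lvA.k * 2) ≤ (q - 1) * (q ^ H.lvA.k * m) := by gcongr
    calc 2 * ((q - 1) * (q ^ H.lvA.k + q ^ (H.lvA.k - 1))) =
          (q - 1) * (q ^ (H.lvA.k - 1) * 2) + (q - 1) * (q ^ H.lvA.k * 2) := by ring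
      _ ≤ _ := by omega

end CfsgLib.MinDegE
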