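import Cfsg.Agent.Lib.MinDegE.Slice

set_option autoImplicit false
set_option linter.unusedSectionVars false

/-!
One level of the descent: traces on the fixed space of a certified family.
-/

namespace CfsgLib.MinDegE

open Matrix CfsgLib.KnownSimple.ModulePerm

variable {G V : Type*} [Group G] [AddCommGroup V] [Module ℂ V]
variable {F : Type*} [Field F] [Fintype F] [DecidableEq F] {ρ : Representation ℂ G V}

namespace Fam

variable {κ : Type*} [Fintype κ] [DecidableEq κ] (Φ : Fam ρ κ F)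

/-- An element scaling every member of the family. -/
theorem mul_pr_scale {h : G} {c : κ → Fˣ} (hE : Commute (ρ h) Φ.E)
    (hx : ∀ i t, h * Φ.x i t = Φ.x i ((c i : F) * t) * h) (ψ : κ → F) :
    ρ h * Φ.pr (fun i => (c i : F) * ψ i) = Φ.pr ψ * ρ h := by
  let A : (κ → F) →+ (κ → F) :=
    { toFun := fun w i => (c i : F) * w i
      map_zero' := by funext i; simp
      map_add' := fun v w => by funext i; simp [mul_add] }
  have hA : Function.Injective A := fun v w hvw => funext fun i =>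
    mul_left_cancel₀ (c i).ne_zero (congrFun hvw i)
  refine Φ.mul_pr (η := 0) hA (fun w => ?_) ψ _ fun w => ?_
  · refine Φ.intertwine (g := ρ h) (0 : κ → F) A hE (fun i t => ?_) w
    have h1 : A (Pi.single i t) = Pi.single i ((c i : F) * t) := by
      funext j
      rcases eq_or_ne j i with rfl | hj
      · simp [A]
      · simp [A, hj]
    rw [Pi.zero_apply, zero_mul, AddChar.map_zero_eq_one, one_smul, h1, Φ.tau_single, ← mul_assoc,
      ← map_mul, hx, map_mul, mul_assoc _ (ρ h), hE.eq]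
    simp only [mul_assoc]
  · rw [zero_dotProduct, add_zero]
    simp only [dotProduct, A, AddMonoidHom.coe_mk, ZeroHom.coe_mk]
    exact Finset.sum_congr rfl fun i _ => by ring

theorem commute_pr_scale {h : G} {c : κ → Fˣ} (hE : Commute (ρ h) Φ.E)
    (hx : ∀ i t, h * Φ.x i t = Φ.x i ((c i : F) * t) * h) {ψ : κ → F}
    (hψ : ∀ i, (c i : F) * ψ i = ψ i) : Commute (ρ h) (Φ.pr ψ) := by
  have h1 := Φ.mul_pr_scale hE hx ψ
  rw [show (fun i => (c i : F) * ψ i) = ψ from funext hψ] at h1
  exact h1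

end Fam

variable [FiniteDimensional ℂ V] {k : ℕ}
variable (Φ : Fam ρ (Fin k) F) {y : ℕ → F → G} {act : ℕ → Table (Fin k)} {L : List ℕ}

theorem card_nonzero : ((Finset.univ.filter fun s : F => s ≠ 0).card : ℂ) = (Fintype.card F : ℂ) - 1 := by
  rw [Finset.filter_ne', Finset.card_erase_of_mem (Finset.mem_univ _), Finset.card_univ,
    Nat.cast_sub Fintype.card_pos, Nat.cast_one]

/-- The dimension of the image and the trace of a root element, through the strata. -/
theorem Fam.level (hact : ∀ δ ∈ L, Φ.Acts (y δ) (act δ)) (beta : Fin k → Beta k)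
    (hbeta : ∀ b, (beta b).b = b ∧ (beta b).check act L = true)
    (a : ℕ) (ha : ∀ b, (beta b).up.length + (beta b).dn.length = a)
    (htr : ∀ i t, t ≠ 0 → LinearMap.trace ℂ V (ρ (Φ.x i t) * Φ.E) =
      LinearMap.trace ℂ V Φ.E - (Fintype.card F : ℂ) ^ (a + 1)) :
    LinearMap.trace ℂ V Φ.E = LinearMap.trace ℂ V (Φ.pr 0) +
      ((Fintype.card F : ℂ) - 1) * ∑ b, (Fintype.card F : ℂ) ^ (beta b).up.length ∧
    (∀ b s, s ≠ 0 → Φ.dimPr (Pi.single b s) = 1) ∧
    ∀ g : G, (∀ b, ∀ p ∈ (beta b).up, ∀ u, Commute g (y p.1 u)) → ∀ c : Fin k → ℂ,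
      (∀ b s, s ≠ 0 → LinearMap.trace ℂ V (ρ g * Φ.pr (Pi.single b s)) = c b) →
      LinearMap.trace ℂ V (ρ g * Φ.E) = LinearMap.trace ℂ V (ρ g * Φ.pr 0) +
        ((Fintype.card F : ℂ) - 1) * ∑ b, (Fintype.card F : ℂ) ^ (beta b).up.length * c b := by
  have hq : (Fintype.card F : ℂ) ≠ 0 := Nat.cast_ne_zero.mpr Fintype.card_ne_zero
  have hst : ∀ b s, s ≠ 0 → Φ.dimPr (Pi.single b s) = 1 ∧
      ∀ (g : G), (∀ p ∈ (beta b).up, ∀ u, Commute g (y p.1 u)) →
        ∑ ψ ∈ slice (Below b) b s [], LinearMap.trace ℂ V (ρ g * Φ.pr ψ) =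
          (Fintype.card F : ℂ) ^ (beta b).up.length *
            LinearMap.trace ℂ V (ρ g * Φ.pr (Pi.single b s)) := by
    intro b s hs
    have h := Φ.sum_dimPr_fiber (i := b) (fun t ht => htr b t ht) hs
    rw [pow_succ'] at h
    have h2 := Beta.structure_at (B := beta b) hact (hbeta b).2 hs
      (by rw [(hbeta b).1, ha]; exact mul_left_cancel₀ hq h)
    rwa [(hbeta b).1] at h2
  have hg : ∀ g : G, (∀ b, ∀ p ∈ (beta b).up, ∀ u, Commute g (y p.1 u)) → ∀ c : Fin k → ℂ,
      (∀ b s, s ≠ 0 → LinearMap.trace ℂ V (ρ g * Φ.pr (Pi.single b s)) = c b) →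
      LinearMap.trace ℂ V (ρ g * Φ.E) = LinearMap.trace ℂ V (ρ g * Φ.pr 0) +
        ((Fintype.card F : ℂ) - 1) * ∑ b, (Fintype.card F : ℂ) ^ (beta b).up.length * c b := by
    intro g hg c hc
    conv_lhs => rw [← Φ.sum_pr, Finset.mul_sum, map_sum, sum_strata]
    congr 1
    rw [Finset.mul_sum]
    refine Finset.sum_congr rfl fun b _ => ?_
    rw [Finset.sum_congr rfl fun s hs => by
        rw [(hst b s (Finset.mem_filter.1 hs).2).2 g (hg b), hc b s (Finset.mem_filter.1 hs).2],
      Finset.sum_const, nsmul_eq_mul, card_nonzero]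
  refine ⟨?_, fun b s hs => (hst b s hs).1, hg⟩
  have h := hg 1 (fun _ _ _ _ => Commute.one_left _) (fun _ => 1) (fun b s hs => by
    rw [map_one, one_mul, Φ.trace_pr, (hst b s hs).1, Nat.cast_one])
  simpa using h

/-- The trace of a root element on a coordinate line which it moves. -/
theorem Fam.Acts.trace_single_moved {Φ : Fam ρ (Fin k) F} {yy : F → G} {a : Table (Fin k)}
    (h : Φ.Acts yy a) {i b : Fin k} {e : ℤ} (he : e = 1 ∨ e = -1) (hi : a i = some (b, e)) {s : F}
    (hs : s ≠ 0) : LinearMap.trace ℂ V (ρ (yy 1) * Φ.pr (Pi.single b s)) = 0 := by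
  have hne : a.move (-1) (Pi.single b s) ≠ (Pi.single b s : Fin k → F) := by
    intro h1
    have h2 := congrFun h1 i
    rw [Table.move_some hi, Pi.single_eq_same, add_eq_left] at h2
    rcases he with rfl | rfl <;> simp [hs] at h2
  have h3 := h.trace_moved 1 (a.move (-1) (Pi.single b s))
    (by rw [Table.move_neg' h.nilp]; exact fun h4 => hne h4.symm)
  rwa [Table.move_neg' h.nilp] at h3

/-- An element not moving a coordinate commutes with its line. -/
theorem Fam.Acts.commute_pr_single {Φ : Fam ρ (Fin k) F} {yy : F → G} {a : Table (Fin k)}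
    (h : Φ.Acts yy a) {b : Fin k} (hb : ∀ i, (a i).all (fun q => decide (q.1 ≠ b)) = true) (u s : F) :
    Commute (ρ (yy u)) (Φ.pr (Pi.single b s)) := by
  refine h.commute_pr ?_
  funext i
  have h1 := hb i
  rcases ha : a i with _ | ⟨l, e⟩
  · rw [Table.move_none ha]
  · rw [ha, Option.all_some, decide_eq_true_eq] at h1
    rw [Table.move_some ha, Pi.single_eq_of_ne h1, mul_zero, add_zero]

end CfsgLib.MinDegE
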