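import Cfsg.Agent.Lib.MinDegE.Conn

set_option autoImplicit false
set_option linter.unusedSectionVars false

/-!
Certificates of the levels of the descent and their soundness.
-/

namespace CfsgLib.MinDegE

open Cfsg.Lie CfsgLib.ChevStr
open scoped MatrixGroups

/-- Sum of powers with the exponents of a list. -/
def psum (q : ℕ) (l : List ℕ) : ℕ := (l.map fun e => q ^ e).sum

theorem psum_perm (q : ℕ) {l l' : List ℕ} (h : l.Perm l') : psum q l = psum q l' :=
  (h.map _).sum_eq

theorem psum_cons (q e : ℕ) (l : List ℕ) : psum q (e :: l) = q ^ e + psum q l := rfl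

theorem psum_append (q : ℕ) (l l' : List ℕ) : psum q (l ++ l') = psum q l + psum q l' := by
  simp [psum]

theorem psum_succ (q : ℕ) (l : List ℕ) : psum q (l.map (· + 1)) = q * psum q l := by
  induction l with
  | nil => simp [psum]
  | cons e l ih => rw [List.map_cons, psum_cons, psum_cons, ih, pow_succ]; ring

/-- How the root element at the top treats a coordinate line. -/
inductive Ph (l : ℕ) where
  | moved : ℕ → Ph l
  | dec : ℕ → ℕ → Ph l
  | tor : (Fin l → ℤ) → Ph l

/-- A coordinate in certificate form. -/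
structure BetaRaw where
  up : List (ℕ × ℕ)
  dn : List (ℕ × ℕ)
  el : List (ℕ × ℕ)

/-- A level: the family, the acting roots with their action table, the coordinate certificates, and
the passage to the next level. -/
structure Lvl (D : ChevalleyDatum) where
  k : ℕ
  R : List ℕ
  L : List ℕ
  tbl : List (List ℕ)
  beta : List BetaRaw
  a : ℕ
  g : ℕ
  ph : List (Ph D.rank)
  scale : List (Fin D.rank)
  paths : List (List (Fin D.rank))

namespace Lvl

variable {D : ChevalleyDatum} (lv : Lvl D)

/-- The `i`-th root of the family. -/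
def root (i : Fin lv.k) : ℕ := lv.R.getD i.val 0

/-- The `δ`-th acting root. -/
def lroot (δ : ℕ) : ℕ := lv.L.getD δ 0

/-- The action table. -/
def act (δ : ℕ) : Table (Fin lv.k) := fun i =>
  match (lv.tbl.getD δ []).getD i.val 0 with
  | 0 => none
  | c + 1 => if h : c / 2 < lv.k then some (⟨c / 2, h⟩, if c % 2 = 0 then 1 else -1) else none

/-- Read an index. -/
def toFin (b : Fin lv.k) (n : ℕ) : Fin lv.k := if h : n < lv.k then ⟨n, h⟩ else b

/-- The certificate of a coordinate. -/
def betaAt (b : Fin lv.k) : Beta lv.k :=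
  let r := lv.beta.getD b.val ⟨[], [], []⟩
  { b := b
    up := r.up.map fun p => (p.1, lv.toFin b p.2)
    dn := r.dn.map fun p => (p.1, lv.toFin b p.2)
    el := r.el.map fun p => (p.1, lv.toFin b p.2) }

/-- The exponents of the strata. -/
def ups : List ℕ := (List.finRange lv.k).map fun b => (lv.betaAt b).up.length

/-- The table is correct. -/
def tblOK : Bool :=
  (lv.R.all fun r => decide (r < D.nroots)) && (lv.L.all fun r => decide (r < D.nroots)) &&
    decide (lv.R.length = lv.k) &&
    (List.range lv.L.length).all fun δ => (List.finRange lv.k).all fun i =>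
      match lv.act δ i with
      | none => commPair D (lv.lroot δ) (lv.root i)
      | some (l, e) => decide (pairTerm D (lv.lroot δ) (lv.root i) = some (some (lv.root l, e))) &&
          (lv.act δ l).isNone

/-- The roots of the family commute. -/
def commOK : Bool :=
  (List.finRange lv.k).all fun i => (List.finRange lv.k).all fun j =>
    decide (j ≤ i) || commPair D (lv.root i) (lv.root j)

/-- The coordinate certificates are correct. -/
def betaOK : Bool :=
  (List.finRange lv.k).all fun b => (lv.betaAt b).check lv.act (List.range lv.L.length) &&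
    decide ((lv.betaAt b).up.length + (lv.betaAt b).dn.length = lv.a)

/-- The top root element moves the coordinate. -/
def isMoved (b : Fin lv.k) : Bool :=
  match lv.ph.getD b.val (Ph.moved 0) with
  | Ph.moved _ => true
  | _ => false

/-- Whether a torus element is used. -/
def needTor : Bool := lv.ph.any fun p => match p with | Ph.tor _ => true | _ => false

/-- The treatment of a coordinate by the top root element is correct. -/
def phAt (b : Fin lv.k) : Bool :=
  let G := lv.lroot lv.g
  (lv.betaAt b).up.all (fun p => commPair D G (lv.lroot p.1)) &&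
  match lv.ph.getD b.val (Ph.moved 0) with
  | Ph.moved i =>
      decide (lv.act lv.g (lv.toFin b i) = some (b, 1) ∨ lv.act lv.g (lv.toFin b i) = some (b, -1))
  | Ph.dec d e =>
      decide (d < lv.L.length) && decide (e < lv.L.length) &&
      ((List.finRange lv.k).all fun i => ((lv.act d i).all fun q => decide (q.1 ≠ b)) &&
        (lv.act e i).all fun q => decide (q.1 ≠ b)) &&
      decide (pairTerm D (lv.lroot d) (lv.lroot e) = some (some (G, 1)) ∨
        pairTerm D (lv.lroot d) (lv.lroot e) = some (some (G, -1))) &&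
      commPair D (lv.lroot d) G && commPair D (lv.lroot e) G
  | Ph.tor y =>
      decide (((List.finRange D.rank).map fun i => y i * D.cartan i.val (lv.root b)).sum = 0) &&
      decide (((List.finRange D.rank).map fun i => y i * D.cartan i.val G).sum = 1) &&
      ((List.finRange lv.k).all fun i => (lv.act lv.g i).all fun q => decide (q.1 ≠ b))

/-- All treatments are correct. -/
def phOK : Bool := decide (lv.g < lv.L.length) && (List.finRange lv.k).all lv.phAt

/-- The exponents of the moved strata. -/
def mups : List ℕ := ((List.finRange lv.k).filter lv.isMoved).map fun b => (lv.betaAt b).up.length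

variable {F : Type*} [Field F] (C : ChevCore D F) {V : Type*} [AddCommGroup V] [Module ℂ V]
variable {ρ : Representation ℂ (D.group F) V} {E : Module.End ℂ V}

/-- The family of a level on an idempotent. -/
def fam (hE : E * E = E) (hc : ∀ r ∈ lv.R, ∀ t, Commute (ρ (xg C r t)) E)
    (hR : ∀ i j t u, ρ (xg C (lv.root i) t) * ρ (xg C (lv.root j) u) * E =
      ρ (xg C (lv.root j) u) * ρ (xg C (lv.root i) t) * E) (hlen : lv.R.length = lv.k) :
    Fam ρ (Fin lv.k) F where
  E := E
  x i t := xg C (lv.root i) t
  idem := hE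
  comm i t := hc _ (by
    rw [root, List.getD_eq_getElem _ _ (by rw [hlen]; exact i.isLt)]
    exact List.getElem_mem _) t
  add i t u := xg_add C _ t u
  comm2 := hR

theorem root_lt (h : lv.tblOK = true) (i : Fin lv.k) : lv.root i < D.nroots := by
  simp only [tblOK, Bool.and_eq_true, List.all_eq_true, decide_eq_true_eq] at h
  rw [root, List.getD_eq_getElem _ _ (by rw [h.1.2]; exact i.isLt)]
  exact h.1.1.1 _ (List.getElem_mem _)

theorem lroot_mem {δ : ℕ} (hδ : δ < lv.L.length) : lv.lroot δ ∈ lv.L := by
  rw [lroot, List.getD_eq_getElem _ _ hδ]; exact List.getElem_mem _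

theorem lroot_lt (h : lv.tblOK = true) {δ : ℕ} (hδ : δ < lv.L.length) : lv.lroot δ < D.nroots := by
  simp only [tblOK, Bool.and_eq_true, List.all_eq_true, decide_eq_true_eq] at h
  exact h.1.1.2 _ (lv.lroot_mem hδ)

theorem root_mem (h : lv.tblOK = true) (i : Fin lv.k) : lv.root i ∈ lv.R := by
  simp only [tblOK, Bool.and_eq_true, List.all_eq_true, decide_eq_true_eq] at h
  rw [root, List.getD_eq_getElem _ _ (by rw [h.1.2]; exact i.isLt)]
  exact List.getElem_mem _

theorem comm_roots (h : lv.commOK = true) (i j : Fin lv.k) (t u : F) :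
    Commute (xg C (lv.root i) t) (xg C (lv.root j) u) := by
  simp only [commOK, Bool.and_eq_true, List.all_eq_true, decide_eq_true_eq, Bool.or_eq_true] at h
  rcases lt_trichotomy i j with hij | rfl | hij
  · exact commute_of_pair C ((h i (List.mem_finRange i) j (List.mem_finRange j)).resolve_left
      (not_le.2 hij)) t u
  · show _ * _ = _ * _
    rw [← xg_add, ← xg_add, add_comm]
  · exact (commute_of_pair C ((h j (List.mem_finRange j) i (List.mem_finRange i)).resolve_left
      (not_le.2 hij)) u t).symm

theorem tbl_spec (h : lv.tblOK = true) {δ : ℕ} (hδ : δ < lv.L.length) (i : Fin lv.k) :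
    match lv.act δ i with
    | none => commPair D (lv.lroot δ) (lv.root i) = true
    | some (l, e) => pairTerm D (lv.lroot δ) (lv.root i) = some (some (lv.root l, e)) ∧
        lv.act δ l = none := by
  simp only [tblOK, Bool.and_eq_true, List.all_eq_true] at h
  have h1 := h.2 δ (List.mem_range.2 hδ) i (List.mem_finRange i)
  rcases ha : lv.act δ i with _ | ⟨l, e⟩
  · rw [ha] at h1; exact h1
  · rw [ha] at h1
    simp only [Bool.and_eq_true, decide_eq_true_eq, Option.isNone_iff_eq_none] at h1
    exact h1

variable [Fintype F] [DecidableEq F]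

theorem acts (h : lv.tblOK = true) {Φ : Fam ρ (Fin lv.k) F}
    (hx : Φ.x = fun i t => xg C (lv.root i) t)
    (hL : ∀ r ∈ lv.L, ∀ t, Commute (ρ (xg C r t)) Φ.E) {δ : ℕ} (hδ : δ < lv.L.length) :
    Φ.Acts (fun u => xg C (lv.lroot δ) u) (lv.act δ) := by
  refine ⟨fun i p hp => ?_, fun u => hL _ (lv.lroot_mem hδ) u, fun i hi u t => ?_,
    fun i l e hi u t => ?_⟩
  · obtain ⟨l, e⟩ := p
    have h1 := lv.tbl_spec h hδ i
    rw [Option.mem_def] at hp
    rw [hp] at h1
    exact h1.2
  · have h1 := lv.tbl_spec h hδ i
    rw [hi] at h1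
    simp only [hx]
    rw [← map_mul, (commute_of_pair C h1 u t).eq, map_mul]
  · have h1 := lv.tbl_spec h hδ i
    rw [hi] at h1
    have h2 := lv.tbl_spec h hδ l
    rw [h1.2] at h2
    simp only [hx]
    rw [← map_mul, shift_of_pair C h1.1 h2 u t, map_mul, map_mul]

theorem list_sum (g : Fin lv.k → ℕ) : ((List.finRange lv.k).map g).sum = ∑ b, g b :=
  (Fin.sum_univ_def g).symm

variable [FiniteDimensional ℂ V]

/-- One level: the dimension, and the trace of the top root element on the new fixed space. -/
theorem step (hT : lv.tblOK = true) (hB : lv.betaOK = true) {Φ : Fam ρ (Fin lv.k) F}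
    (hx : Φ.x = fun i t => xg C (lv.root i) t)
    (hL : ∀ r ∈ lv.L, ∀ t, Commute (ρ (xg C r t)) Φ.E) (htor : ∀ c, Commute (ρ (tor C c)) Φ.E)
    (htr : ∀ i, TrOn C ρ Φ.E (lv.root i)
      (LinearMap.trace ℂ V Φ.E - (Fintype.card F : ℂ) ^ (lv.a + 1))) :
    LinearMap.trace ℂ V Φ.E = LinearMap.trace ℂ V (Φ.pr 0) +
      ((Fintype.card F : ℂ) - 1) * (psum (Fintype.card F) lv.ups : ℂ) ∧
    (∀ r ∈ lv.L, ∀ t, Commute (ρ (xg C r t)) (Φ.pr 0)) ∧ (∀ c, Commute (ρ (tor C c)) (Φ.pr 0)) ∧
    (lv.phOK = true → (lv.needTor = true → 3 ≤ Fintype.card F) → ∀ Dg : ℂ,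
      LinearMap.trace ℂ V (ρ (xg C (lv.lroot lv.g) 1) * Φ.E) = LinearMap.trace ℂ V Φ.E - Dg →
      LinearMap.trace ℂ V (ρ (xg C (lv.lroot lv.g) 1) * Φ.pr 0) = LinearMap.trace ℂ V (Φ.pr 0) -
        (Dg - ((Fintype.card F : ℂ) - 1) * (psum (Fintype.card F) lv.mups : ℂ))) := by
  classical
  have hbeta : ∀ b, (lv.betaAt b).check lv.act (List.range lv.L.length) = true ∧
      (lv.betaAt b).up.length + (lv.betaAt b).dn.length = lv.a := fun b => by
    simp only [betaOK, Bool.and_eq_true, List.all_eq_true, decide_eq_true_eq] at hB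
    exact hB b (List.mem_finRange b)
  obtain ⟨hc, hd, hg⟩ := Φ.level (y := fun δ u => xg C (lv.lroot δ) u) (L := List.range lv.L.length)
    (fun δ hδ => lv.acts C hT hx hL (List.mem_range.1 hδ)) lv.betaAt
    (fun b => ⟨rfl, (hbeta b).1⟩) lv.a (fun b => (hbeta b).2)
    (fun i t ht => by rw [hx]; exact htr i t ht)
  have hups : ((psum (Fintype.card F) lv.ups : ℕ) : ℂ) =
      ∑ b, (Fintype.card F : ℂ) ^ (lv.betaAt b).up.length := by
    rw [psum, ups, List.map_map, list_sum, Nat.cast_sum]
    simp
  refine ⟨by rw [hups]; exact hc, fun r hr t => ?_, fun c => ?_, fun hph htor3 Dg hDg => ?_⟩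
  · obtain ⟨δ, hδ, rfl⟩ := List.mem_iff_getElem.1 hr
    have h1 := (lv.acts C hT hx hL hδ).commute_pr (u := t) (ψ := 0) (Table.move_zero _ _)
    simp only [lroot, List.getD_eq_getElem _ _ hδ] at h1
    exact h1
  · exact Φ.commute_pr_scale (c := fun i => C.R.torusChar c (C.R.α (lv.root i))) (htor c)
      (fun i t => by simp only [hx]; exact tor_conj C c (lv.root_lt hT i) t) (fun i => by simp)
  simp only [phOK, Bool.and_eq_true, List.all_eq_true, decide_eq_true_eq] at hph
  obtain ⟨hgl, hph⟩ := hph
  set g0 := xg C (lv.lroot lv.g) (1 : F) with hg0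
  have hphase : ∀ b s, s ≠ 0 → LinearMap.trace ℂ V (ρ g0 * Φ.pr (Pi.single b s)) =
      if lv.isMoved b then 0 else 1 := by
    intro b s hs
    have hb := hph b (List.mem_finRange b)
    simp only [phAt, Bool.and_eq_true] at hb
    have hb2 := hb.2
    rcases hp : lv.ph.getD b.val (Ph.moved 0) with i | ⟨d, e⟩ | y <;> simp only [hp] at hb2
    · rw [if_pos (by rw [isMoved, hp])]
      rcases of_decide_eq_true hb2 with h1 | h1
      · exact (lv.acts C hT hx hL hgl).trace_single_moved (Or.inl rfl) h1 hs
      · exact (lv.acts C hT hx hL hgl).trace_single_moved (Or.inr rfl) h1 hs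
    · rw [if_neg (by rw [isMoved, hp]; simp)]
      simp only [Bool.and_eq_true, decide_eq_true_eq, List.all_eq_true] at hb2
      obtain ⟨⟨⟨⟨⟨hd', he'⟩, hfix⟩, hpair⟩, hdG⟩, heG⟩ := hb2
      obtain ⟨σ, hσ, hσp⟩ : ∃ σ : ℤ, (σ = 1 ∨ σ = -1) ∧
          pairTerm D (lv.lroot d) (lv.lroot e) = some (some (lv.lroot lv.g, σ)) := by
        rcases hpair with h | h
        · exact ⟨1, Or.inl rfl, h⟩
        · exact ⟨-1, Or.inr rfl, h⟩
      refine (Φ.trace_commutator (hd b s hs) (a := xg C (lv.lroot d) (σ : F))
        (b := xg C (lv.lroot e) 1)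
        ((lv.acts C hT hx hL hd').commute_pr_single (fun i => (hfix i (List.mem_finRange i)).1) _ s)
        ((lv.acts C hT hx hL he').commute_pr_single (fun i => (hfix i (List.mem_finRange i)).2) _ s)
        ?_).2
      rw [shift_of_pair C hσp hdG (σ : F) 1, show ((σ : F) * σ * 1) = 1 by
        rcases hσ with rfl | rfl <;> simp, ← hg0, ← mul_assoc, (commute_of_pair C heG 1 1).eq]
    · rw [if_neg (by rw [isMoved, hp]; simp)]
      simp only [Bool.and_eq_true, decide_eq_true_eq, List.all_eq_true] at hb2
      obtain ⟨⟨hy0, hy1⟩, hfix⟩ := hb2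
      have h3 : 3 ≤ Fintype.card F := htor3 (by
        simp only [needTor, List.any_eq_true]
        refine ⟨lv.ph.getD b.val (Ph.moved 0), ?_, by rw [hp]⟩
        by_cases hlt : b.val < lv.ph.length
        · rw [List.getD_eq_getElem _ _ hlt]; exact List.getElem_mem _
        · rw [List.getD_eq_default _ _ (not_lt.1 hlt)] at hp; simp at hp)
      obtain ⟨u, hu0, hu1⟩ : ∃ u : F, u ≠ 0 ∧ u ≠ 1 := by
        by_contra hcon
        push Not at hcon
        have hsub : (Finset.univ : Finset F) ⊆ {0, 1} := fun v _ => by
          by_cases hv : v = 0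
          · simp [hv]
          · simp [hcon v hv]
        have := Finset.card_le_card hsub
        rw [Finset.card_univ] at this
        have := this.trans Finset.card_le_two
        omega
      let c : Fin D.rank → Fˣ := fun i => Units.mk0 u hu0 ^ y i
      have hchar : ∀ r < D.nroots, C.R.torusChar c (C.R.α r) = Units.mk0 u hu0 ^
          (((List.finRange D.rank).map fun i => y i * D.cartan i.val r).sum) := by
        intro r hr
        have hps : ∀ f : Fin D.rank → ℤ, ∀ t : Finset (Fin D.rank),
            ∏ i ∈ t, (Units.mk0 u hu0) ^ f i = (Units.mk0 u hu0) ^ ∑ i ∈ t, f i := by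
          intro f t
          induction t using Finset.induction_on with
          | empty => simp
          | insert a t ha ih => rw [Finset.prod_insert ha, Finset.sum_insert ha, ih, zpow_add]
        rw [C.R.torusChar_root _ hr, ← Fin.sum_univ_def, ← hps]
        exact Finset.prod_congr rfl fun i _ => (zpow_mul _ _ _).symm
      have hcg : (C.R.torusChar c (C.R.α (lv.lroot lv.g)) : F) = u := by
        rw [hchar _ (lv.lroot_lt hT hgl), hy1, zpow_one, Units.val_mk0]
      have hu' : u - 1 ≠ 0 := sub_ne_zero.2 hu1
      refine (Φ.trace_commutator (hd b s hs) (a := tor C c) (b := xg C (lv.lroot lv.g) ((u - 1)⁻¹))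
        (Φ.commute_pr_scale (c := fun i => C.R.torusChar c (C.R.α (lv.root i))) (htor c)
          (fun i t => by simp only [hx]; exact tor_conj C c (lv.root_lt hT i) t) (fun i => ?_))
        ((lv.acts C hT hx hL hgl).commute_pr_single (fun i => hfix i (List.mem_finRange i)) _ s)
        ?_).2
      · rcases eq_or_ne i b with rfl | hib
        · rw [hchar _ (lv.root_lt hT i), hy0, zpow_zero, Units.val_one, one_mul]
        · rw [Pi.single_eq_of_ne hib, mul_zero]
      · rw [tor_conj C c (lv.lroot_lt hT hgl), hcg, ← mul_assoc, hg0, ← xg_add]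
        congr 2
        field_simp
        ring
  have h1 := hg g0 (fun b p hp u => commute_of_pair C (by
      have hb := hph b (List.mem_finRange b)
      simp only [phAt, Bool.and_eq_true, List.all_eq_true] at hb
      exact hb.1 p hp) 1 u) _ hphase
  rw [hDg, hc] at h1
  have hm : ((psum (Fintype.card F) lv.ups : ℕ) : ℂ) = ((psum (Fintype.card F) lv.mups : ℕ) : ℂ) +
      ∑ b, (Fintype.card F : ℂ) ^ (lv.betaAt b).up.length * (if lv.isMoved b then 0 else 1) := by
    have hsum : psum (Fintype.card F) lv.mups =
        ∑ b, if lv.isMoved b then Fintype.card F ^ (lv.betaAt b).up.length else 0 := by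
      rw [psum, mups, List.map_map, ← List.sum_toFinset _ ((List.nodup_finRange _).filter _),
        ← Finset.sum_filter]
      refine Finset.sum_congr ?_ fun _ _ => rfl
      ext b
      simp
    rw [hsum, hups, Nat.cast_sum, ← Finset.sum_add_distrib]
    refine Finset.sum_congr rfl fun b _ => ?_
    split_ifs <;> simp
  have hm' := congrArg (fun z => ((Fintype.card F : ℂ) - 1) * z) hm
  simp only [hups, mul_add] at hm'
  linear_combination hm' - h1

end Lvl

end CfsgLib.MinDegE
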