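import Cfsg.Agent.Lib.MinDegE.HeisTop
import Cfsg.Agent.Lib.MinDegE.ClassBound
import Cfsg.Agent.Lib.MinDegE.Arith
import Cfsg.Agent.Lib.CharBound.Irreducible

set_option autoImplicit false
set_option linter.unusedSectionVars false

/-!
The minimal degree from a descent certificate and an arithmetic certificate.
-/

namespace CfsgLib.MinDegE

open Cfsg.Lie CfsgLib.ChevStr
open scoped MatrixGroups

/-- The coefficient list of a sum of powers. -/
def expPoly : List ℕ → List ℤ
  | [] => []
  | e :: l => polyAdd (List.replicate e 0 ++ [1]) (expPoly l)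

theorem polyEval_expPoly (q : ℕ) : ∀ l : List ℕ, polyEval (expPoly l) (q : ℤ) = (psum q l : ℤ)
  | [] => rfl
  | e :: l => by
    have h : ∀ e : ℕ, polyEval (List.replicate e 0 ++ [1]) (q : ℤ) = (q : ℤ) ^ e := by
      intro e
      induction e with
      | zero => simp [polyEval]
      | succ e ih => rw [List.replicate_succ, List.cons_append, polyEval_cons, ih, pow_succ]; ring
    rw [expPoly, polyEval_add, h, polyEval_expPoly q l, psum_cons]
    push_cast
    ring

/-- The data deciding a minimal degree. -/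
structure DegCert (D : ChevalleyDatum) where
  H : HData D
  H2 : HData D
  par : List ℕ
  stepsU : List (Fin D.rank × ℕ)
  stepsJ : List (Fin D.rank × ℕ)
  Mp : List ℤ
  Ttail : List ℤ
  J2 : ℕ
  th : ℕ
  rem : List RemCert

namespace DegCert

variable {D : ChevalleyDatum} (P : DegCert D)

/-- The bound as a coefficient list. -/
def Tp : List ℤ := 0 :: P.Ttail

/-- The checks independent of the field. -/
def okArith : Bool :=
  samePoly (polyAdd (polyMul [-1, 1] (expPoly P.H.exps)) [(P.rem.length : ℤ)]) P.Tp &&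
    decide (polyEval P.Tp 2 ≤ (psum 2 P.H2.exps : ℤ) + P.J2) &&
    decide (P.rem.length ≤ P.th) && decide (P.H.lvA.k = P.H2.lvA.k) &&
    decide (0 < P.H.lv0.k) && decide (0 < P.H2.lv0.k) && decide (P.H.alpha = P.H2.alpha) &&
    !anyTor (P.H2.next :: P.H2.rest) &&
    remOK P.Mp P.Tp P.H.lvA.k P.th P.rem &&
    parCheck D P.H.alpha P.par

/-- The check for the smallest field. -/
def okTwo : Bool := smallAt P.Mp P.Tp (P.H.lvA.k + 1) P.J2 2

/-- The checks for the small fields. -/
def okSmall : Bool :=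
  (List.range (P.th + 1)).all fun q =>
    decide (q < 3) || smallAt P.Mp P.Tp (P.H.lvA.k + 1) P.rem.length q

/-- The Poincaré polynomials give the class multiple. -/
def okPoinc : Bool :=
  match chainPoly D (List.finRange D.rank) P.stepsU,
      chainPoly D ((List.finRange D.rank).filter fun i => decide (i.val ∈ P.par)) P.stepsJ with
  | some u, some j =>
      samePoly (polyMul P.Mp (j.foldr polyMul [1])) (polyMul [-1, 1] (u.foldr polyMul [1]))
  | _, _ => false

variable {F : Type*} [Field F] [Fintype F]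

theorem class_dvd_eval (C : ChevCore D F) (hp : P.okPoinc = true)
    (hc : parCheck D P.H.alpha P.par = true) :
    ∃ M : ℕ, (M : ℤ) = polyEval P.Mp (Fintype.card F) ∧
      Nat.card {x : D.group F // IsConj (xg C P.H.alpha 1) x} ∣ M := by
  classical
  set q : ℤ := (Fintype.card F : ℤ) with hq
  have hq1 : 1 ≤ q := by
    have := Fintype.card_pos (α := F)
    omega
  unfold okPoinc at hp
  rcases hU : chainPoly D (List.finRange D.rank) P.stepsU with _ | u <;> rw [hU] at hp
  · simp at hp
  rcases hJ : chainPoly D ((List.finRange D.rank).filter fun i => decide (i.val ∈ P.par)) P.stepsJ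
    with _ | j <;> rw [hJ] at hp
  · simp at hp
  have h := samePoly_eval hp q
  rw [polyEval_mul, polyEval_mul, polyEval_prod, polyEval_prod,
    ← C.hR.poincare_chain q P.stepsU _ u hU, ← C.hR.poincare_chain q P.stepsJ _ j hJ] at h
  simp only [polyEval_cons, polyEval_nil, mul_zero, add_zero, mul_one] at h
  rw [show (List.finRange D.rank).toFinset = (Finset.univ : Finset (Fin D.rank)) by ext; simp,
    show ((List.finRange D.rank).filter fun i => decide (i.val ∈ P.par)).toFinset =
      SteinbergChar.fs D P.par.toFinset by ext i; simp [SteinbergChar.mem_fs]] at h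
  have hpos : ∀ J, 0 < C.hR.poincare J q := fun J => by
    refine Finset.sum_pos (fun w _ => pow_pos (by omega) _) ⟨1, ?_⟩
    rw [Set.Finite.mem_toFinset]
    exact one_mem _
  have hnn : 0 ≤ polyEval P.Mp q := by
    have h1 := hpos (SteinbergChar.fs D P.par.toFinset)
    have h2 := hpos Finset.univ
    nlinarith
  refine ⟨(polyEval P.Mp q).toNat, Int.toNat_of_nonneg hnn, class_dvd C hc _ ?_⟩
  rw [Int.toNat_of_nonneg hnn]
  linear_combination h

end DegCert

/-- The minimal degree. -/
theorem min_degree {D : ChevalleyDatum} {F : Type*} [Field F] [Fintype F] (C : ChevCore D F)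
    (P : DegCert D) (hR : P.H.okRoots = true) (hP : P.H.okPol = true) (hC : P.H.okChain = true)
    (hR2 : P.H2.okRoots = true) (hP2 : P.H2.okPol = true) (hC2 : P.H2.okChain = true)
    (hA : P.okArith = true) (hT2 : P.okTwo = true) (hS : P.okSmall = true) (hM : P.okPoinc = true)
    {T : ℕ} (hT : (T : ℤ) = polyEval P.Tp (Fintype.card F))
    (hlow : T ≤ 2 * ((Fintype.card F - 1) *
      (Fintype.card F ^ P.H.lvA.k + Fintype.card F ^ (P.H.lvA.k - 1))))
    (hbig : Fintype.card F ^ (P.H.lvA.k + 1) + Fintype.card F ≤ T)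
    {n : ℕ} (ρ : Representation ℂ (D.group F) (Fin n → ℂ)) (hρ : ρ.IsIrreducible) (hn : 2 ≤ n) :
    T ≤ n := by
  classical
  by_contra hlt
  simp only [DegCert.okArith, Bool.and_eq_true, decide_eq_true_eq, Bool.not_eq_true'] at hA
  obtain ⟨⟨⟨⟨⟨⟨⟨⟨⟨hid, h2id⟩, hJth⟩, hk2⟩, hk0⟩, hk02⟩, hal⟩, htor2⟩, hrem⟩, hpar⟩ := hA
  have hnt : ¬ ∀ g, ρ g = 1 := fun h => by
    have := CharBound.finrank_eq_one_of_trivial ρ hρ h
    rw [Module.finrank_fin_fun] at this
    omega
  set q := Fintype.card F with hq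
  have hq2 : 2 ≤ q := Fintype.one_lt_card
  obtain ⟨Hd, J, hHd, hsmall, hid'⟩ : ∃ (Hd : HData D) (J : ℕ),
      ((Hd.okRoots = true ∧ Hd.okPol = true ∧ Hd.okChain = true ∧ 0 < Hd.lv0.k) ∧
        (anyTor (Hd.next :: Hd.rest) = true → 3 ≤ q) ∧ Hd.lvA.k = P.H.lvA.k ∧ Hd.alpha = P.H.alpha) ∧
      (q < 3 ∧ J = P.J2 ∨ 3 ≤ q ∧ J = P.rem.length) ∧
      T ≤ (q - 1) * psum q Hd.exps + J := by
    rcases Nat.lt_or_ge q 3 with h3 | h3
    · refine ⟨P.H2, P.J2, ⟨⟨hR2, hP2, hC2, hk02⟩, fun h => ?_, hk2.symm, hal.symm⟩,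
        Or.inl ⟨h3, rfl⟩, ?_⟩
      · rw [htor2] at h; exact absurd h (by simp)
      · have hq' : q = 2 := by omega
        rw [hq', show (2 - 1 : ℕ) = 1 from rfl, one_mul]
        rw [hq'] at hT
        have : (T : ℤ) ≤ ((psum 2 P.H2.exps + P.J2 : ℕ) : ℤ) := by
          rw [hT]
          push_cast
          exact h2id
        exact_mod_cast this
    · refine ⟨P.H, P.rem.length, ⟨⟨hR, hP, hC, hk0⟩, fun _ => h3, rfl, rfl⟩, Or.inr ⟨h3, rfl⟩, ?_⟩
      have h := samePoly_eval hid (q : ℤ)
      rw [polyEval_add, polyEval_mul, polyEval_expPoly, ← hT] at h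
      simp only [polyEval_cons, polyEval_nil, mul_zero, add_zero] at h
      have h1 : (((q - 1) * psum q P.H.exps + P.rem.length : ℕ) : ℤ) = (T : ℤ) := by
        push_cast [Nat.cast_sub (by omega : 1 ≤ q)]
        linear_combination h
      exact le_of_eq (by exact_mod_cast h1.symm)
  obtain ⟨⟨hR', hP', hC', hk'⟩, htor', hlvk, hal'⟩ := hHd
  have := hρ
  rcases descent Hd C hR' hP' hC' hk' htor' hnt with h | ⟨hlow', hchar⟩
  · rw [Module.finrank_fin_fun, hlvk, ← hq] at h
    omega
  · rw [Module.finrank_fin_fun, ← hq] at hlow'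
    rw [Module.finrank_fin_fun, hlvk, hal', ← hq] at hchar
    set cl := Nat.card {x : D.group F // IsConj (xg C P.H.alpha 1) x}
    have hdiv : n ∣ cl * q ^ (P.H.lvA.k + 1) := by
      refine Characters.nat_dvd_of_isIntegral_div (by omega) ?_
      have hint := Characters.isIntegral_class_mul_char_div ρ (xg C P.H.alpha 1)
      rw [hchar, Module.finrank_fin_fun] at hint
      have hn0 : (n : ℂ) ≠ 0 := Nat.cast_ne_zero.2 (by omega)
      have e : ((cl * q ^ (P.H.lvA.k + 1) : ℕ) : ℂ) / (n : ℂ) =
          (cl : ℂ) - (cl : ℂ) * ((n : ℂ) - (q : ℂ) ^ (P.H.lvA.k + 1)) / (n : ℂ) := by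
        push_cast
        field_simp
        ring
      rw [e]
      have h0 : IsIntegral ℤ (cl : ℂ) := by
        simpa using isIntegral_algebraMap (R := ℤ) (A := ℂ) (x := (cl : ℤ))
      exact h0.sub hint
    obtain ⟨M, hMeq, hclM⟩ := P.class_dvd_eval C hM hpar
    have hdM : n ∣ M * q ^ (P.H.lvA.k + 1) := hdiv.trans (mul_dvd_mul_right hclM _)
    have hnj : (n : ℤ) + ((T - n : ℕ) : ℤ) = polyEval P.Tp q := by
      rw [← hT, Nat.cast_sub (by omega : n ≤ T)]; ring
    have hdZ : (n : ℤ) ∣ polyEval P.Mp q * (q : ℤ) ^ (P.H.lvA.k + 1) := by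
      rw [← hMeq]
      exact_mod_cast Int.natCast_dvd_natCast.2 hdM
    rcases hsmall with ⟨h3, hJ⟩ | ⟨h3, hJ⟩
    · have hq' : q = 2 := by omega
      rw [hq'] at hnj hdZ
      exact small_spec hT2 (j := T - n) (by omega) (by omega) hnj hdZ
    · rcases Nat.lt_or_ge P.th q with hth | hth
      · obtain ⟨X, hX⟩ : ∃ X : ℕ, n + (T - n) = q * X := by
          have h1 : (q : ℤ) ∣ (T : ℤ) := by
            rw [hT, DegCert.Tp, polyEval_cons, zero_add]
            exact dvd_mul_right _ _
          obtain ⟨X, hX⟩ := Int.natCast_dvd_natCast.1 h1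
          exact ⟨X, by omega⟩
        exact large_spec (q := q) hrem (hq ▸ FiniteField.isPrimePow_card F) hth (j := T - n) (by omega) (by omega)
          hJth hX hnj hMeq (by omega) hdM
      · have h := List.all_eq_true.1 hS q (List.mem_range.2 (by omega))
        rw [Bool.or_eq_true, decide_eq_true_eq] at h
        exact small_spec (h.resolve_left (by omega)) (j := T - n) (by omega) (by omega) hnj hdZ

end CfsgLib.MinDegE
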