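import Cfsg.Agent.Lib.MinDegE.Fam

set_option autoImplicit false
set_option linter.unusedSectionVars false

/-!
The action on characters of a root element normalising a commuting family of root subgroups.
-/

namespace CfsgLib.MinDegE

open Matrix CfsgLib.KnownSimple.ModulePerm

section Comb

variable {F : Type*} [Field F] {κ : Type*} [Fintype κ] [DecidableEq κ]

/-- `i ↦ some (l, e)`: the root `i` is moved to `i` plus the root `l` with coefficient `e`. -/
abbrev Table (κ : Type*) : Type _ := κ → Option (κ × ℤ)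

/-- No target is a source. -/
def Table.Nilp (a : Table κ) : Prop := ∀ i, ∀ p ∈ a i, a p.1 = none

instance (a : Table κ) : Decidable a.Nilp :=
  decidable_of_iff (∀ i, (a i).all (fun p => (a p.1).isNone) = true) <| by
    refine forall_congr' fun i => ?_
    cases a i <;> simp

/-- The contribution of a source. -/
def Table.part (a : Table κ) (u : F) (ψ : κ → F) (i : κ) : F :=
  match a i with
  | none => 0
  | some (l, e) => (e : F) * u * ψ l

/-- The transformation of characters. -/
def Table.move (a : Table κ) (u : F) (ψ : κ → F) : κ → F := fun i => ψ i + a.part u ψ i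

theorem Table.part_none {a : Table κ} {u : F} {ψ : κ → F} {i : κ} (h : a i = none) : a.part u ψ i = 0 := by
  rw [Table.part, h]

theorem Table.part_some {a : Table κ} {u : F} {ψ : κ → F} {i l : κ} {e : ℤ} (h : a i = some (l, e)) :
    a.part u ψ i = (e : F) * u * ψ l := by
  rw [Table.part, h]

theorem Table.move_none {a : Table κ} {u : F} {ψ : κ → F} {i : κ} (h : a i = none) : a.move u ψ i = ψ i := by
  rw [Table.move, Table.part_none h, add_zero]

theorem Table.move_some {a : Table κ} {u : F} {ψ : κ → F} {i l : κ} {e : ℤ} (h : a i = some (l, e)) :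
    a.move u ψ i = ψ i + (e : F) * u * ψ l := by
  rw [Table.move, Table.part_some h]

theorem Table.move_zero (a : Table κ) (u : F) : a.move u (0 : κ → F) = 0 := by
  funext i
  rcases h : a i with _ | ⟨l, e⟩
  · rw [Table.move_none h]
  · rw [Table.move_some h]; simp

theorem Table.move_neg {a : Table κ} (ha : a.Nilp) (u : F) (ψ : κ → F) : a.move (-u) (a.move u ψ) = ψ := by
  funext i
  rcases h : a i with _ | ⟨l, e⟩
  · rw [Table.move_none h, Table.move_none h]
  · have hl : a l = none := by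
      have := ha i (l, e) (by rw [h]; rfl)
      exact this
    rw [Table.move_some h, Table.move_some h, Table.move_none hl]
    ring

theorem Table.move_neg' {a : Table κ} (ha : a.Nilp) (u : F) (ψ : κ → F) : a.move u (a.move (-u) ψ) = ψ := by
  simpa using Table.move_neg ha (-u) ψ

/-- The contribution of a source to the dual transformation. -/
def Table.col (a : Table κ) (u : F) (i : κ) (t : F) : κ → F :=
  match a i with
  | none => 0
  | some (l, e) => Pi.single l ((e : F) * u * t)

theorem Table.col_none {a : Table κ} {u t : F} {i : κ} (h : a i = none) : a.col u i t = 0 := by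
  rw [Table.col, h]

theorem Table.col_some {a : Table κ} {u t : F} {i l : κ} {e : ℤ} (h : a i = some (l, e)) :
    a.col u i t = Pi.single l ((e : F) * u * t) := by
  rw [Table.col, h]

/-- The dual transformation. -/
def Table.dual (a : Table κ) (u : F) : (κ → F) →+ (κ → F) where
  toFun w := w + ∑ i, a.col u i (w i)
  map_zero' := by
    rw [zero_add]
    refine Finset.sum_eq_zero fun i _ => ?_
    rcases h : a i with _ | ⟨l, e⟩
    · rw [Table.col_none h]
    · rw [Table.col_some h]; simp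
  map_add' v w := by
    rw [add_add_add_comm, ← Finset.sum_add_distrib]
    congr 1
    refine Finset.sum_congr rfl fun i _ => ?_
    rcases h : a i with _ | ⟨l, e⟩
    · simp [Table.col_none h]
    · simp only [Table.col_some h, ← Pi.single_add, Pi.add_apply, mul_add]

theorem Table.dual_apply (a : Table κ) (u : F) (w : κ → F) :
    a.dual u w = w + ∑ i, a.col u i (w i) := rfl

theorem Table.dual_single (a : Table κ) (u : F) (i : κ) (t : F) :
    a.dual u (Pi.single i t) = Pi.single i t + a.col u i t := by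
  rw [Table.dual_apply, Finset.sum_eq_single i]
  · simp
  · intro j _ hj
    rcases h : a j with _ | ⟨l, e⟩
    · rw [Table.col_none h]
    · rw [Table.col_some h]; simp [hj]
  · simp

theorem Table.move_dot (a : Table κ) (u : F) (ψ w : κ → F) : a.move u ψ ⬝ᵥ w = ψ ⬝ᵥ a.dual u w := by
  rw [Table.dual_apply, dotProduct_add, dotProduct_sum]
  simp only [dotProduct, Table.move, add_mul, Finset.sum_add_distrib]
  congr 1
  refine Finset.sum_congr rfl fun i _ => ?_
  show a.part u ψ i * w i = ψ ⬝ᵥ a.col u i (w i)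
  rcases h : a i with _ | ⟨l, e⟩
  · rw [Table.part_none h, Table.col_none h, zero_mul, dotProduct_zero]
  · rw [Table.part_some h, Table.col_some h, dotProduct_single]; ring

theorem Table.dual_injective {a : Table κ} (ha : a.Nilp) (u : F) : Function.Injective (a.dual u) := by
  intro v w hvw
  rw [← sub_eq_zero]
  refine dotProduct_eq_zero _ fun ψ => ?_
  rw [dotProduct_comm]
  have h : ∀ φ, a.move u φ ⬝ᵥ (v - w) = 0 := fun φ => by
    rw [Table.move_dot, map_sub, hvw, sub_self, dotProduct_zero]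
  have := h (a.move (-u) ψ)
  rwa [Table.move_neg' ha] at this

end Comb

section Op

variable {G V : Type*} [Group G] [AddCommGroup V] [Module ℂ V]
variable {F : Type*} [Field F] [Fintype F] [DecidableEq F] {κ : Type*} [Fintype κ] [DecidableEq κ]
variable {ρ : Representation ℂ G V}

namespace Fam

variable (Φ : Fam ρ κ F)

/-- The one-parameter subgroup `y` acts on the family by the table `a`. -/
structure Acts (y : F → G) (a : Table κ) : Prop where
  nilp : a.Nilp
  commE : ∀ u, Commute (ρ (y u)) Φ.E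
  fix : ∀ i, a i = none → ∀ u t, ρ (y u) * ρ (Φ.x i t) * Φ.E = ρ (Φ.x i t) * ρ (y u) * Φ.E
  shift : ∀ i l e, a i = some (l, e) → ∀ u t, ρ (y u) * ρ (Φ.x i t) * Φ.E =
    ρ (Φ.x i t) * ρ (Φ.x l ((e : F) * u * t)) * ρ (y u) * Φ.E

variable {Φ}

theorem Acts.single {y : F → G} {a : Table κ} (h : Φ.Acts y a) (u : F) (i : κ) (t : F) :
    ρ (y u) * (ρ (Φ.x i t) * Φ.E) = Φ.tau (a.dual u (Pi.single i t)) * ρ (y u) := by
  rw [Table.dual_single, ← Φ.tau_add, Φ.tau_single, ← mul_assoc (ρ (y u))]
  rcases ha : a i with _ | ⟨l, e⟩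
  · rw [h.fix i ha u t, Table.col_none ha, Φ.tau_zero, mul_assoc _ Φ.E Φ.E, Φ.idem,
      mul_assoc (ρ (Φ.x i t)), mul_assoc (ρ (Φ.x i t)), (h.commE u).eq]
  · rw [h.shift i l e ha u t, Table.col_some ha, Φ.tau_single, mul_assoc _ Φ.E,
      ← mul_assoc Φ.E (ρ (Φ.x l _)), ← (Φ.comm l _).eq, mul_assoc (ρ (Φ.x l _)) Φ.E Φ.E, Φ.idem,
      mul_assoc _ (ρ (y u)) Φ.E, (h.commE u).eq]
    simp only [mul_assoc]

theorem Acts.intertwines {y : F → G} {a : Table κ} (h : Φ.Acts y a) (u : F) (w : κ → F) :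
    ρ (y u) * Φ.tau w = Φ.tau (a.dual u w) * ρ (y u) := by
  have h1 := Φ.intertwine (g := ρ (y u)) (0 : κ → F) (a.dual u) (h.commE u) (fun i t => by
    rw [Pi.zero_apply, zero_mul, AddChar.map_zero_eq_one, one_smul, h.single]) w
  rwa [zero_dotProduct, AddChar.map_zero_eq_one, one_smul] at h1

theorem Acts.mul_pr {y : F → G} {a : Table κ} (h : Φ.Acts y a) (u : F) (ψ : κ → F) :
    ρ (y u) * Φ.pr (a.move u ψ) = Φ.pr ψ * ρ (y u) :=
  Φ.mul_pr (η := 0) (A := a.dual u) (Table.dual_injective h.nilp u) (fun w => by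
    rw [zero_dotProduct, AddChar.map_zero_eq_one, one_smul, h.intertwines]) ψ _
    fun w => by rw [zero_dotProduct, add_zero, Table.move_dot]

theorem Acts.commute_pr {y : F → G} {a : Table κ} (h : Φ.Acts y a) {u : F} {ψ : κ → F}
    (hψ : a.move u ψ = ψ) : Commute (ρ (y u)) (Φ.pr ψ) := by
  have := h.mul_pr u ψ
  rwa [hψ] at this

variable [FiniteDimensional ℂ V]

/-- The trace of an operator on an eigenspace is invariant under the elements commuting with it. -/
theorem Acts.trace_move {y : F → G} {a : Table κ} (h : Φ.Acts y a) (u : F) {g : G}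
    (hg : Commute g (y u)) (ψ : κ → F) :
    LinearMap.trace ℂ V (ρ g * Φ.pr (a.move u ψ)) = LinearMap.trace ℂ V (ρ g * Φ.pr ψ) := by
  have h1 : Φ.pr (a.move u ψ) = ρ (y u)⁻¹ * (Φ.pr ψ * ρ (y u)) := by
    rw [← h.mul_pr, ← mul_assoc, ← map_mul, inv_mul_cancel, map_one, one_mul]
  rw [h1, ← mul_assoc, ← map_mul, hg.inv_right.eq, map_mul ρ, mul_assoc,
    LinearMap.trace_mul_comm ℂ (ρ (y u)⁻¹), mul_assoc, mul_assoc (Φ.pr ψ), ← map_mul, mul_inv_cancel,
    map_one, mul_one]

theorem Acts.dimPr_move {y : F → G} {a : Table κ} (h : Φ.Acts y a) (u : F) (ψ : κ → F) :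
    Φ.dimPr (a.move u ψ) = Φ.dimPr ψ := by
  have h1 := h.trace_move u (g := 1) (Commute.one_left _) ψ
  rw [map_one, one_mul, one_mul, Φ.trace_pr, Φ.trace_pr] at h1
  exact_mod_cast h1

/-- An operator moving an eigenspace has trace zero on it. -/
theorem Acts.trace_moved {y : F → G} {a : Table κ} (h : Φ.Acts y a) (u : F) (ψ : κ → F)
    (hψ : a.move u ψ ≠ ψ) : LinearMap.trace ℂ V (ρ (y u) * Φ.pr (a.move u ψ)) = 0 :=
  OrthDeg.trace_zero_of_moved (X' := Φ.pr ψ) (by rw [Φ.pr_mul_pr, if_pos rfl]) (h.mul_pr u ψ)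
    (by rw [Φ.pr_mul_pr, if_neg hψ])

/-- A commutator of two elements preserving a one-dimensional eigenspace is trivial on it. -/
theorem trace_commutator {ψ : κ → F} (hd : Φ.dimPr ψ = 1) {g a b : G} (ha : Commute (ρ a) (Φ.pr ψ))
    (hb : Commute (ρ b) (Φ.pr ψ)) (hg : g * (b * a) = a * b) :
    ρ g * Φ.pr ψ = Φ.pr ψ ∧ LinearMap.trace ℂ V (ρ g * Φ.pr ψ) = 1 := by
  have hP : Φ.pr ψ * Φ.pr ψ = Φ.pr ψ := by rw [Φ.pr_mul_pr, if_pos rfl]
  have ht : LinearMap.trace ℂ V (Φ.pr ψ) = 1 := by rw [Φ.trace_pr, hd, Nat.cast_one]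
  have hA := SLMinDeg.mul_eq_trace_smul _ _ hP ht ha
  have hB := SLMinDeg.mul_eq_trace_smul _ _ hP ht hb
  set x := LinearMap.trace ℂ V (ρ a * Φ.pr ψ)
  set y := LinearMap.trace ℂ V (ρ b * Φ.pr ψ)
  have hab : ρ (a * b) * Φ.pr ψ = (y * x) • Φ.pr ψ := by
    rw [map_mul, mul_assoc, hB, mul_smul_comm, hA, smul_smul]
  have hba : ρ (b * a) * Φ.pr ψ = (x * y) • Φ.pr ψ := by
    rw [map_mul, mul_assoc, hA, mul_smul_comm, hB, smul_smul]
  have hne : x * y ≠ 0 := by
    intro h0
    have h1 : Φ.pr ψ = ρ (b * a)⁻¹ * (ρ (b * a) * Φ.pr ψ) := by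
      rw [← mul_assoc, ← map_mul, inv_mul_cancel, map_one, one_mul]
    rw [hba, h0, zero_smul, mul_zero] at h1
    rw [h1, map_zero] at ht
    exact one_ne_zero ht.symm
  have h2 : (x * y) • (ρ g * Φ.pr ψ) = (x * y) • Φ.pr ψ := by
    rw [← mul_smul_comm, ← hba, ← mul_assoc, ← map_mul, hg, hab, hba, mul_comm]
  have h3 : ρ g * Φ.pr ψ = Φ.pr ψ := smul_right_injective _ hne h2
  exact ⟨h3, by rw [h3, ht]⟩

end Fam

end Op

end CfsgLib.MinDegE
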