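import Cfsg.Agent.Lib.MinDegE.Move

set_option autoImplicit false
set_option linter.unusedSectionVars false

/-!
The support of a commuting family under a certified set of root elements of a Levi subgroup: every
stratum by the highest nonzero coordinate is one orbit with one-dimensional eigenspaces.
-/

namespace CfsgLib.MinDegE

open Matrix

/-- The certificate of a coordinate `b`: elements moving the neighbours above and below, and the
elimination steps for the stabiliser. -/
structure Beta (k : ℕ) where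
  b : Fin k
  up : List (ℕ × Fin k)
  dn : List (ℕ × Fin k)
  el : List (ℕ × Fin k)
  deriving DecidableEq

namespace Beta

variable {k : ℕ} (B : Beta k)

/-- The neighbours. -/
def nbr : List (Fin k) := (B.up ++ B.dn).map Prod.snd

/-- The coordinate and its neighbours. -/
def core : List (Fin k) := B.b :: B.nbr

/-- One step of elimination. -/
def elimStep (act : ℕ → Table (Fin k)) (L : List ℕ) (acc : Option (List (Fin k))) (p : ℕ × Fin k) :
    Option (List (Fin k)) :=
  acc.bind fun z => match act p.1 p.2 with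
    | none => none
    | some (ρ, e) =>
      if p.1 ∈ L ∧ (e = 1 ∨ e = -1) ∧
          B.core.all (fun j => (act p.1 j).all fun q => decide (q.1 ∈ z)) = true then some (ρ :: z)
      else none

/-- A neighbour is moved regularly. -/
def moveOK (act : ℕ → Table (Fin k)) (L : List ℕ) (p : ℕ × Fin k) : Bool :=
  decide (p.1 ∈ L) && decide (act p.1 p.2 = some (B.b, 1) ∨ act p.1 p.2 = some (B.b, -1)) &&
    B.core.all fun j => decide (j = p.2) || (act p.1 j).isNone

/-- All conditions on the certificate. -/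
def check (act : ℕ → Table (Fin k)) (L : List ℕ) : Bool :=
  decide B.nbr.Nodup && decide (B.b ∉ B.nbr) &&
    ((B.up ++ B.dn).all fun p => B.moveOK act L p) &&
    (B.up.all fun p => (List.finRange k).all fun i => (act p.1 i).all fun q => decide (i < q.1)) &&
    (B.dn.all fun p => decide (B.b < p.2)) &&
    match B.el.foldl (B.elimStep act L) (some B.nbr) with
    | none => false
    | some z => (List.finRange k).all fun i => decide (i = B.b) || decide (i ∈ z)

end Beta

variable {G V : Type*} [Group G] [AddCommGroup V] [Module ℂ V] [FiniteDimensional ℂ V]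
variable {F : Type*} [Field F] [Fintype F] [DecidableEq F] {k : ℕ}
variable {ρ : Representation ℂ G V}

section Peel

variable {κ : Type*} [Fintype κ] [DecidableEq κ]

/-- Characters with value `s` at `b`, a property `Q` and zero on a list. -/
def slice (Q : (κ → F) → Prop) [DecidablePred Q] (b : κ) (s : F) (Z : List κ) : Finset (κ → F) :=
  Finset.univ.filter fun ψ => ψ b = s ∧ Q ψ ∧ ∀ j ∈ Z, ψ j = 0

theorem mem_slice {Q : (κ → F) → Prop} [DecidablePred Q] {b : κ} {s : F} {Z : List κ} {ψ : κ → F} :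
    ψ ∈ slice Q b s Z ↔ ψ b = s ∧ Q ψ ∧ ∀ j ∈ Z, ψ j = 0 := by
  simp [slice]

/-- An invariant weight summed over a slice, one coordinate at a time. -/
theorem sum_peel {Q : (κ → F) → Prop} [DecidablePred Q] {b : κ} {s : F} (hs : s ≠ 0)
    (w : (κ → F) → ℂ) : ∀ (l : List (Table κ × κ)) (Z : List κ),
    (∀ p ∈ l, p.1.Nilp ∧ (p.1 p.2 = some (b, 1) ∨ p.1 p.2 = some (b, -1)) ∧
      (∀ j ∈ b :: (l.map Prod.snd ++ Z), j ≠ p.2 → p.1 j = none) ∧
      (∀ u ψ, w (p.1.move u ψ) = w ψ) ∧ ∀ (u : F) ψ, ψ b = s → Q ψ → Q (p.1.move u ψ)) →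
    (l.map Prod.snd).Nodup → (∀ p ∈ l, p.2 ≠ b ∧ p.2 ∉ Z) →
    ∑ ψ ∈ slice Q b s Z, w ψ =
      (Fintype.card F : ℂ) ^ l.length * ∑ ψ ∈ slice Q b s (l.map Prod.snd ++ Z), w ψ
  | [], Z => fun _ _ _ => by simp
  | (a, μ) :: l, Z => fun h hnd hne => by
    classical
    obtain ⟨ha, he, hfix, hw, hQ⟩ := h (a, μ) List.mem_cons_self
    obtain ⟨hμb, hμZ⟩ := hne (a, μ) List.mem_cons_self
    have hnd' := List.nodup_cons.1 (by simpa using hnd : (μ :: l.map Prod.snd).Nodup)
    have hperm : ∀ j, j ∈ l.map Prod.snd ++ μ :: Z ↔ j ∈ ((a, μ) :: l).map Prod.snd ++ Z := fun j => by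
      simp only [List.map_cons, List.mem_append, List.mem_cons, List.cons_append]; tauto
    have hb : a b = none := hfix b List.mem_cons_self (Ne.symm hμb)
    have hZ : ∀ j ∈ Z, a j = none := fun j hj =>
      hfix j (by simp [hj]) fun e => hμZ (e ▸ hj)
    obtain ⟨e, he1, hμ⟩ : ∃ e : ℤ, (e = 1 ∨ e = -1) ∧ a μ = some (b, e) := by
      rcases he with he | he
      · exact ⟨1, Or.inl rfl, he⟩
      · exact ⟨-1, Or.inr rfl, he⟩
    have hee : (e : F) * (e : F) = 1 := by rcases he1 with rfl | rfl <;> simp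
    have hstep : ∀ v : F, ∑ ψ ∈ (slice Q b s Z).filter (fun ψ => ψ μ = v), w ψ =
        ∑ ψ ∈ slice Q b s (μ :: Z), w ψ := by
      intro v
      set u : F := (e : F) * v / s with hu
      have hus : (e : F) * u * s = v := by
        rw [hu, mul_assoc, div_mul_cancel₀ _ hs, ← mul_assoc, hee, one_mul]
      refine Finset.sum_nbij' (i := a.move (-u)) (j := a.move u) ?_ ?_ ?_ ?_ ?_
      · intro ψ hψ
        rw [Finset.mem_filter, mem_slice] at hψ
        obtain ⟨⟨h1, h2, h3⟩, h4⟩ := hψ
        rw [mem_slice]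
        refine ⟨by rw [Table.move_none hb, h1], hQ _ _ h1 h2, fun j hj => ?_⟩
        rcases List.mem_cons.1 hj with rfl | hj
        · rw [Table.move_some hμ, h4, h1, mul_neg, neg_mul, hus, add_neg_cancel]
        · rw [Table.move_none (hZ j hj), h3 j hj]
      · intro ψ hψ
        rw [mem_slice] at hψ
        obtain ⟨h1, h2, h3⟩ := hψ
        rw [Finset.mem_filter, mem_slice]
        refine ⟨⟨by rw [Table.move_none hb, h1], hQ _ _ h1 h2, fun j hj => ?_⟩, ?_⟩
        · rw [Table.move_none (hZ j hj), h3 j (List.mem_cons_of_mem _ hj)]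
        · rw [Table.move_some hμ, h3 μ List.mem_cons_self, h1, hus, zero_add]
      · exact fun ψ _ => Table.move_neg' ha u ψ
      · exact fun ψ _ => Table.move_neg ha u ψ
      · exact fun ψ _ => (hw _ ψ).symm
    rw [← Finset.sum_fiberwise (slice Q b s Z) (fun ψ => ψ μ), Finset.sum_congr rfl fun v _ => hstep v,
      Finset.sum_const, Finset.card_univ, nsmul_eq_mul,
      sum_peel hs w l (μ :: Z) (fun p hp => by
        obtain ⟨q1, q2, q3, q4, q5⟩ := h p (List.mem_cons_of_mem _ hp)
        refine ⟨q1, q2, fun j hj hjp => q3 j ?_ hjp, q4, q5⟩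
        rcases List.mem_cons.1 hj with rfl | hj
        · exact List.mem_cons_self
        · exact List.mem_cons_of_mem _ ((hperm j).1 hj)) hnd'.2 (fun p hp => by
        obtain ⟨q1, q2⟩ := hne p (List.mem_cons_of_mem _ hp)
        refine ⟨q1, fun h' => ?_⟩
        rcases List.mem_cons.1 h' with h' | h'
        · exact hnd'.1 (h' ▸ List.mem_map.2 ⟨p, hp, rfl⟩)
        · exact q2 h'),
      List.length_cons, pow_succ, show slice Q b s (l.map Prod.snd ++ μ :: Z) =
        slice Q b s (((a, μ) :: l).map Prod.snd ++ Z) from by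
          ext ψ; simp only [mem_slice, hperm]]
    ring

end Peel

/-- Vanishing above a coordinate. -/
def Below (b : Fin k) (ψ : Fin k → F) : Prop := ∀ i, b < i → ψ i = 0

instance (b : Fin k) : DecidablePred (Below (F := F) b) := fun _ => inferInstanceAs (Decidable (∀ _, _))

namespace Beta

variable {Φ : Fam ρ (Fin k) F} {y : ℕ → F → G} {act : ℕ → Table (Fin k)} {L : List ℕ} {B : Beta k}

theorem elim_spec (hact : ∀ δ ∈ L, Φ.Acts (y δ) (act δ)) {s : F} {p : Fin k → F} (hp : p B.b = s)
    (huniq : ∀ q : Fin k → F, q B.b = s → (∀ j ∈ B.nbr, q j = 0) → q ≠ p → Φ.dimPr q = 0)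
    (hpd : Φ.dimPr p ≠ 0) (hnb : ∀ j ∈ B.nbr, p j = 0) :
    ∀ (el : List (ℕ × Fin k)) (z z' : List (Fin k)), (∀ j ∈ z, p j = 0) →
      el.foldl (B.elimStep act L) (some z) = some z' → ∀ j ∈ z', p j = 0
  | [], z, z' => fun hz h => by
    simp only [List.foldl_nil, Option.some.injEq] at h
    exact h ▸ hz
  | (δ, i) :: el, z, z' => fun hz h => by
    rw [List.foldl_cons] at h
    have hnone : ∀ el : List (ℕ × Fin k), el.foldl (B.elimStep act L) none = none := by
      intro el
      induction el with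
      | nil => rfl
      | cons a el ih => rw [List.foldl_cons]; exact ih
    rcases ha : act δ i with _ | ⟨r, e⟩
    · simp [Beta.elimStep, ha, hnone] at h
    · by_cases hc : δ ∈ L ∧ (e = 1 ∨ e = -1) ∧
          B.core.all (fun j => (act δ j).all fun q => decide (q.1 ∈ z)) = true
      · simp only [Beta.elimStep, Option.bind_some, ha, if_pos hc] at h
        refine elim_spec hact hp huniq hpd hnb el (r :: z) z' (fun j hj => ?_) h
        rcases List.mem_cons.1 hj with rfl | hj
        · obtain ⟨hδ, he, hall⟩ := hc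
          have hkeep : ∀ j' ∈ B.core, (act δ).move 1 p j' = p j' := by
            intro j' hj'
            have h1 := List.all_eq_true.1 hall j' hj'
            rcases ha' : act δ j' with _ | ⟨l, e'⟩
            · exact Table.move_none ha'
            · rw [ha', Option.all_some, decide_eq_true_eq] at h1
              rw [Table.move_some ha', hz l h1, mul_zero, add_zero]
          have hfix : (act δ).move 1 p = p := by
            by_contra hne
            refine hpd ?_
            rw [← (hact δ hδ).dimPr_move 1 p]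
            exact huniq _ (by rw [hkeep _ List.mem_cons_self, hp])
              (fun j' hj' => by rw [hkeep _ (List.mem_cons_of_mem _ hj'), hnb j' hj']) hne
          have h2 := congrFun hfix i
          rw [Table.move_some ha, add_eq_left, mul_one] at h2
          rcases he with rfl | rfl <;> simpa using h2
        · exact hz j hj
      · simp only [Beta.elimStep, Option.bind_some, ha, if_neg hc, hnone] at h
        simp at h

theorem moveOK_spec {p : ℕ × Fin k} (h : B.moveOK act L p = true) :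
    p.1 ∈ L ∧ (act p.1 p.2 = some (B.b, 1) ∨ act p.1 p.2 = some (B.b, -1)) ∧
      ∀ j ∈ B.core, j ≠ p.2 → act p.1 j = none := by
  simp only [Beta.moveOK, Bool.and_eq_true, decide_eq_true_eq, List.all_eq_true, Bool.or_eq_true,
    Option.isNone_iff_eq_none] at h
  exact ⟨h.1.1, h.1.2, fun j hj hjp => (h.2 j hj).resolve_left hjp⟩

/-- The structure of the eigenspaces with a nonzero coordinate `b`. -/
theorem structure_at (hact : ∀ δ ∈ L, Φ.Acts (y δ) (act δ)) (hB : B.check act L = true) {s : F}
    (hs : s ≠ 0)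
    (hM : ∑ ψ ∈ Finset.univ.filter (fun ψ : Fin k → F => ψ B.b = s), (Φ.dimPr ψ : ℂ) =
      (Fintype.card F : ℂ) ^ (B.up.length + B.dn.length)) :
    Φ.dimPr (Pi.single B.b s) = 1 ∧ ∀ (g : G), (∀ p ∈ B.up, ∀ u, Commute g (y p.1 u)) →
      ∑ ψ ∈ slice (Below B.b) B.b s [], LinearMap.trace ℂ V (ρ g * Φ.pr ψ) =
        (Fintype.card F : ℂ) ^ B.up.length * LinearMap.trace ℂ V (ρ g * Φ.pr (Pi.single B.b s)) := by
  classical
  simp only [Beta.check, Bool.and_eq_true, decide_eq_true_eq, List.all_eq_true] at hB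
  obtain ⟨⟨⟨⟨⟨hnd, hbn⟩, hmv⟩, hup⟩, hdn⟩, hel⟩ := hB
  have hmove := fun p hp => moveOK_spec (hmv p hp)
  have hq : (Fintype.card F : ℂ) ≠ 0 := Nat.cast_ne_zero.mpr Fintype.card_ne_zero
  let tb : ℕ × Fin k → Table (Fin k) × Fin k := fun p => (act p.1, p.2)
  have hsnd : ∀ l : List (ℕ × Fin k), (l.map tb).map Prod.snd = l.map Prod.snd := fun l => by
    rw [List.map_map]; rfl
  -- the whole slice
  have key := sum_peel (Q := fun _ => True) (b := B.b) hs (fun ψ => (Φ.dimPr ψ : ℂ))
    ((B.up ++ B.dn).map tb) [] (fun p' hp' => by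
      obtain ⟨p, hp, rfl⟩ := List.mem_map.1 hp'
      obtain ⟨h1, h2, h3⟩ := hmove p hp
      refine ⟨(hact _ h1).nilp, h2, fun j hj hjp => h3 j ?_ hjp, fun u ψ => ?_, fun _ _ _ _ => trivial⟩
      · rw [List.append_nil, hsnd] at hj; exact hj
      · exact_mod_cast (hact _ h1).dimPr_move u ψ)
    (by rw [hsnd]; exact hnd) (fun p' hp' => by
      obtain ⟨p, hp, rfl⟩ := List.mem_map.1 hp'
      exact ⟨fun e => hbn (e ▸ List.mem_map.2 ⟨p, hp, rfl⟩), by simp⟩)
  rw [show slice (fun _ => True) B.b s [] = Finset.univ.filter (fun ψ : Fin k → F => ψ B.b = s) by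
    ext ψ; simp [mem_slice], hM, List.length_map, List.length_append, hsnd, List.append_nil] at key
  have h1 : ∑ ψ ∈ slice (fun _ => True) B.b s B.nbr, Φ.dimPr ψ = 1 := by
    have := mul_left_cancel₀ (pow_ne_zero _ hq) (key.symm.trans (mul_one _).symm)
    exact_mod_cast this
  obtain ⟨p, hpS, hpd⟩ := Finset.exists_ne_zero_of_sum_ne_zero (by rw [h1]; exact one_ne_zero)
  have hp1 : Φ.dimPr p = 1 ∧ ∀ q ∈ slice (fun _ => True) B.b s B.nbr, q ≠ p → Φ.dimPr q = 0 := by
    rw [← Finset.add_sum_erase _ _ hpS] at h1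
    have h2 : ∑ ψ ∈ (slice (fun _ => True) B.b s B.nbr).erase p, Φ.dimPr ψ = 0 := by omega
    exact ⟨by omega, fun q hq' hne =>
      Finset.sum_eq_zero_iff.1 h2 q (Finset.mem_erase.2 ⟨hne, hq'⟩)⟩
  obtain ⟨hpb, -, hpn⟩ := mem_slice.1 hpS
  have huniq : ∀ q : Fin k → F, q B.b = s → (∀ j ∈ B.nbr, q j = 0) → q ≠ p → Φ.dimPr q = 0 :=
    fun q q1 q2 => hp1.2 q (mem_slice.2 ⟨q1, trivial, q2⟩)
  have hps : p = Pi.single B.b s := by
    rcases hz : B.el.foldl (B.elimStep act L) (some B.nbr) with _ | z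
    · rw [hz] at hel; simp at hel
    · rw [hz] at hel
      simp only [List.all_eq_true, Bool.or_eq_true, decide_eq_true_eq] at hel
      funext i
      rcases hel i (List.mem_finRange i) with rfl | hi
      · rw [Pi.single_eq_same, hpb]
      · have h0 := elim_spec hact hpb huniq hpd hpn B.el B.nbr z hpn hz i hi
        have hne : i ≠ B.b := fun e => hs (by rw [← hpb, ← e, h0])
        rw [Pi.single_eq_of_ne hne, h0]
  subst hps
  refine ⟨hp1.1, fun g hg => ?_⟩
  rw [sum_peel hs (fun ψ => LinearMap.trace ℂ V (ρ g * Φ.pr ψ)) (B.up.map tb) [] (fun p' hp' => by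
      obtain ⟨p, hp, rfl⟩ := List.mem_map.1 hp'
      obtain ⟨h1, h2, h3⟩ := hmove p (List.mem_append_left _ hp)
      refine ⟨(hact _ h1).nilp, h2, fun j hj hjp => h3 j ?_ hjp,
        fun u ψ => (hact _ h1).trace_move u (hg p hp u) ψ, fun u ψ hψb hψ i hi => ?_⟩
      · rw [List.append_nil, hsnd] at hj
        rcases List.mem_cons.1 hj with rfl | hj
        · exact List.mem_cons_self
        · refine List.mem_cons_of_mem _ ?_
          rw [Beta.nbr, List.map_append]; exact List.mem_append_left _ hj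
      · show (act p.1).move u ψ i = 0
        rcases ha : act p.1 i with _ | ⟨l, e⟩
        · rw [Table.move_none ha]; exact hψ i hi
        · have h4 := hup p hp i (List.mem_finRange i)
          rw [ha, Option.all_some, decide_eq_true_eq] at h4
          rw [Table.move_some ha, hψ i hi, hψ l (hi.trans h4), mul_zero, add_zero])
    (by
      rw [hsnd]
      rw [Beta.nbr, List.map_append] at hnd
      exact hnd.of_append_left)
    (fun p' hp' => by
      obtain ⟨p, hp, rfl⟩ := List.mem_map.1 hp'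
      exact ⟨fun e => hbn (e ▸ List.mem_map.2 ⟨p, List.mem_append_left _ hp, rfl⟩), by simp⟩),
    List.length_map, hsnd, List.append_nil]
  congr 1
  rw [Finset.sum_eq_single (Pi.single B.b s)]
  · intro ψ hψ hne
    obtain ⟨h1', h2', h3'⟩ := mem_slice.1 hψ
    have h0 : Φ.dimPr ψ = 0 := huniq ψ h1' (fun j hj => by
      obtain ⟨q, hq', rfl⟩ := List.mem_map.1 hj
      rcases List.mem_append.1 hq' with hq' | hq'
      · exact h3' _ (List.mem_map.2 ⟨q, hq', rfl⟩)
      · exact h2' _ (hdn q hq')) hne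
    rw [Φ.pr_eq_zero h0, mul_zero, map_zero]
  · intro hmem
    refine absurd ((mem_slice (Q := Below B.b)).2 ⟨by simp, fun i (hi : B.b < i) => ?_, fun j hj => ?_⟩) hmem
    · exact Pi.single_eq_of_ne hi.ne' _
    · refine Pi.single_eq_of_ne (fun e => hbn ?_) _
      rw [← e, Beta.nbr, List.map_append]
      exact List.mem_append_left _ hj

end Beta

/-- The characters split by their highest nonzero coordinate. -/
theorem sum_strata {M : Type*} [AddCommMonoid M] (w : (Fin k → F) → M) :
    ∑ ψ, w ψ = w 0 + ∑ b : Fin k, ∑ s ∈ Finset.univ.filter (fun s : F => s ≠ 0),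
      ∑ ψ ∈ slice (Below b) b s [], w ψ := by
  classical
  rw [← Finset.add_sum_erase _ _ (Finset.mem_univ (0 : Fin k → F))]
  congr 1
  have h1 : ∀ b : Fin k, (∑ s ∈ Finset.univ.filter (fun s : F => s ≠ 0), ∑ ψ ∈ slice (Below b) b s [], w ψ) =
      ∑ ψ ∈ Finset.univ.filter (fun ψ : Fin k → F => ψ b ≠ 0 ∧ Below b ψ), w ψ := by
    intro b
    rw [← Finset.sum_fiberwise_of_maps_to (g := fun ψ : Fin k → F => ψ b)
      (t := Finset.univ.filter fun s : F => s ≠ 0) (fun ψ hψ => Finset.mem_filter.2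
        ⟨Finset.mem_univ _, (Finset.mem_filter.1 hψ).2.1⟩)]
    refine Finset.sum_congr rfl fun s hs => Finset.sum_congr ?_ fun _ _ => rfl
    have hs' := (Finset.mem_filter.1 hs).2
    ext ψ
    simp only [mem_slice, Finset.mem_filter, Finset.mem_univ, true_and, List.not_mem_nil,
      IsEmpty.forall_iff, implies_true, and_true]
    exact ⟨fun h => ⟨⟨h.1.symm ▸ hs', h.2⟩, h.1⟩, fun h => ⟨h.2, h.1.2⟩⟩
  rw [Finset.sum_congr rfl fun b _ => h1 b, ← Finset.sum_biUnion]
  · refine Finset.sum_congr ?_ fun _ _ => rfl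
    ext ψ
    simp only [Finset.mem_erase, Finset.mem_univ, and_true, Finset.mem_biUnion, Finset.mem_filter,
      true_and]
    refine ⟨fun h => ?_, fun ⟨b, hb, _⟩ h => hb (by rw [h]; rfl)⟩
    have hne : (Finset.univ.filter fun i : Fin k => ψ i ≠ 0).Nonempty := by
      obtain ⟨i, hi⟩ := Function.ne_iff.1 h
      exact ⟨i, Finset.mem_filter.2 ⟨Finset.mem_univ _, hi⟩⟩
    refine ⟨_, (Finset.mem_filter.1 (Finset.max'_mem _ hne)).2, fun i hi => ?_⟩
    by_contra hi0
    exact absurd (Finset.le_max' _ i (Finset.mem_filter.2 ⟨Finset.mem_univ _, hi0⟩)) (not_le.2 hi)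
  · intro b _ c _ hbc
    simp only [Function.onFun, Finset.disjoint_left, Finset.mem_filter, Finset.mem_univ, true_and]
    rintro ψ ⟨h1, h2⟩ ⟨h3, h4⟩
    rcases lt_or_gt_of_ne hbc with h | h
    · exact h3 (h2 c h)
    · exact h1 (h4 b h)

end CfsgLib.MinDegE
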